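import Cfsg.Agent.Mrg.Omega.LemmaK
import Cfsg.Agent.Mrg.Omega.LemmaK.Main
import Cfsg.Agent.ZN.ChoiceSit


/-!
# TEXT R1 (4), (5), (6) (helper609 #14539, with the improvements of helper938 #15330)

`G` a finite group of characteristic 2 type, `S` a Sylow 2-subgroup, `B = bau S` the Baumann subgroup, `Z_J = zj S`,
`D = C_G(Z_J)`. `𝓑 L V` is a family of blocks `L` over `B` with module `V` (`LemmaK.Block`), invariant under `N_G(B)`,
such that `Z_J` is in the product of the modules (`Fam`).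

* `norm_zj`, `le_sup`, `syl` : `N_G(B) ≤ N_G(Z_J) = D N_G(B)`, `B` is Sylow in `D` (4);
* `K0 S 𝓑 = ⟨D, all blocks⟩`, `norm_K0`;
* (5) `Fam.dich` : if `K0` normalises a nontrivial 2-subgroup then `o2 (K0)` is a nontrivial subgroup of `D`,
  normalised by `⟨K0, N_G(B)⟩`;
* (6) `Fam.gen` : in that case, `M ≥ ⟨K0, N_G(B)⟩` any subgroup, `H` a subgroup of characteristic 2 with Sylow
  2-subgroup `T ≥ B`: `H` is generated by `H ∩ M` and the minimal parabolics `Y` over `T` with `J(T) ≰ O₂(Y)`,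
  `[Ω₁(Z(T)), Y] = 1` and `O₂(Y) ≰ B`.
-/

set_option autoImplicit false

namespace Cfsg.Agent.Omega.OM.Dich

open Subgroup Cfsg Cfsg.Agent.ZN.ChoiceBase Cfsg.Agent.ZN.ChoiceSit
open Cfsg.Agent.ZN (jj zj bau zc zl o2)
open Cfsg.Agent.MinSimple.MinParabolic (IsMinPar)
open Cfsg.Agent.MinSimple.VModule (oddGen mem_oddGen le_normalizer_oddGen oddGen_le)
open Cfsg.Agent.Omega.LemmaK (Block)
open Cfsg.Agent.Omega.LemmaK.Main (le_normalizer_bau)
open scoped Pointwise

universe u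

variable {G : Type u} [Group G]

/-! ### (4) -/

theorem cj_eq_smul (g : G) (H : Subgroup G) : cj g H = MulAut.conj g • H := rfl

theorem norm_zj [Finite G] (S : Subgroup G) :
    normalizer (bau S : Set G) ≤ normalizer (zj S : Set G) := by
  have h := normalizer_le_of_cj (F := zj) zj_cj (bau S)
  rwa [zj_bau] at h

theorem bau_le_cent (S : Subgroup G) : bau S ≤ centralizer (zj S : Set G) := inf_le_right

theorem norm_cent {A : Subgroup G} : normalizer (A : Set G) ≤ normalizer (centralizer (A : Set G) : Set G) := by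
  intro g hg
  rw [mem_normalizer_iff_cj, cj_centralizer, cj_eq_of_mem_normalizer hg]

/-- `B` is a Sylow 2-subgroup of `C_G(Z_J)`. -/
theorem syl [Finite G] (S : Sylow 2 G) :
    Syl (bau (S : Subgroup G)) (centralizer (zj (S : Subgroup G) : Set G)) := by
  refine ⟨bau_le_cent _, S.isPGroup'.to_le (bau_le _), fun T hT h2 hBT => ?_⟩
  have h1 := LemmaK.Main.bau_eq S h2 hBT
  have h3 := LemmaK.Main.zj_eq S h2 hBT
  have h4 : bau T = T := by
    rw [bau, inf_eq_left, h3]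
    exact hT
  rw [← h4, h1]

/-- Frattini: `N_G(Z_J) = C_G(Z_J) N_G(B)`. -/
theorem exists_frattini [Finite G] (S : Sylow 2 G) {g : G}
    (hg : g ∈ normalizer (zj (S : Subgroup G) : Set G)) :
    ∃ d ∈ centralizer (zj (S : Subgroup G) : Set G), ∃ n ∈ normalizer (bau (S : Subgroup G) : Set G), g = d * n := by
  have h1 := syl S
  have h2 : Syl (cj g (bau (S : Subgroup G))) (centralizer (zj (S : Subgroup G) : Set G)) := by
    have e := cj_eq_of_mem_normalizer (norm_cent hg)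
    refine ⟨?_, isPGroup_cj g h1.2.1, fun T hT hp hle => ?_⟩
    · rw [← e]; exact cj_mono g h1.1
    · have h3 : cj g⁻¹ T ≤ centralizer (zj (S : Subgroup G) : Set G) := by
        have e' := cj_eq_of_mem_normalizer (inv_mem (norm_cent hg))
        rw [← e']; exact cj_mono _ hT
      have h4 := h1.2.2 (cj g⁻¹ T) h3 (isPGroup_cj _ hp) (cj_le_iff.1 hle)
      rw [← h4, cj_cj_inv]
  obtain ⟨d, hd, e⟩ := syl_conj h1 h2
  refine ⟨d, hd, d⁻¹ * g, ?_, by group⟩
  rw [mem_normalizer_iff_cj, ← cj_cj, ← e, cj_inv_cj]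

theorem norm_zj_le [Finite G] (S : Sylow 2 G) : normalizer (zj (S : Subgroup G) : Set G) ≤
    centralizer (zj (S : Subgroup G) : Set G) ⊔ normalizer (bau (S : Subgroup G) : Set G) := by
  intro g hg
  obtain ⟨d, hd, n, hn, rfl⟩ := exists_frattini S hg
  exact mul_mem (mem_sup_left hd) (mem_sup_right hn)

/-- A 2-subgroup containing `B` normalises everything which `N_G(B)` normalises. -/
theorem two_le [Finite G] (S : Sylow 2 G) {T : Subgroup G} (hT : IsPGroup 2 T) (h : bau (S : Subgroup G) ≤ T) :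
    T ≤ normalizer (bau (S : Subgroup G) : Set G) := le_normalizer_bau S hT h

/-- `P = O²(P) T` -/
theorem oddGen_sup_syl [Finite G] {P S : Subgroup G} (hS : Syl S P) : oddGen P ⊔ S = P := by
  have : Fact (Nat.Prime 2) := ⟨Nat.prime_two⟩
  have hSyl := syl_not_dvd hS
  apply le_antisymm (sup_le (oddGen_le P) hS.1)
  have hN : ((oddGen P).subgroupOf P).Normal := normal_subgroupOf_of_le_normalizer (le_normalizer_oddGen P)
  have h1 : IsPGroup 2 (P ⧸ (oddGen P).subgroupOf P) := by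
    intro q
    obtain ⟨x, rfl⟩ := QuotientGroup.mk_surjective q
    obtain ⟨a, m, hm, ha⟩ := Nat.exists_eq_pow_mul_and_not_dvd (orderOf_pos (x : G)).ne' 2 (by norm_num)
    refine ⟨a, ?_⟩
    rw [← QuotientGroup.mk_pow, QuotientGroup.eq_one_iff, mem_subgroupOf]
    refine mem_oddGen (P.pow_mem x.2 _) ?_
    have hm0 : 0 < m := Nat.pos_of_ne_zero (by rintro rfl; simp at hm)
    have h2 : orderOf ((x : G) ^ 2 ^ a) = m := by
      rw [orderOf_pow_of_dvd (by positivity) (ha ▸ Dvd.intro _ rfl), ha, Nat.mul_div_cancel_left _ (by positivity)]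
    rw [coe_pow, h2]
    exact Nat.not_even_iff_odd.1 fun h => hm h.two_dvd
  obtain ⟨k, hk⟩ := IsPGroup.iff_card.1 h1
  have h2 : (oddGen P ⊔ S).relIndex P ∣ 2 ^ k := by
    have h3 : (oddGen P ⊔ S).relIndex P ∣ (oddGen P).relIndex P := relIndex_dvd_of_le_left _ le_sup_left
    have h4 : (oddGen P).relIndex P = 2 ^ k := by
      rw [← hk, relIndex, index_eq_card]
    rwa [h4] at h3
  obtain ⟨j, -, hj⟩ := (Nat.dvd_prime_pow Nat.prime_two).1 h2
  have h5 : (oddGen P ⊔ S).relIndex P ∣ S.relIndex P := relIndex_dvd_of_le_left _ le_sup_right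
  rw [hj] at h5
  rcases Nat.eq_zero_or_pos j with rfl | hj0
  · rw [pow_zero] at hj
    exact relIndex_eq_one.1 hj
  · exact absurd ((dvd_pow_self 2 hj0.ne').trans h5) hSyl

/-! ### The family of blocks -/

/-- A family of blocks over `bau S`, invariant under `N_G(bau S)`, whose modules generate a group containing `Z_J`. -/
structure Fam [Finite G] (S : Sylow 2 G) (𝓑 : Subgroup G → Subgroup G → Prop) : Prop where
  blk : ∀ L V, 𝓑 L V → Block 2 (bau (S : Subgroup G)) L V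
  conj : ∀ n ∈ normalizer (bau (S : Subgroup G) : Set G), ∀ L V, 𝓑 L V → 𝓑 (cj n L) (cj n V)
  zj_le : zj (S : Subgroup G) ≤ ⨆ i : {x : Subgroup G × Subgroup G // 𝓑 x.1 x.2}, i.1.2

/-- `⟨C_G(Z_J), all blocks⟩` -/
def K0 (S : Subgroup G) (𝓑 : Subgroup G → Subgroup G → Prop) : Subgroup G :=
  centralizer (zj S : Set G) ⊔ ⨆ i : {x : Subgroup G × Subgroup G // 𝓑 x.1 x.2}, i.1.1

section fam

variable {S : Sylow 2 G} {𝓑 : Subgroup G → Subgroup G → Prop}

theorem cent_le_K0 : centralizer (zj (S : Subgroup G) : Set G) ≤ K0 (S : Subgroup G) 𝓑 := le_sup_left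

theorem blk_le_K0 {L V : Subgroup G} (h : 𝓑 L V) : L ≤ K0 (S : Subgroup G) 𝓑 :=
  le_sup_of_le_right (le_iSup (fun i : {x : Subgroup G × Subgroup G // 𝓑 x.1 x.2} => i.1.1) ⟨(L, V), h⟩)

theorem bau_le_K0 : bau (S : Subgroup G) ≤ K0 (S : Subgroup G) 𝓑 := (bau_le_cent _).trans cent_le_K0

variable [Finite G]

/-- `N_G(B)` normalises `K0`. -/
theorem norm_K0 (F : Fam S 𝓑) :
    normalizer (bau (S : Subgroup G) : Set G) ≤ normalizer (K0 (S : Subgroup G) 𝓑 : Set G) := by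
  intro n hn
  refine mem_normalizer_of_cj_le ?_
  have e : cj n (K0 (S : Subgroup G) 𝓑) = cj n (centralizer (zj (S : Subgroup G) : Set G)) ⊔
      ⨆ i : {x : Subgroup G × Subgroup G // 𝓑 x.1 x.2}, cj n i.1.1 := by
    rw [K0, cj, Subgroup.map_sup, Subgroup.map_iSup]
  rw [e, cj_centralizer, cj_eq_of_mem_normalizer (norm_zj _ hn)]
  exact sup_le cent_le_K0 (iSup_le fun i => blk_le_K0 (F.conj n hn _ _ i.2))

/-- A 2-group normalised by `K0` centralises `Z_J`. -/
theorem Fam.le_cent (F : Fam S 𝓑) {W : Subgroup G} (hW : IsPGroup 2 W)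
    (hK : K0 (S : Subgroup G) 𝓑 ≤ normalizer (W : Set G)) : W ≤ centralizer (zj (S : Subgroup G) : Set G) := by
  have : Fact (Nat.Prime 2) := ⟨Nat.prime_two⟩
  have h1 : (⨆ i : {x : Subgroup G × Subgroup G // 𝓑 x.1 x.2}, i.1.2) ≤ centralizer (W : Set G) := by
    refine iSup_le fun i => ?_
    have h2 := (F.blk _ _ i.2).le_centralizer hW ((blk_le_K0 i.2).trans hK)
    exact le_centralizer_iff.1 h2
  exact le_centralizer_iff.1 (F.zj_le.trans h1)

/-- **(5)** If `K0` normalises a nontrivial 2-subgroup, then `O₂(K0)` is one, it lies in `C_G(Z_J)` and is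
normalised by `⟨K0, N_G(B)⟩`. -/
theorem Fam.dich (F : Fam S 𝓑) {R : Subgroup G} (hR : IsPGroup 2 R) (hR1 : R ≠ ⊥)
    (hK : K0 (S : Subgroup G) 𝓑 ≤ normalizer (R : Set G)) :
    o2 (K0 (S : Subgroup G) 𝓑) ≠ ⊥ ∧ o2 (K0 (S : Subgroup G) 𝓑) ≤ bau (S : Subgroup G) ∧
      K0 (S : Subgroup G) 𝓑 ⊔ normalizer (bau (S : Subgroup G) : Set G) ≤
        normalizer (o2 (K0 (S : Subgroup G) 𝓑) : Set G) := by
  set K := K0 (S : Subgroup G) 𝓑 with hKdef
  have h1 : R ≤ K := (F.le_cent hR hK).trans cent_le_K0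
  have h2 : R ≤ o2 K := le_o2 hR h1 hK
  have h3 : o2 K ≤ centralizer (zj (S : Subgroup G) : Set G) := F.le_cent (isPGroup_o2 K) (le_normalizer_o2 K)
  refine ⟨fun h => hR1 (by rw [eq_bot_iff, ← h]; exact h2), ?_, sup_le (le_normalizer_o2 K) ?_⟩
  · -- `O₂(K)` is normalised by `D`, so it is in every Sylow subgroup of `D`
    have h4 : o2 K ≤ o2 (centralizer (zj (S : Subgroup G) : Set G)) :=
      le_o2 (isPGroup_o2 K) h3 (cent_le_K0.trans (le_normalizer_o2 K))
    exact h4.trans (o2_le_syl (syl S))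
  · intro n hn
    have h5 := norm_K0 F hn
    rw [mem_normalizer_iff_cj, ← pCore_cj, cj_eq_of_mem_normalizer h5]

/-! ### (6) -/

/-- The fixed point statement (helper857 #12910 (c)) for `T`, `H`: if `[Ω₁(Z(T)), H] = 1` and `J(T) ≰ O₂(H)` then
`O²(H)` centralises `Ω₁(Z(O₂(H)))`. -/
def FixPt (T H : Subgroup G) : Prop :=
  ¬ jj T ≤ o2 H → H ≤ centralizer (zc T : Set G) → zc (o2 H) ≤ centralizer (oddGen H : Set G)

/-- `H` is generated by `T` and the blocks over `bau S` in `𝓑` if it moves `Ω₁(Z(T))` and `J(T) ≰ O₂(H)`. -/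
def BlkGen (S : Subgroup G) (𝓑 : Subgroup G → Subgroup G → Prop) (T H : Subgroup G) : Prop :=
  ¬ jj T ≤ o2 H → ¬ H ≤ centralizer (zc T : Set G) → H ≤ K0 S 𝓑 ⊔ T

/-- **(6) (O1+).** `H` has characteristic 2 and a Sylow 2-subgroup `T ≥ B`; `M` contains `K0` and `N_G(B)`. Then `H` is
generated by `H ∩ M` and the minimal parabolics `Y` over `T` with `J(T) ≰ O₂(Y)`, `[Ω₁(Z(T)), Y] = 1` and
`O₂(Y) ≰ B`. -/
theorem gen {M H T : Subgroup G} (hK : K0 (S : Subgroup G) 𝓑 ≤ M)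
    (hN : normalizer (bau (S : Subgroup G) : Set G) ≤ M) (hT : Syl T H) (hB : bau (S : Subgroup G) ≤ T)
    (hc : H ⊓ centralizer (o2 H : Set G) ≤ o2 H)
    (hfix : ∀ Y : Subgroup G, IsMinPar T Y → Y ≤ H → FixPt T Y)
    (hblk : ∀ Y : Subgroup G, IsMinPar T Y → Y ≤ H → BlkGen (S : Subgroup G) 𝓑 T Y) :
    H ≤ (H ⊓ M) ⊔ ⨆ Y : {Y : Subgroup G // IsMinPar T Y ∧ Y ≤ H ∧ ¬ jj T ≤ o2 Y ∧
      Y ≤ centralizer (zc T : Set G) ∧ ¬ o2 Y ≤ bau (S : Subgroup G)}, (Y : Subgroup G) := by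
  have hTM : T ≤ M := (two_le S hT.2.1 hB).trans hN
  have hjj : jj T = jj (S : Subgroup G) := LemmaK.Main.jj_eq S hT.2.1 hB
  have hzj : zj T = zj (S : Subgroup G) := LemmaK.Main.zj_eq S hT.2.1 hB
  have hbau : bau T = bau (S : Subgroup G) := LemmaK.Main.bau_eq S hT.2.1 hB
  have hD : centralizer (zj (S : Subgroup G) : Set G) ≤ M := cent_le_K0.trans hK
  refine MinSimple.MinParabolic.le_of_forall hT.1 ?_ fun Y hY hYH => ?_
  · -- `N_H(T) ≤ N(B)`
    refine le_sup_of_le_left (inf_le_inf_left _ ?_)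
    refine le_trans ?_ hN
    rw [← hbau]
    exact normalizer_le_bau T
  have hcase : Y ≤ M → Y ≤ (H ⊓ M) ⊔ ⨆ Y : {Y : Subgroup G // IsMinPar T Y ∧ Y ≤ H ∧ ¬ jj T ≤ o2 Y ∧
      Y ≤ centralizer (zc T : Set G) ∧ ¬ o2 Y ≤ bau (S : Subgroup G)}, (Y : Subgroup G) :=
    fun h => le_sup_of_le_left (le_inf hYH h)
  have hTY : Syl T Y := ⟨hY.le, hT.2.1, fun Q hQ h2 hTQ => hT.2.2 Q (hQ.trans hYH) h2 hTQ⟩
  by_cases h1 : jj T ≤ o2 Y
  · -- `J(T)` is normal in `Y`
    apply hcase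
    have h2 : o2 Y ≤ T := o2_le_syl hTY
    have h3 : jj (o2 Y) = jj T := jj_eq_of_jj_le h1 h2
    have h4 : Y ≤ normalizer (jj (S : Subgroup G) : Set G) := by
      rw [← hjj, ← h3]
      exact (le_normalizer_o2 Y).trans (normalizer_le_jj _)
    have h5 : Y ≤ normalizer (zj (S : Subgroup G) : Set G) := by
      have h6 : normalizer (jj (S : Subgroup G) : Set G) ≤ normalizer (zj (S : Subgroup G) : Set G) := by
        have h7 := normalizer_le_of_cj (F := zj) zj_cj (jj (S : Subgroup G))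
        have h8 : zj (jj (S : Subgroup G)) = zj (S : Subgroup G) :=
          zj_congr (jj_eq_of_jj_le le_rfl (jj_le _))
        rwa [h8] at h7
      exact h4.trans h6
    exact h5.trans ((norm_zj_le S).trans (sup_le hD hN))
  by_cases h2 : Y ≤ centralizer (zc T : Set G)
  · by_cases h3 : o2 Y ≤ bau (S : Subgroup G)
    · apply hcase
      -- `Z_J ≤ Ω₁(Z(O₂(Y)))`
      have h4 : o2 H ≤ o2 Y := by
        refine le_o2 (isPGroup_o2 H) ((o2_le_syl hT).trans hY.le) (hYH.trans (le_normalizer_o2 H))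
      have hcY : Y ⊓ centralizer (o2 Y : Set G) ≤ o2 Y := by
        rintro x ⟨hx, hxc⟩
        exact h4 (hc ⟨hYH hx, centralizer_le (by exact_mod_cast h4) hxc⟩)
      have h5 : zj (S : Subgroup G) ≤ zc (o2 Y) := by
        intro z hz
        have hzT : z ∈ T := by
          rw [← hzj] at hz
          exact jj_le T (mem_zj.1 hz).1
        have hcz : ∀ y ∈ o2 Y, y * z = z * y := fun y hy => ((mem_bau.1 (h3 hy)).2 z hz).symm
        refine mem_zc.2 ⟨hcY ⟨hY.le hzT, mem_centralizer_iff.2 hcz⟩, ?_, hcz⟩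
        exact (mem_zj.1 hz).2.1
      have h6 := h5.trans (hfix Y hY hYH h1 h2)
      have h7 : oddGen Y ≤ M := (le_centralizer_iff.1 h6).trans hD
      have h8 : oddGen Y ⊔ T = Y := Cfsg.Agent.Omega.OM.Dich.oddGen_sup_syl hTY
      rw [← h8]
      exact sup_le h7 hTM
    · exact le_sup_of_le_right (le_iSup (fun Y : {Y : Subgroup G // IsMinPar T Y ∧ Y ≤ H ∧ ¬ jj T ≤ o2 Y ∧
        Y ≤ centralizer (zc T : Set G) ∧ ¬ o2 Y ≤ bau (S : Subgroup G)} => (Y : Subgroup G))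
        ⟨Y, hY, hYH, h1, h2, h3⟩)
  · exact hcase ((hblk Y hY hYH h1 h2).trans (sup_le hK hTM))

end fam

end Cfsg.Agent.Omega.OM.Dich
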