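import Cfsg.Agent.Mrg.Omega.OM.Uni
import Cfsg.Agent.Mrg.Omega.SQ1.FFKNat
import Cfsg.Agent.Mrg.Omega.LemmaK
import Cfsg.Agent.ZN.Facts
import Cfsg.Agent.ZN.ChoiceSit
import Cfsg.Agent.PLocal.OffenderStep

section


/-!
# Natural blocks from coordinates

`NX F B X W`: the group `X ≥ B` acts on `W ≤ B` as `SL₂(F)`, `B` is a Sylow 2-subgroup of `X` and acts as the group
of upper unitriangular matrices, `[Ω₁Z(B), X] ≤ W`.  `NX.exists_block`: a minimal `L`, `B ≤ L ≤ X`, inducing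
`SL₂(F)` on `W` is an FF-block over `B` (`FB`).
-/

set_option autoImplicit false

namespace Cfsg.Agent.Omega.OM.Uni

open Subgroup Cfsg Cfsg.Agent.PLocal.ThompsonJ Cfsg.Agent.ZN Cfsg.Agent.ZN.ChoiceBase
open Cfsg.Agent.ZN.ChoiceSit
open Cfsg.Agent.PLocal.ElemAbSup
open Cfsg.Agent.Omega.SQ1.Bau (mem_sup_comm card_sup_comm elem_comm elem_sq)
open Cfsg.Agent.Omega.NatPair Cfsg.Agent.Lib.SL2Mat
open Cfsg.Agent.Omega.SQ1.FFOne (syl_inf mem_norm_of)
open scoped Pointwise commutatorElement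

universe u

variable {G : Type u} [Group G]

/-- `X ≥ B` acts on `W` as `SL₂(F)`, `B` as the group of upper unitriangular matrices. -/
structure NX (F : Type*) [Field F] (B X W : Subgroup G) where
  π : G → Fin 2 → F
  mul : ∀ v ∈ W, ∀ w ∈ W, π (v * w) = π v + π w
  inj : ∀ v ∈ W, π v = 0 → v = 1
  surj : ∀ x, ∃ v ∈ W, π v = x
  el : IsElementaryAbelian 2 W
  WB : W ≤ B
  B2 : IsPGroup 2 B
  BX : B ≤ X
  nW : ∀ l ∈ X, ∀ v ∈ W, l * v * l⁻¹ ∈ W
  acts : ∀ l ∈ X, ∃ A : Matrix.SpecialLinearGroup (Fin 2) F, ∀ v ∈ W, π (l * v * l⁻¹) = ap A (π v)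
  cov : ∀ A : Matrix.SpecialLinearGroup (Fin 2) F, ∃ l ∈ X, ∀ v ∈ W, π (l * v * l⁻¹) = ap A (π v)
  up : ∀ b ∈ B, ∃ c : F, ∀ v ∈ W, π (b * v * b⁻¹) = ap (up c) (π v)
  upc : ∀ c : F, ∃ b ∈ B, ∀ v ∈ W, π (b * v * b⁻¹) = ap (Lib.SL2Mat.up c) (π v)
  syl : ∀ T : Subgroup G, B ≤ T → T ≤ X → IsPGroup 2 T → T = B
  act : ∀ l ∈ X, ∀ z ∈ zc B, l * z * l⁻¹ * z⁻¹ ∈ W

namespace NX

variable {F : Type*} [Field F] {B X W : Subgroup G} (M : NX F B X W)

/-- `g` acts as `A`. -/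
def Acts (g : G) (A : Matrix.SpecialLinearGroup (Fin 2) F) : Prop := ∀ v ∈ W, M.π (g * v * g⁻¹) = ap A (M.π v)

theorem map_one : M.π 1 = 0 := by
  have := M.mul 1 (one_mem W) 1 (one_mem W)
  rw [one_mul] at this
  exact left_eq_add.1 this

theorem map_inv {v : G} (hv : v ∈ W) : M.π v⁻¹ = - M.π v := by
  have := M.mul v hv v⁻¹ (inv_mem hv)
  rw [mul_inv_cancel, M.map_one] at this
  exact (neg_eq_of_add_eq_zero_right this.symm).symm

theorem map_div {v w : G} (hv : v ∈ W) (hw : w ∈ W) : M.π (v * w⁻¹) = M.π v - M.π w := by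
  rw [M.mul v hv _ (inv_mem hw), M.map_inv hw, sub_eq_add_neg]

theorem inj' {v w : G} (hv : v ∈ W) (hw : w ∈ W) (h : M.π v = M.π w) : v = w := by
  have h1 := M.inj (v * w⁻¹) (mul_mem hv (inv_mem hw)) (by rw [M.map_div hv hw, h, sub_self])
  exact mul_inv_eq_one.1 h1

variable {M}

theorem Acts.mul {g h : G} (hh : h ∈ X) {A A' : Matrix.SpecialLinearGroup (Fin 2) F} (hA : M.Acts g A)
    (hB : M.Acts h A') : M.Acts (g * h) (A * A') := by
  intro v hv
  have e : g * h * v * (g * h)⁻¹ = g * (h * v * h⁻¹) * g⁻¹ := by group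
  rw [e, hA _ (M.nW h hh v hv), hB v hv, ap_mul]

theorem Acts.inv {g : G} (hg : g ∈ X) {A : Matrix.SpecialLinearGroup (Fin 2) F} (hA : M.Acts g A) :
    M.Acts g⁻¹ A⁻¹ := by
  intro v hv
  have h1 := hA _ (M.nW g⁻¹ (inv_mem hg) v hv)
  have e : g * (g⁻¹ * v * g⁻¹⁻¹) * g⁻¹ = v := by group
  rw [e] at h1
  rw [h1, ap_inv_ap]

theorem Acts.cent {g : G} (hg : g ∈ X) (hA : M.Acts g 1) {v : G} (hv : v ∈ W) : g * v = v * g := by
  have h1 := hA v hv
  rw [ap_one] at h1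
  exact mul_inv_eq_iff_eq_mul.1 (M.inj' (M.nW g hg v hv) hv h1)

theorem acts_of_cent {g : G} (h : ∀ v ∈ W, g * v = v * g) : M.Acts g 1 := by
  intro v hv
  rw [h v hv, mul_inv_cancel_right, ap_one]

variable (M)

/-- `Z = {w ∈ W | π w 1 = 0}`. -/
def Zs : Subgroup G where
  carrier := {v | v ∈ W ∧ M.π v 1 = 0}
  mul_mem' := by
    rintro a b ⟨ha, ha'⟩ ⟨hb, hb'⟩
    exact ⟨mul_mem ha hb, by rw [M.mul a ha b hb, Pi.add_apply, ha', hb', add_zero]⟩
  one_mem' := ⟨one_mem _, by rw [M.map_one]; rfl⟩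
  inv_mem' := by
    rintro a ⟨ha, ha'⟩
    exact ⟨inv_mem ha, by rw [M.map_inv ha, Pi.neg_apply, ha', neg_zero]⟩

theorem mem_Zs {v : G} : v ∈ M.Zs ↔ v ∈ W ∧ M.π v 1 = 0 := Iff.rfl

theorem bij : Function.Bijective fun v : W => M.π v := by
  constructor
  · intro v w h
    exact Subtype.ext (M.inj' v.2 w.2 h)
  · intro x
    obtain ⟨v, hv, e⟩ := M.surj x
    exact ⟨⟨v, hv⟩, e⟩

include M in
theorem card_W [Finite F] : Nat.card W = Nat.card F * Nat.card F := by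
  rw [Nat.card_congr (Equiv.ofBijective _ M.bij), Nat.card_fun, Nat.card_eq_fintype_card (α := Fin 2), Fintype.card_fin,
    pow_two]

theorem card_Zs : Nat.card M.Zs = Nat.card F := by
  refine Nat.card_congr (Equiv.ofBijective (fun v : M.Zs => M.π v 0) ⟨?_, ?_⟩)
  · intro v w h
    refine Subtype.ext (M.inj' v.2.1 w.2.1 (ext2 h ?_))
    rw [v.2.2, w.2.2]
  · intro x
    obtain ⟨v, hv, e⟩ := M.surj ![x, 0]
    exact ⟨⟨v, hv, by rw [e]; rfl⟩, by show M.π v 0 = x; rw [e]; rfl⟩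

/-- The module. -/
theorem toMd [Finite G] [Finite F] : Md B W M.Zs (Nat.card F) where
  VB := M.WB
  el := M.el
  ZV := fun z hz => hz.1
  cZ := by
    intro b hb z hz
    obtain ⟨c, hc⟩ := M.up b hb
    have h1 := M.nW b (M.BX hb) z hz.1
    refine mul_inv_eq_iff_eq_mul.1 (M.inj' h1 hz.1 ?_)
    rw [hc z hz.1]
    apply ext2
    · rw [ap_zero', hz.2]; simp
    · rw [ap_one', hz.2]; simp
  com := by
    intro b hb v hv
    obtain ⟨c, hc⟩ := M.up b hb
    have h1 := M.nW b (M.BX hb) v hv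
    refine ⟨mul_mem h1 (inv_mem hv), ?_⟩
    rw [M.map_div h1 hv, hc v hv, Pi.sub_apply, ap_one']
    simp
  free := by
    intro b hb v hv hvZ hbv u hu
    obtain ⟨c, hc⟩ := M.up b hb
    have h1 := hc v hv
    rw [hbv, mul_inv_cancel_right] at h1
    have h2 := congrFun h1 0
    rw [ap_zero'] at h2
    simp only [up_00, up_01, one_mul, left_eq_add, mul_eq_zero] at h2
    have h3 : c = 0 := h2.resolve_right fun h => hvZ ⟨hv, h⟩
    subst h3
    refine Acts.cent (M := M) (M.BX hb) ?_ hu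
    intro w hw
    rw [hc w hw, up_zero]
  ne := by
    obtain ⟨b, hb, hc⟩ := M.upc 1
    obtain ⟨v, hv, e⟩ := M.surj ![0, 1]
    refine ⟨b, hb, v, hv, fun h => ?_⟩
    have h1 := hc v hv
    rw [h, mul_inv_cancel_right] at h1
    have h2 := congrFun h1 0
    rw [ap_zero', e] at h2
    simp at h2
  card := by rw [M.card_W, M.card_Zs]
  cardB := by
    classical
    choose f hf using fun b : B => M.up b b.2
    choose g hg hgc using M.upc
    have hmem : ∀ b : B, (g (f b))⁻¹ * (b : G) ∈ B ⊓ centralizer (W : Set G) := by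
      intro b
      refine mem_inf.2 ⟨mul_mem (inv_mem (hg _)) b.2, mem_centralizer_iff.2 fun v hv => ?_⟩
      refine (Acts.cent (M := M) (M.BX (mul_mem (inv_mem (hg _)) b.2)) ?_ hv).symm
      have h1 := Acts.mul (M := M) (M.BX b.2) (Acts.inv (M := M) (M.BX (hg (f b))) (hgc (f b))) (hf b)
      rwa [inv_mul_cancel] at h1
    have hinj : Function.Injective fun b : B =>
        ((f b, ⟨(g (f b))⁻¹ * (b : G), hmem b⟩) : F × ↥(B ⊓ centralizer (W : Set G))) := by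
      intro b b' h
      simp only [Prod.mk.injEq, Subtype.mk.injEq] at h
      obtain ⟨h1, h2⟩ := h
      rw [h1] at h2
      exact Subtype.ext (mul_left_cancel h2)
    have h1 := Nat.card_le_card_of_injective _ hinj
    rwa [Nat.card_prod] at h1
  one := Finite.one_lt_card

/-- **Minimal blocks.** -/
theorem exists_block [Finite G] [Finite F] [CharP F 2] :
    ∃ L, B ≤ L ∧ L ≤ X ∧ FB B L W M.Zs (Nat.card F) ∧ (∀ A, ∃ l ∈ L, M.Acts l A) ∧
      ∀ Y : Subgroup G, B ≤ Y → Y ≤ L → (∀ A, ∃ l ∈ Y, M.Acts l A) → Y = L := by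
  classical
  set S : Set (Subgroup G) := {Y | B ≤ Y ∧ Y ≤ X ∧ ∀ A, ∃ l ∈ Y, M.Acts l A} with hS
  have hXS : X ∈ S := ⟨M.BX, le_rfl, M.cov⟩
  obtain ⟨L, hL⟩ : ∃ L, Minimal (· ∈ S) L := by
    obtain ⟨L, -, h⟩ := (Set.toFinite S).exists_le_minimal hXS
    exact ⟨L, h⟩
  obtain ⟨hBL, hLX, hcov⟩ := hL.prop
  have hmin : ∀ Y : Subgroup G, B ≤ Y → Y ≤ L → (∀ A, ∃ l ∈ Y, M.Acts l A) → Y = L := fun Y h1 h2 h3 =>
    le_antisymm h2 (hL.le_of_le ⟨h1, h2.trans hLX, h3⟩ h2)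
  have hsylL : Syl B L := ⟨hBL, M.B2, fun T hT h2 hBT => M.syl T hBT (hT.trans hLX) h2⟩
  -- `gen`
  have hgen : L ≤ ⨆ x : L, cj (x : G) B := by
    set Y : Subgroup G := ⨆ x : L, cj (x : G) B with hY
    have h1 : ∀ x ∈ L, cj x B ≤ Y := fun x hx => le_iSup (fun x : L => cj (x : G) B) ⟨x, hx⟩
    have hBY : B ≤ Y := by
      have := h1 1 (one_mem L)
      rwa [cj_one] at this
    have hYL : Y ≤ L := iSup_le fun x => by
      rintro _ ⟨b, hb, rfl⟩
      exact mul_mem (mul_mem x.2 (hBL hb)) (inv_mem x.2)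
    obtain ⟨w, hw, hwA⟩ := hcov (wm 1 one_ne_zero)
    have hlo : ∀ c : F, ∃ y ∈ Y, M.Acts y (lo c) := by
      intro c
      obtain ⟨b, hb, hbc⟩ := M.upc (-c)
      refine ⟨w * b * w⁻¹, h1 w hw ⟨b, hb, rfl⟩, ?_⟩
      have h2 := Acts.mul (M := M) (inv_mem (hLX hw)) (Acts.mul (M := M) (M.BX hb) hwA hbc)
        (Acts.inv (M := M) (hLX hw) hwA)
      have e : wm (1 : F) one_ne_zero * Lib.SL2Mat.up (-c) * (wm (1 : F) one_ne_zero)⁻¹ = lo c := by
        rw [wm_up, mul_inv_cancel_right]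
        simp
      rwa [e] at h2
    have hup : ∀ c : F, ∃ y ∈ Y, M.Acts y (Lib.SL2Mat.up c) := by
      intro c
      obtain ⟨b, hb, hbc⟩ := M.upc c
      exact ⟨b, hBY hb, hbc⟩
    have h2 : Y = L := by
      refine hmin Y hBY hYL fun A => ?_
      obtain ⟨a, b, c, d, rfl⟩ := exists_up_lo A
      obtain ⟨x1, k1, h1⟩ := hup a
      obtain ⟨x2, k2, h2⟩ := hlo b
      obtain ⟨x3, k3, h3⟩ := hup c
      obtain ⟨x4, k4, h4⟩ := hlo d
      have hY : ∀ {y}, y ∈ Y → y ∈ X := fun hy => hLX (hYL hy)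
      exact ⟨x1 * x2 * x3 * x4, mul_mem (mul_mem (mul_mem k1 k2) k3) k4,
        Acts.mul (M := M) (hY k4) (Acts.mul (M := M) (hY k3) (Acts.mul (M := M) (hY k2) h1 h2) h3) h4⟩
    exact h2.ge
  -- the kernel
  set K : Subgroup G := L ⊓ centralizer (W : Set G) with hK
  have hKn : ∀ l ∈ L, ∀ n ∈ K, l * n * l⁻¹ ∈ K := by
    intro l hl n hn
    obtain ⟨hn1, hn2⟩ := mem_inf.1 hn
    refine mem_inf.2 ⟨mul_mem (mul_mem hl hn1) (inv_mem hl), mem_centralizer_iff.2 fun v hv => ?_⟩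
    have hv' : l⁻¹ * v * l ∈ W := by
      have := M.nW l⁻¹ (inv_mem (hLX hl)) v hv
      rwa [inv_inv] at this
    have h1 := mem_centralizer_iff.1 hn2 _ hv'
    have h2 := congrArg (fun t => l * t * l⁻¹) h1
    simpa [mul_assoc] using h2
  have hKact : ∀ k ∈ K, M.Acts k 1 := fun k hk => acts_of_cent fun v hv =>
    (mem_centralizer_iff.1 (mem_inf.1 hk).2 v hv).symm
  -- `cor`
  have hcor : ∀ l ∈ L, ∀ x ∈ B, (∀ v ∈ W, x * v = v * x) → l * x * l⁻¹ ∈ B := by
    have hD := syl_inf hsylL (inf_le_left : K ≤ L) hKn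
    have h1 : L ⊓ normalizer ((B ⊓ K : Subgroup G) : Set G) = L := by
      refine hmin _ (le_inf hBL fun b hb => ?_) inf_le_left fun A => ?_
      · refine mem_norm_of fun k hk => ?_
        obtain ⟨hk1, hk2⟩ := mem_inf.1 hk
        exact mem_inf.2 ⟨mul_mem (mul_mem hb hk1) (inv_mem hb), hKn b (hBL hb) k hk2⟩
      · obtain ⟨l, hl, hlA⟩ := hcov A
        have h2 : Syl (cj l (B ⊓ K)) K := by
          refine ⟨?_, isPGroup_cj l hD.2.1, fun R hR h2 hle => ?_⟩
          · rintro _ ⟨x, hx, rfl⟩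
            exact hKn l hl x (mem_inf.1 hx).2
          · have h3 : cj l⁻¹ R ≤ K := by
              rintro _ ⟨r, hr, rfl⟩
              exact hKn l⁻¹ (inv_mem hl) r (hR hr)
            have h4 := hD.2.2 _ h3 (isPGroup_cj _ h2) (cj_le_iff.1 hle)
            rw [← h4, cj_cj_inv]
        obtain ⟨k, hk, e⟩ := syl_conj h2 hD
        rw [cj_cj] at e
        refine ⟨k * l, mem_inf.2 ⟨mul_mem (mem_inf.1 hk).1 hl, mem_normalizer_iff_cj.2 e⟩, ?_⟩
        have h3 := Acts.mul (M := M) (hLX hl) (hKact k hk) hlA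
        rwa [one_mul] at h3
    intro l hl x hx hxc
    have h2 : l ∈ L ⊓ normalizer ((B ⊓ K : Subgroup G) : Set G) := by rw [h1]; exact hl
    have h3 : x ∈ B ⊓ K := mem_inf.2 ⟨hx, mem_inf.2 ⟨hBL hx, mem_centralizer_iff.2 fun v hv => (hxc v hv).symm⟩⟩
    exact (mem_inf.1 ((mem_normalizer_iff.1 (mem_inf.1 h2).2 x).1 h3)).1
  have hcom : ∀ b ∈ B, ∀ v ∈ W, b * v * b⁻¹ * v⁻¹ ∈ M.Zs := M.toMd.com
  refine ⟨L, hBL, hLX, ?_, hcov, hmin⟩
  exact
    { toMd := M.toMd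
      BL := hBL
      nV := fun l hl v hv => M.nW l (hLX hl) v hv
      gen := hgen
      syl := fun T h1 h2 h3 => M.syl T h1 (h2.trans hLX) h3
      act := fun l hl z hz => M.act l (hLX hl) z hz
      cor := hcor
      sup := by
        obtain ⟨w, hw, hwA⟩ := hcov (wm 1 one_ne_zero)
        -- `Z ≤ [W, B]`
        have hZ : M.Zs ≤ ⁅W, B⁆ := by
          intro z hz
          obtain ⟨b, hb, hbc⟩ := M.upc (M.π z 0)
          obtain ⟨v, hv, e⟩ := M.surj ![0, 1]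
          have h1 : b * v * b⁻¹ * v⁻¹ = z := by
            refine M.inj' (hcom b hb v hv).1 hz.1 ?_
            rw [M.map_div (M.nW b (M.BX hb) v hv) hv, hbc v hv, e]
            apply ext2
            · rw [Pi.sub_apply, ap_zero']; simp
            · rw [Pi.sub_apply, ap_one', hz.2]; simp
          have h2 : z = ⁅v, b⁆⁻¹ := by rw [← h1, commutatorElement_def]; group
          rw [h2]
          exact inv_mem (commutator_mem_commutator hv hb)
        refine ⟨w, hw, fun v hv => ?_⟩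
        obtain ⟨a, ha, ea⟩ := M.surj ![M.π v 0, 0]
        obtain ⟨b, hb, eb⟩ := M.surj ![-(M.π v 1), 0]
        have haZ : a ∈ M.Zs := ⟨ha, by rw [ea]; rfl⟩
        have hbZ : b ∈ M.Zs := ⟨hb, by rw [eb]; rfl⟩
        have hwb := M.nW w (hLX hw) b hb
        have e : v = a * (w * b * w⁻¹) := by
          refine M.inj' hv (mul_mem ha hwb) ?_
          rw [M.mul a ha _ hwb, hwA b hb, ea, eb]
          apply ext2
          · rw [Pi.add_apply, ap_zero']; simp
          · rw [Pi.add_apply, ap_one']; simp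
        rw [e]
        exact mul_mem (mem_sup_left (hZ haZ)) (mem_sup_right ⟨b, hZ hbZ, rfl⟩)
      tri := by
        intro l hl
        obtain ⟨A, hA⟩ := M.acts l (hLX hl)
        by_cases h0 : ent A 1 0 = 0
        · left
          refine Subgroup.eq_of_le_of_card_ge ?_ (by rw [card_cj])
          rintro _ ⟨z, hz, rfl⟩
          refine ⟨M.nW l (hLX hl) z hz.1, ?_⟩
          show M.π (l * z * l⁻¹) 1 = 0
          rw [hA z hz.1, ap_one', h0, hz.2]; simp
        · right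
          intro x hx
          obtain ⟨⟨z, hz, rfl⟩, hx2⟩ := mem_inf.1 hx
          have h1 : M.π (l * z * l⁻¹) 1 = 0 := hx2.2
          rw [hA z hz.1, ap_one', hz.2, mul_zero, add_zero] at h1
          have h2 := (mul_eq_zero.1 h1).resolve_left h0
          have h3 : z = 1 := M.inj z hz.1 (ext2 h2 hz.2)
          show l * z * l⁻¹ ∈ centralizer (L : Set G)
          rw [h3, mul_one, mul_inv_cancel]
          exact one_mem _
      tor := by
        intro z hz hzc z' hz' hzc'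
        have hne : ∀ {y}, y ∈ M.Zs → y ∉ centralizer (L : Set G) → M.π y 0 ≠ 0 := by
          intro y hy hyc h0
          apply hyc
          rw [M.inj y hy.1 (ext2 h0 hy.2)]
          exact one_mem _
        have h0 := hne hz hzc
        have h0' := hne hz' hzc'
        set t : F := M.π z' 0 / M.π z 0 with ht
        have ht0 : t ≠ 0 := div_ne_zero h0' h0
        obtain ⟨l, hl, hlA⟩ := hcov (dg t ht0)
        -- the group `B K`
        set R : Subgroup G := L ⊓ (B ⊔ K) with hR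
        have hBK : B ⊔ K ≤ L := sup_le hBL inf_le_left
        have hmemR : ∀ x ∈ B ⊔ K, ∃ c : F, M.Acts x (Lib.SL2Mat.up c) := by
          intro x hx
          obtain ⟨b, hb, k, hk, rfl⟩ := SQ1.Bau.mem_sup_norm (A := B) (B := K) (fun b hb =>
            mem_norm_of fun k hk => hKn b (hBL hb) k hk) hx
          obtain ⟨c, hc⟩ := M.up b hb
          have h1 := Acts.mul (M := M) (hLX (mem_inf.1 hk).1) hc (hKact k hk)
          rw [mul_one] at h1
          exact ⟨c, h1⟩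
        have hofR : ∀ x ∈ L, ∀ c : F, M.Acts x (Lib.SL2Mat.up c) → x ∈ B ⊔ K := by
          intro x hx c hc
          obtain ⟨b, hb, hbc⟩ := M.upc c
          have h1 : b⁻¹ * x ∈ K := by
            refine mem_inf.2 ⟨mul_mem (inv_mem (hBL hb)) hx, mem_centralizer_iff.2 fun v hv => ?_⟩
            refine (Acts.cent (M := M) (hLX (mul_mem (inv_mem (hBL hb)) hx)) ?_ hv).symm
            have h2 := Acts.mul (M := M) (hLX hx) (Acts.inv (M := M) (M.BX hb) hbc) hc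
            rwa [inv_mul_cancel] at h2
          have e : x = b * (b⁻¹ * x) := by group
          rw [e]
          exact mul_mem (mem_sup_left hb) (mem_sup_right h1)
        have hS1 : Syl B (B ⊔ K) := ⟨le_sup_left, M.B2, fun T hT h2 hBT => M.syl T hBT (hT.trans (hBK.trans hLX)) h2⟩
        have hS2 : Syl (cj l B) (B ⊔ K) := by
          refine ⟨?_, isPGroup_cj l M.B2, fun T hT h2 hle => ?_⟩
          · rintro _ ⟨b, hb, rfl⟩
            obtain ⟨c, hc⟩ := M.up b hb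
            refine hofR _ (mul_mem (mul_mem hl (hBL hb)) (inv_mem hl)) (t ^ 2 * c) ?_
            have h2 := Acts.mul (M := M) (inv_mem (hLX hl)) (Acts.mul (M := M) (M.BX hb) hlA hc)
              (Acts.inv (M := M) (hLX hl) hlA)
            rw [dg_up, mul_inv_cancel_right] at h2
            exact h2
          · have h3 : cj l⁻¹ T ≤ X := by
              rintro _ ⟨r, hr, rfl⟩
              exact mul_mem (mul_mem (inv_mem (hLX hl)) (hLX (hBK (hT hr)))) (inv_mem (inv_mem (hLX hl)))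
            have h4 := M.syl _ (cj_le_iff.1 hle) h3 (isPGroup_cj _ h2)
            rw [← h4, cj_cj_inv]
        obtain ⟨x, hx, e⟩ := syl_conj hS2 hS1
        rw [cj_cj] at e
        obtain ⟨c, hc⟩ := hmemR x hx
        have hxL := hBK hx
        refine ⟨x * l, mul_mem hxL hl, mem_normalizer_iff_cj.2 e, ?_⟩
        have h1 := Acts.mul (M := M) (hLX hl) hc hlA
        have h2 : x * l * z * (x * l)⁻¹ = z' := by
          refine M.inj' (M.nW _ (hLX (mul_mem hxL hl)) z hz.1) hz'.1 ?_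
          rw [h1 z hz.1]
          apply ext2
          · rw [ap_zero', hz.2]
            simp [ent_mul, ht, div_mul_cancel₀ _ h0]
          · rw [ap_one', hz.2, hz'.2]
            simp [ent_mul]
        rw [h2, mul_inv_cancel]
        exact one_mem _ }

end NX

end Cfsg.Agent.Omega.OM.Uni

end

section


/-!
# TEXT R1 (#14539), (1): `O₂(N_G(Z₁)) ≤ B`, `V ≤ O₂(N_G(Z₁))`, `W₁ = ⟨V^{N_G(Z₁)}⟩` is abelian

`S` a Sylow 2-subgroup of `G` (characteristic 2 type), `B = bau S`, `Z_J = zj S`, `Z₁ ≤ Z_J`; `V₁`, `V_j` (`j ∈ ι`) are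
subgroups, `V_j ≤ Z(O₂(N_G(Z₁)))` (LEMMA K: `L_j ≤ N_G(Z₁)`), `Z_J ≤ Z₁ ∏ V_j`, `[V₁, B] ≤ Z₁`, `[V₁, Z₁] = 1` and some
`N ≤ N_G(Z₁)` acts irreducibly on `Z₁` (`N = N_{L₁}(B)`; `N = 1` if `|Z₁| = 2`).

* `syl_bau` : `bau S` is a Sylow 2-subgroup of `C_G(zj S)`;
* `In.W_le` : `O₂(N_G(Z₁)) ≤ bau S`;  `In.V_le` : `V₁ ≤ O₂(N_G(Z₁))`;
* `In.W1_comm` : if `V ≤ O₂(N_G(Z₁))`, `B` normalises `V` and `V`, `V^h` commute whenever they normalise each
  other, then all `V^g`, `V^h` with `g, h ∈ N_G(Z₁)` commute.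
-/

set_option autoImplicit false
set_option linter.unusedSectionVars false

namespace Cfsg.Agent.Omega.OM.WOne

open Subgroup Cfsg Cfsg.Agent.ZN Cfsg.Agent.ZN.ChoiceBase
open Cfsg.Agent.ZN.ChoiceSit (Syl exists_syl syl_conj)
open Cfsg.Agent.MinSimple.VModule (o2_isPGroup)

universe u

variable {G : Type u} [Group G] [Finite G] (S : Sylow 2 G)

/-- `B(S)` is a Sylow 2-subgroup of `C_G(Ω₁(Z(J(S))))`. -/
theorem syl_bau : Syl (bau (S : Subgroup G)) (centralizer (zj (S : Subgroup G) : Set G)) := by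
  have : Fact (Nat.Prime 2) := ⟨Nat.prime_two⟩
  refine ⟨inf_le_right, S.isPGroup'.to_le inf_le_left, fun Q hQ hQ2 hBQ => ?_⟩
  -- `Q` lies in a Sylow 2-subgroup `T` of `N = N_G(zj S)`
  set D : Subgroup G := centralizer (zj (S : Subgroup G) : Set G) with hD
  set N : Subgroup G := normalizer (zj (S : Subgroup G) : Set G) with hN
  have hDN : D ≤ N := centralizer_le_normalizer _
  have hSN : (S : Subgroup G) ≤ N := le_normalizer_zj _
  have hS : Syl (S : Subgroup G) N := ⟨hSN, S.isPGroup', fun _ _ hT hST => S.is_maximal' hT hST⟩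
  obtain ⟨T, hT, hQT⟩ := exists_syl hQ2 (hQ.trans hDN)
  obtain ⟨x, hx, hxS⟩ := syl_conj hS hT
  -- `D` is normal in `N`
  have hxD : cj x D = D := by
    rw [hD, cj_centralizer, cj_eq_of_mem_normalizer hx]
  have h1 : cj x (bau (S : Subgroup G)) = T ⊓ D := by
    show cj x ((S : Subgroup G) ⊓ D) = T ⊓ D
    rw [cj_inf, hxS, hxD]
  symm
  apply Subgroup.eq_of_le_of_card_ge hBQ
  calc Nat.card Q ≤ Nat.card (T ⊓ D : Subgroup G) := Subgroup.card_le_of_le (le_inf hQT hQ)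
    _ = Nat.card (cj x (bau (S : Subgroup G))) := by rw [h1]
    _ = Nat.card (bau (S : Subgroup G)) := card_cj _ _

omit [Finite G] in
/-- A 2-subgroup of `D` normalised by `D` lies in every Sylow 2-subgroup of `D`. -/
theorem le_syl {T D W : Subgroup G} (hT : Syl T D) (hW : IsPGroup 2 W) (hWD : W ≤ D)
    (hn : D ≤ normalizer (W : Set G)) : W ≤ T := by
  have h1 : IsPGroup 2 (W ⊔ T : Subgroup G) := hW.to_sup_of_normal_left' hT.2.1 (hT.1.trans hn)
  have h2 := hT.2.2 (W ⊔ T) (sup_le hWD hT.1) h1 le_sup_right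
  rw [← h2]
  exact le_sup_left

/-- The input of (1). -/
structure In {ι : Type*} (S : Sylow 2 G) (Z₁ V₁ N : Subgroup G) (Vj : ι → Subgroup G) : Prop where
  char : IsCharacteristicTwoType G
  ne : Z₁ ≠ ⊥
  Z1J : Z₁ ≤ zj (S : Subgroup G)
  ZJ : zj (S : Subgroup G) ≤ Z₁ ⊔ ⨆ j, Vj j
  /-- LEMMA K -/
  K : ∀ j, Vj j ≤ o2 (normalizer (Z₁ : Set G)) ⊓ centralizer (o2 (normalizer (Z₁ : Set G)) : Set G)
  NN : N ≤ normalizer (Z₁ : Set G)
  irr : ∀ U ≤ Z₁, N ≤ normalizer (U : Set G) → U ≠ ⊥ → Z₁ ≤ U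
  V1S : V₁ ≤ centralizer (Z₁ : Set G)
  comm : ∀ v ∈ V₁, ∀ b ∈ bau (S : Subgroup G), v * b * v⁻¹ * b⁻¹ ∈ Z₁

/-- The elements which centralise `W / Z₁` and `Z₁`. -/
def X (Z₁ : Subgroup G) : Subgroup G where
  carrier := {x | x ∈ centralizer (Z₁ : Set G) ∧ ∀ w ∈ o2 (normalizer (Z₁ : Set G)), x * w * x⁻¹ * w⁻¹ ∈ Z₁}
  one_mem' := ⟨one_mem _, fun w _ => by simp⟩
  mul_mem' := by
    rintro x y ⟨h1, h2⟩ ⟨h3, h4⟩
    refine ⟨mul_mem h1 h3, fun w hw => ?_⟩
    have e : x * y * w * (x * y)⁻¹ * w⁻¹ = x * (y * w * y⁻¹ * w⁻¹) * x⁻¹ * (x * w * x⁻¹ * w⁻¹) := by group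
    have e2 : x * (y * w * y⁻¹ * w⁻¹) * x⁻¹ = y * w * y⁻¹ * w⁻¹ := by
      rw [← mem_centralizer_iff.1 h1 _ (h4 w hw), mul_inv_cancel_right]
    rw [e, e2]
    exact mul_mem (h4 w hw) (h2 w hw)
  inv_mem' := by
    rintro x ⟨h1, h2⟩
    refine ⟨inv_mem h1, fun w hw => ?_⟩
    have e : x⁻¹ * w * x⁻¹⁻¹ * w⁻¹ = x⁻¹ * (x * w * x⁻¹ * w⁻¹)⁻¹ * x := by group
    have e2 : x⁻¹ * (x * w * x⁻¹ * w⁻¹)⁻¹ * x = (x * w * x⁻¹ * w⁻¹)⁻¹ := by
      have h3 := mem_centralizer_iff.1 h1 _ (inv_mem (h2 w hw))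
      rw [mul_assoc, h3, inv_mul_cancel_left]
    rw [e, e2]
    exact inv_mem (h2 w hw)

namespace In

variable {S}
variable {ι : Type*} {Z₁ V₁ N : Subgroup G} {Vj : ι → Subgroup G} (h : In S Z₁ V₁ N Vj)
include h

theorem Z1_sq : ∀ z ∈ Z₁, z ^ 2 = 1 := fun _ hz => (ChoiceBase.mem_zj.1 (h.Z1J hz)).2.1

theorem Z1_two : IsPGroup 2 Z₁ := S.isPGroup'.to_le
  (h.Z1J.trans fun _ hz => ZN.jj_le _ (ChoiceBase.mem_zj.1 hz).1)

theorem char2 : normalizer (Z₁ : Set G) ⊓ centralizer (o2 (normalizer (Z₁ : Set G)) : Set G) ≤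
    o2 (normalizer (Z₁ : Set G)) := by
  have h1 := h.char.2 Z₁ h.Z1_two h.ne
  rintro x ⟨hx, hxc⟩
  have h2 : (⟨x, hx⟩ : normalizer (Z₁ : Set G)) ∈
      centralizer (pCore 2 (normalizer (Z₁ : Set G)) : Set (normalizer (Z₁ : Set G))) := by
    rw [mem_centralizer_iff]
    intro y hy
    refine Subtype.ext ?_
    exact mem_centralizer_iff.mp hxc (y : G) ⟨y, hy, rfl⟩
  exact ⟨⟨x, hx⟩, h1 h2, rfl⟩

/-- `O₂(N_G(Z₁))` centralises `Z₁`. -/
theorem W_cent : o2 (normalizer (Z₁ : Set G)) ≤ centralizer (Z₁ : Set G) := by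
  have : Fact (Nat.Prime 2) := ⟨Nat.prime_two⟩
  set W := o2 (normalizer (Z₁ : Set G)) with hW
  have hWn : W ≤ normalizer (Z₁ : Set G) := MinSimple.VModule.o2_le _
  have h1 := PLocal.OffenderStep.inf_centralizer_ne_bot Z₁ W h.Z1_two (o2_isPGroup _) hWn h.ne
  have h2 : N ≤ normalizer ((Z₁ ⊓ centralizer (W : Set G) : Subgroup G) : Set G) := by
    intro n hn
    rw [mem_normalizer_iff_cj, cj_inf, cj_centralizer, mem_normalizer_iff_cj.1 (h.NN hn),
      cj_eq_of_mem_normalizer (MinSimple.VModule.le_normalizer_o2 _ (h.NN hn))]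
  have h3 := h.irr _ inf_le_left h2 h1
  rw [le_centralizer_iff]
  exact h3.trans inf_le_right

/-- `O₂(N_G(Z₁)) ≤ B`. -/
theorem W_le : o2 (normalizer (Z₁ : Set G)) ≤ bau (S : Subgroup G) := by
  set W := o2 (normalizer (Z₁ : Set G)) with hW
  have h1 : W ≤ centralizer (zj (S : Subgroup G) : Set G) := by
    rw [le_centralizer_iff]
    refine h.ZJ.trans (sup_le ?_ (iSup_le fun j => (h.K j).trans inf_le_right))
    rw [le_centralizer_iff]
    exact h.W_cent
  refine le_syl (syl_bau S) (o2_isPGroup _) h1 ?_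
  have h2 : centralizer (zj (S : Subgroup G) : Set G) ≤ normalizer (Z₁ : Set G) :=
    (centralizer_le h.Z1J).trans (centralizer_le_normalizer _)
  exact h2.trans (MinSimple.VModule.le_normalizer_o2 _)

theorem X_le_o2 : X Z₁ ≤ o2 (normalizer (Z₁ : Set G)) := by
  have hXn : X Z₁ ≤ normalizer (Z₁ : Set G) := fun x hx => centralizer_le_normalizer _ hx.1
  refine MinSimple.VModule.le_o2 hXn ?_ ?_
  · -- the squares centralise `W`
    rintro ⟨x, hx⟩
    have h1 : x ^ 2 ∈ o2 (normalizer (Z₁ : Set G)) := by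
      refine h.char2 ⟨pow_mem (hXn hx) 2, mem_centralizer_iff.2 fun w hw => ?_⟩
      have h2 := hx.2 w hw
      set c := x * w * x⁻¹ * w⁻¹ with hc
      have hcx : c * x = x * c := mem_centralizer_iff.1 hx.1 c h2
      have hc2 : c * c = 1 := by rw [← pow_two]; exact h.Z1_sq c h2
      have e1 : x * w = c * w * x := by rw [hc]; group
      calc w * x ^ 2 = (c * c) * w * x ^ 2 := by rw [hc2, one_mul]
        _ = c * (c * w * x) * x := by rw [pow_two]; group
        _ = c * (x * w) * x := by rw [e1]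
        _ = (c * x) * (w * x) := by group
        _ = x * (c * w * x) := by rw [hcx]; group
        _ = x * (x * w) := by rw [e1]
        _ = x ^ 2 * w := by rw [pow_two, mul_assoc]
    obtain ⟨k, hk⟩ := o2_isPGroup (normalizer (Z₁ : Set G)) ⟨x ^ 2, h1⟩
    refine ⟨k + 1, Subtype.ext ?_⟩
    have h2 := congrArg Subtype.val hk
    simp only [Subgroup.coe_pow, Subgroup.coe_one] at h2 ⊢
    rw [pow_succ', pow_mul]
    exact h2
  · -- `X` is normal in `N_G(Z₁)`
    have key : ∀ g ∈ normalizer (Z₁ : Set G), ∀ x ∈ X Z₁, g * x * g⁻¹ ∈ X Z₁ := by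
      rintro g hg x ⟨hx1, hx2⟩
      refine ⟨mem_centralizer_iff.2 fun z hz => ?_, fun w hw => ?_⟩
      · have h1 : g⁻¹ * z * g ∈ Z₁ := by
          have := (mem_normalizer_iff.1 (inv_mem hg) z).1 hz
          rwa [inv_inv] at this
        have h2 := mem_centralizer_iff.1 hx1 _ h1
        calc z * (g * x * g⁻¹) = g * ((g⁻¹ * z * g) * x) * g⁻¹ := by group
          _ = g * (x * (g⁻¹ * z * g)) * g⁻¹ := by rw [h2]
          _ = g * x * g⁻¹ * z := by group
      · have h1 : g⁻¹ * w * g ∈ o2 (normalizer (Z₁ : Set G)) := by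
          have := (mem_normalizer_iff.1 (inv_mem (MinSimple.VModule.le_normalizer_o2 _ hg)) w).1 hw
          rwa [inv_inv] at this
        have h2 := (mem_normalizer_iff.1 hg _).1 (hx2 _ h1)
        have e : g * x * g⁻¹ * w * (g * x * g⁻¹)⁻¹ * w⁻¹ =
            g * (x * (g⁻¹ * w * g) * x⁻¹ * (g⁻¹ * w * g)⁻¹) * g⁻¹ := by group
        rw [e]
        exact h2
    intro g hg
    rw [mem_normalizer_iff]
    refine fun x => ⟨key g hg x, fun hx => ?_⟩
    have h1 := key g⁻¹ (inv_mem hg) _ hx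
    have e : g⁻¹ * (g * x * g⁻¹) * g⁻¹⁻¹ = x := by group
    rwa [e] at h1

/-- `V₁ ≤ O₂(N_G(Z₁))`. -/
theorem V_le : V₁ ≤ o2 (normalizer (Z₁ : Set G)) :=
  fun v hv => h.X_le_o2 ⟨h.V1S hv, fun w hw => h.comm v hv w (h.W_le hw)⟩

/-- `V = V₁ ∏ V_j ≤ O₂(N_G(Z₁))`. -/
theorem V_le' : V₁ ⊔ ⨆ j, Vj j ≤ o2 (normalizer (Z₁ : Set G)) :=
  sup_le h.V_le (iSup_le fun j => (h.K j).trans inf_le_left)

/-- **`⟨V^{N_G(Z₁)}⟩` is abelian**, for every `V ≤ O₂(N_G(Z₁))` normalised by `B`. -/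
theorem W1_comm {V : Subgroup G} (hV : V ≤ o2 (normalizer (Z₁ : Set G)))
    (hBV : bau (S : Subgroup G) ≤ normalizer (V : Set G))
    (noff : ∀ g : G, V ≤ normalizer ((cj g V : Subgroup G) : Set G) → cj g V ≤ normalizer (V : Set G) →
      V ≤ centralizer ((cj g V : Subgroup G) : Set G))
    {a b : G} (ha : a ∈ normalizer (Z₁ : Set G)) (hb : b ∈ normalizer (Z₁ : Set G)) :
    cj a V ≤ centralizer ((cj b V : Subgroup G) : Set G) := by
  set W := o2 (normalizer (Z₁ : Set G)) with hW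
  have hWx : ∀ x ∈ normalizer (Z₁ : Set G), cj x W = W := fun x hx =>
    cj_eq_of_mem_normalizer (MinSimple.VModule.le_normalizer_o2 _ hx)
  have key : ∀ x ∈ normalizer (Z₁ : Set G), V ≤ centralizer ((cj x V : Subgroup G) : Set G) := by
    intro x hx
    apply noff
    · have h1 : W ≤ normalizer ((cj x V : Subgroup G) : Set G) := by
        rw [← cj_normalizer, ← hWx x hx]
        exact cj_mono x (h.W_le.trans hBV)
      exact hV.trans h1
    · have h1 := cj_mono x hV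
      rw [hWx x hx] at h1
      exact h1.trans (h.W_le.trans hBV)
  have h1 := key (a⁻¹ * b) (mul_mem (inv_mem ha) hb)
  have h2 := cj_mono a h1
  rw [cj_centralizer, cj_cj, mul_inv_cancel_left] at h2
  exact h2

end In

end Cfsg.Agent.Omega.OM.WOne

end

section


/-!
# TEXT R1 (#14539), (1), over a general pair `(B, Z_J)`

`WOne.lean` with `B`, `ZJ` in place of `bau S`, `zj S`: `B` is a Sylow 2-subgroup of `C_G(ZJ)`.

* `syl_B` : `B = S ∩ C(ZJ)`, `S ≤ N(ZJ)` imply that `B` is a Sylow 2-subgroup of `C_G(ZJ)`;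
* `InG.W_le` : `O₂(N_G(Z₁)) ≤ B`;  `InG.V_le` : `V₁ ≤ O₂(N_G(Z₁))`;  `InG.W1_comm`.
-/

set_option autoImplicit false
set_option linter.unusedSectionVars false

namespace Cfsg.Agent.Omega.OM.WOneG

open Subgroup Cfsg Cfsg.Agent.ZN Cfsg.Agent.ZN.ChoiceBase
open Cfsg.Agent.ZN.ChoiceSit (Syl exists_syl syl_conj)
open Cfsg.Agent.MinSimple.VModule (o2_isPGroup)
open Cfsg.Agent.Omega.OM.WOne (le_syl X)

universe u

variable {G : Type u} [Group G] [Finite G]

/-- `B = C_S(Z_J)` is a Sylow 2-subgroup of `C_G(Z_J)`. -/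
theorem syl_B (S : Sylow 2 G) {B ZJ : Subgroup G} (hB : B = (S : Subgroup G) ⊓ centralizer (ZJ : Set G))
    (hS : (S : Subgroup G) ≤ normalizer (ZJ : Set G)) : Syl B (centralizer (ZJ : Set G)) := by
  have : Fact (Nat.Prime 2) := ⟨Nat.prime_two⟩
  subst hB
  refine ⟨inf_le_right, S.isPGroup'.to_le inf_le_left, fun Q hQ hQ2 hBQ => ?_⟩
  set D : Subgroup G := centralizer (ZJ : Set G) with hD
  set N : Subgroup G := normalizer (ZJ : Set G) with hN
  have hDN : D ≤ N := centralizer_le_normalizer _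
  have hSy : Syl (S : Subgroup G) N := ⟨hS, S.isPGroup', fun _ _ hT hST => S.is_maximal' hT hST⟩
  obtain ⟨T, hT, hQT⟩ := exists_syl hQ2 (hQ.trans hDN)
  obtain ⟨x, hx, hxS⟩ := syl_conj hSy hT
  have hxD : cj x D = D := by
    rw [hD, cj_centralizer, cj_eq_of_mem_normalizer hx]
  have h1 : cj x ((S : Subgroup G) ⊓ D) = T ⊓ D := by
    rw [cj_inf, hxS, hxD]
  symm
  apply Subgroup.eq_of_le_of_card_ge hBQ
  calc Nat.card Q ≤ Nat.card (T ⊓ D : Subgroup G) := Subgroup.card_le_of_le (le_inf hQT hQ)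
    _ = Nat.card (cj x ((S : Subgroup G) ⊓ D)) := by rw [h1]
    _ = Nat.card ((S : Subgroup G) ⊓ D : Subgroup G) := card_cj _ _

/-- The input of (1). -/
structure InG {ι : Type*} (B ZJ Z₁ V₁ N : Subgroup G) (Vj : ι → Subgroup G) : Prop where
  char : IsCharacteristicTwoType G
  syl : Syl B (centralizer (ZJ : Set G))
  sq : ∀ z ∈ Z₁, z ^ 2 = 1
  ne : Z₁ ≠ ⊥
  Z1J : Z₁ ≤ ZJ
  ZJle : ZJ ≤ Z₁ ⊔ ⨆ j, Vj j
  /-- LEMMA K -/
  K : ∀ j, Vj j ≤ o2 (normalizer (Z₁ : Set G)) ⊓ centralizer (o2 (normalizer (Z₁ : Set G)) : Set G)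
  NN : N ≤ normalizer (Z₁ : Set G)
  irr : ∀ U ≤ Z₁, N ≤ normalizer (U : Set G) → U ≠ ⊥ → Z₁ ≤ U
  V1S : V₁ ≤ centralizer (Z₁ : Set G)
  comm : ∀ v ∈ V₁, ∀ b ∈ B, v * b * v⁻¹ * b⁻¹ ∈ Z₁

namespace InG

variable {ι : Type*} {B ZJ Z₁ V₁ N : Subgroup G} {Vj : ι → Subgroup G} (h : InG B ZJ Z₁ V₁ N Vj)
include h

theorem Z1_sq : ∀ z ∈ Z₁, z ^ 2 = 1 := h.sq

theorem Z1_two : IsPGroup 2 Z₁ := fun z => ⟨1, Subtype.ext (by rw [pow_one]; exact h.sq z z.2)⟩

theorem char2 : normalizer (Z₁ : Set G) ⊓ centralizer (o2 (normalizer (Z₁ : Set G)) : Set G) ≤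
    o2 (normalizer (Z₁ : Set G)) := by
  have h1 := h.char.2 Z₁ h.Z1_two h.ne
  rintro x ⟨hx, hxc⟩
  have h2 : (⟨x, hx⟩ : normalizer (Z₁ : Set G)) ∈
      centralizer (pCore 2 (normalizer (Z₁ : Set G)) : Set (normalizer (Z₁ : Set G))) := by
    rw [mem_centralizer_iff]
    intro y hy
    refine Subtype.ext ?_
    exact mem_centralizer_iff.mp hxc (y : G) ⟨y, hy, rfl⟩
  exact ⟨⟨x, hx⟩, h1 h2, rfl⟩

/-- `O₂(N_G(Z₁))` centralises `Z₁`. -/
theorem W_cent : o2 (normalizer (Z₁ : Set G)) ≤ centralizer (Z₁ : Set G) := by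
  have : Fact (Nat.Prime 2) := ⟨Nat.prime_two⟩
  set W := o2 (normalizer (Z₁ : Set G)) with hW
  have hWn : W ≤ normalizer (Z₁ : Set G) := MinSimple.VModule.o2_le _
  have h1 := PLocal.OffenderStep.inf_centralizer_ne_bot Z₁ W h.Z1_two (o2_isPGroup _) hWn h.ne
  have h2 : N ≤ normalizer ((Z₁ ⊓ centralizer (W : Set G) : Subgroup G) : Set G) := by
    intro n hn
    rw [mem_normalizer_iff_cj, cj_inf, cj_centralizer, mem_normalizer_iff_cj.1 (h.NN hn),
      cj_eq_of_mem_normalizer (MinSimple.VModule.le_normalizer_o2 _ (h.NN hn))]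
  have h3 := h.irr _ inf_le_left h2 h1
  rw [le_centralizer_iff]
  exact h3.trans inf_le_right

/-- `O₂(N_G(Z₁)) ≤ B`. -/
theorem W_le : o2 (normalizer (Z₁ : Set G)) ≤ B := by
  set W := o2 (normalizer (Z₁ : Set G)) with hW
  have h1 : W ≤ centralizer (ZJ : Set G) := by
    rw [le_centralizer_iff]
    refine h.ZJle.trans (sup_le ?_ (iSup_le fun j => (h.K j).trans inf_le_right))
    rw [le_centralizer_iff]
    exact h.W_cent
  refine le_syl h.syl (o2_isPGroup _) h1 ?_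
  have h2 : centralizer (ZJ : Set G) ≤ normalizer (Z₁ : Set G) :=
    (centralizer_le h.Z1J).trans (centralizer_le_normalizer _)
  exact h2.trans (MinSimple.VModule.le_normalizer_o2 _)

theorem X_le_o2 : X Z₁ ≤ o2 (normalizer (Z₁ : Set G)) := by
  have hXn : X Z₁ ≤ normalizer (Z₁ : Set G) := fun x hx => centralizer_le_normalizer _ hx.1
  refine MinSimple.VModule.le_o2 hXn ?_ ?_
  · -- the squares centralise `W`
    rintro ⟨x, hx⟩
    have h1 : x ^ 2 ∈ o2 (normalizer (Z₁ : Set G)) := by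
      refine h.char2 ⟨pow_mem (hXn hx) 2, mem_centralizer_iff.2 fun w hw => ?_⟩
      have h2 := hx.2 w hw
      set c := x * w * x⁻¹ * w⁻¹ with hc
      have hcx : c * x = x * c := mem_centralizer_iff.1 hx.1 c h2
      have hc2 : c * c = 1 := by rw [← pow_two]; exact h.Z1_sq c h2
      have e1 : x * w = c * w * x := by rw [hc]; group
      calc w * x ^ 2 = (c * c) * w * x ^ 2 := by rw [hc2, one_mul]
        _ = c * (c * w * x) * x := by rw [pow_two]; group
        _ = c * (x * w) * x := by rw [e1]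
        _ = (c * x) * (w * x) := by group
        _ = x * (c * w * x) := by rw [hcx]; group
        _ = x * (x * w) := by rw [e1]
        _ = x ^ 2 * w := by rw [pow_two, mul_assoc]
    obtain ⟨k, hk⟩ := o2_isPGroup (normalizer (Z₁ : Set G)) ⟨x ^ 2, h1⟩
    refine ⟨k + 1, Subtype.ext ?_⟩
    have h2 := congrArg Subtype.val hk
    simp only [Subgroup.coe_pow, Subgroup.coe_one] at h2 ⊢
    rw [pow_succ', pow_mul]
    exact h2
  · -- `X` is normal in `N_G(Z₁)`
    have key : ∀ g ∈ normalizer (Z₁ : Set G), ∀ x ∈ X Z₁, g * x * g⁻¹ ∈ X Z₁ := by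
      rintro g hg x ⟨hx1, hx2⟩
      refine ⟨mem_centralizer_iff.2 fun z hz => ?_, fun w hw => ?_⟩
      · have h1 : g⁻¹ * z * g ∈ Z₁ := by
          have := (mem_normalizer_iff.1 (inv_mem hg) z).1 hz
          rwa [inv_inv] at this
        have h2 := mem_centralizer_iff.1 hx1 _ h1
        calc z * (g * x * g⁻¹) = g * ((g⁻¹ * z * g) * x) * g⁻¹ := by group
          _ = g * (x * (g⁻¹ * z * g)) * g⁻¹ := by rw [h2]
          _ = g * x * g⁻¹ * z := by group
      · have h1 : g⁻¹ * w * g ∈ o2 (normalizer (Z₁ : Set G)) := by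
          have := (mem_normalizer_iff.1 (inv_mem (MinSimple.VModule.le_normalizer_o2 _ hg)) w).1 hw
          rwa [inv_inv] at this
        have h2 := (mem_normalizer_iff.1 hg _).1 (hx2 _ h1)
        have e : g * x * g⁻¹ * w * (g * x * g⁻¹)⁻¹ * w⁻¹ =
            g * (x * (g⁻¹ * w * g) * x⁻¹ * (g⁻¹ * w * g)⁻¹) * g⁻¹ := by group
        rw [e]
        exact h2
    intro g hg
    rw [mem_normalizer_iff]
    refine fun x => ⟨key g hg x, fun hx => ?_⟩
    have h1 := key g⁻¹ (inv_mem hg) _ hx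
    have e : g⁻¹ * (g * x * g⁻¹) * g⁻¹⁻¹ = x := by group
    rwa [e] at h1

/-- `V₁ ≤ O₂(N_G(Z₁))`. -/
theorem V_le : V₁ ≤ o2 (normalizer (Z₁ : Set G)) :=
  fun v hv => h.X_le_o2 ⟨h.V1S hv, fun w hw => h.comm v hv w (h.W_le hw)⟩

/-- `V = V₁ ∏ V_j ≤ O₂(N_G(Z₁))`. -/
theorem V_le' : V₁ ⊔ ⨆ j, Vj j ≤ o2 (normalizer (Z₁ : Set G)) :=
  sup_le h.V_le (iSup_le fun j => (h.K j).trans inf_le_left)

/-- **`⟨V^{N_G(Z₁)}⟩` is abelian**, for every `V ≤ O₂(N_G(Z₁))` normalised by `B`. -/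
theorem W1_comm {V : Subgroup G} (hV : V ≤ o2 (normalizer (Z₁ : Set G)))
    (hBV : B ≤ normalizer (V : Set G))
    (noff : ∀ g : G, V ≤ normalizer ((cj g V : Subgroup G) : Set G) → cj g V ≤ normalizer (V : Set G) →
      V ≤ centralizer ((cj g V : Subgroup G) : Set G))
    {a b : G} (ha : a ∈ normalizer (Z₁ : Set G)) (hb : b ∈ normalizer (Z₁ : Set G)) :
    cj a V ≤ centralizer ((cj b V : Subgroup G) : Set G) := by
  set W := o2 (normalizer (Z₁ : Set G)) with hW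
  have hWx : ∀ x ∈ normalizer (Z₁ : Set G), cj x W = W := fun x hx =>
    cj_eq_of_mem_normalizer (MinSimple.VModule.le_normalizer_o2 _ hx)
  have key : ∀ x ∈ normalizer (Z₁ : Set G), V ≤ centralizer ((cj x V : Subgroup G) : Set G) := by
    intro x hx
    apply noff
    · have h1 : W ≤ normalizer ((cj x V : Subgroup G) : Set G) := by
        rw [← cj_normalizer, ← hWx x hx]
        exact cj_mono x (h.W_le.trans hBV)
      exact hV.trans h1
    · have h1 := cj_mono x hV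
      rw [hWx x hx] at h1
      exact h1.trans (h.W_le.trans hBV)
  have h1 := key (a⁻¹ * b) (mul_mem (inv_mem ha) hb)
  have h2 := cj_mono a h1
  rw [cj_centralizer, cj_cj, mul_inv_cancel_left] at h2
  exact h2

end InG

end Cfsg.Agent.Omega.OM.WOneG

end
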