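import Cfsg.Agent.Mrg.Omega.OM.Uni
import Cfsg.Agent.Mrg.Omega.OM.LocB
import Cfsg.Agent.Mrg.Omega.SQ1.Choice
import Cfsg.Agent.Mrg.Omega.LemmaK

section


/-!
# (U1): `N_G(B) ≤ N_G(V_P)` and `N_G(B)` permutes the `Z i`
-/

set_option autoImplicit false

namespace Cfsg.Agent.Omega.OM.Uni

open Subgroup Cfsg Cfsg.Agent.ZN Cfsg.Agent.ZN.ChoiceBase Cfsg.Agent.Omega.Frame
open Cfsg.Agent.Omega.MinPar
open Cfsg.Agent.Omega.OM.BlockUniq (Mx)

universe u

variable {G : Type u} [Group G] [Finite G]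

/-- `m(S)` bounds the orders of all elementary abelian 2-subgroups. -/
theorem mx_sylow (S : Sylow 2 G) : Mx G (mm (S : Subgroup G)) := by
  intro E hE
  have h2 : IsPGroup 2 E := by
    intro x
    exact ⟨1, by rw [pow_one]; exact Subtype.ext (SQ1.Bau.elem_sq hE x x.2)⟩
  obtain ⟨S', hS'⟩ := h2.exists_le_sylow
  obtain ⟨g, hg⟩ := MulAction.exists_smul_eq G S S'
  have hg2 : (S' : Subgroup G) = cj g (S : Subgroup G) := by
    rw [← hg, Sylow.coe_subgroup_smul]
    rfl
  have h1 := card_le_mm hE hS'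
  rwa [hg2, mm_cj] at h1

/-- **(U1)** in a group of characteristic 2 type without mutual pairs. -/
theorem norm_bau (hc : IsCharacteristicTwoType G) (S : Sylow 2 G) (hm : ¬ FF (S : Subgroup G)) {P : Subgroup G}
    (hP : IsParS (S : Subgroup G) P) (hS : (S : Subgroup G) ≠ ⊥) {ι : Type*} [Finite ι] {Q ZJ : Subgroup G}
    {L W Z C A : ι → Subgroup G} {q m : ℕ}
    (h : Fr (bau (S : Subgroup G)) Q (zl (S : Subgroup G) P) ZJ L W Z C A q m)
    (hQ : o2 P ≤ bau (S : Subgroup G)) {g : G} (hg : g ∈ normalizer (bau (S : Subgroup G) : Set G)) :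
    cj g (zl (S : Subgroup G) P) = zl (S : Subgroup G) P ∧ ∀ i, ∃ j, cj g (Z i) = Z j ∧ cj g (W i) ≤ W j ⊔ ZJ := by
  obtain ⟨U, -, -, -, hU, hUn, hUP⟩ := LocB.exists_local hc S hm (ChoiceBase.bau_le _) (F := {P})
    (by rintro _ rfl; exact ⟨hP, hQ⟩) ⟨P, rfl⟩ hS
  have hVU := (hUP P rfl).1
  refine h.norm_of hg fun w hw v hv => ?_
  have h1 : w ∈ U := by
    have h2 := cj_mono g hVU hw
    rwa [cj_eq_of_mem_normalizer (hUn hg)] at h2
  exact mem_centralizer_iff.1 (hU (hVU hv)) w h1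

end Cfsg.Agent.Omega.OM.Uni

end

section


/-!
# A natural FF-block is a block in the sense of LEMMA K

* `FB.nat_tri`, `FB.exists_mv` : conjugates of `Z` in the natural block;
* `FB.core` : a 2-subgroup normalised by `L` and contained in `L` centralises `V`;
* `FB.toBlock` : `LemmaK.Block 2 B L V`.
-/

set_option autoImplicit false

namespace Cfsg.Agent.Omega.OM.Uni

open Subgroup Cfsg Cfsg.Agent.PLocal.ThompsonJ Cfsg.Agent.ZN Cfsg.Agent.ZN.ChoiceBase
open Cfsg.Agent.PLocal.ElemAbSup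
open Cfsg.Agent.Omega.SQ1.Bau (mem_sup_comm card_sup_comm elem_comm elem_sq)
open Cfsg.Agent.Omega.SQ1.FFOne (mem_norm_of)
open Cfsg.Agent.Omega.LemmaK (Block WeakNormal)
open scoped Pointwise commutatorElement

universe u

variable {G : Type u} [Group G]

theorem isPGroup_of_el {E : Subgroup G} (h : IsElementaryAbelian 2 E) : IsPGroup 2 E := by
  intro x
  exact ⟨1, by rw [pow_one]; exact Subtype.ext (elem_sq h x x.2)⟩

namespace FB

variable {B L V Z : Subgroup G} {q : ℕ}

theorem comm_le' (h : FB B L V Z q) : ⁅V, B⁆ ≤ Z := h.toMd.comm_le le_rfl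

theorem cjZ_le (h : FB B L V Z q) {l : G} (hl : l ∈ L) : cj l Z ≤ V := by
  rintro _ ⟨z, hz, rfl⟩
  exact h.nV l hl z (h.ZV hz)

theorem exists_mv (h : FB B L V Z q) [Finite G] : ∃ l ∈ L, cj l Z ≠ Z ∧ V = Z ⊔ cj l Z := by
  obtain ⟨k, hk, hs⟩ := h.sup
  have h3 : V = Z ⊔ cj k Z := le_antisymm
    (hs.trans (sup_le (h.comm_le'.trans le_sup_left) ((cj_mono k h.comm_le').trans le_sup_right)))
    (sup_le h.ZV (h.cjZ_le hk))
  refine ⟨k, hk, fun e => ?_, h3⟩
  rw [e, sup_idem] at h3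
  have h4 := h.card
  rw [h3] at h4
  have h5 : 0 < Nat.card Z := Nat.card_pos
  have h6 := h.one
  nlinarith

/-- in a natural block the conjugates of `Z` are equal or meet trivially -/
theorem nat_tri (h : FB B L V Z q) [Finite G] (hq : Nat.card Z = q) {l : G} (hl : l ∈ L) (hne : cj l Z ≠ Z) :
    cj l Z ⊓ Z = ⊥ := by
  rcases h.tri l hl with h1 | h1
  · exact absurd h1 hne
  obtain ⟨k, hk, -, hs⟩ := h.exists_mv
  have hcc := card_sup_comm (A := Z) (B := cj k Z) fun a ha b hb' => h.toMd.comm (h.ZV ha) (h.cjZ_le hk hb')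
  rw [← hs, h.card, card_cj, hq] at hcc
  have h3 : Nat.card ↥(Z ⊓ cj k Z) = 1 := by
    have hq0 : 0 < q * q := Nat.mul_pos (by have := h.one; omega) (by have := h.one; omega)
    exact Nat.eq_of_mul_eq_mul_left hq0 (by rw [hcc, mul_one])
  have h4 : Z ⊓ cj k Z = ⊥ := by
    rw [← Subgroup.card_eq_one]; exact h3
  rw [eq_bot_iff]
  intro x hx
  have hxc := h1 hx
  have h5 : x ∈ Z ⊓ cj k Z := by
    refine mem_inf.2 ⟨(mem_inf.1 hx).2, ?_⟩
    rw [mem_cj]
    have h3 := mem_centralizer_iff.1 hxc k hk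
    have h4 : k⁻¹ * x * k = x := by
      calc k⁻¹ * x * k = k⁻¹ * (x * k) := by group
        _ = k⁻¹ * (k * x) := by rw [h3]
        _ = x := by group
    rw [h4]; exact (mem_inf.1 hx).2
  rwa [h4] at h5

/-- a 2-subgroup of `L` normalised by `L` centralises `V` -/
theorem core (h : FB B L V Z q) [Finite G] (hB : IsPGroup 2 B) {R : Subgroup G} (hR : IsPGroup 2 R) (hRL : R ≤ L)
    (hn : L ≤ normalizer (R : Set G)) : R ≤ centralizer (V : Set G) := by
  have h2 : IsPGroup 2 (B ⊔ R : Subgroup G) := IsPGroup.to_sup_of_normal_right' hB hR (h.BL.trans hn)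
  have h1 : B ⊔ R = B := h.syl _ le_sup_left (sup_le h.BL hRL) h2
  have hRB : R ≤ B := by rw [← h1]; exact le_sup_right
  intro r hr
  rw [mem_centralizer_iff]
  by_contra hcon
  push Not at hcon
  obtain ⟨v, hv, hrv⟩ := hcon
  obtain ⟨l, hl, hne, -⟩ := h.exists_mv
  apply hne
  -- `C_V(r) = Z` and `C_V(r) = Z^l`
  have hM := h.toMd.conj l
  have hcjV : cj l V = V := by
    apply le_antisymm
    · rintro _ ⟨w, hw, rfl⟩
      exact h.nV l hl w hw
    · intro w hw
      rw [mem_cj]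
      exact h.nV' hl hw
  rw [hcjV] at hM
  have hrl : r ∈ cj l B := by
    have h3 : cj l R = R := cj_eq_of_mem_normalizer (hn hl)
    rw [← h3] at hr
    exact cj_mono l hRB hr
  have hne' : ¬ ∀ u ∈ V, r * u = u * r := fun h1 => hrv (h1 v hv).symm
  have e : ∀ Z' : Subgroup G, ∀ B' : Subgroup G, Md B' V Z' q → r ∈ B' → Z' = V ⊓ centralizer ({r} : Set G) := by
    intro Z' B' hM' hrB'
    apply le_antisymm
    · intro z hz
      exact mem_inf.2 ⟨hM'.ZV hz, mem_centralizer_singleton_iff.2 (hM'.cZ r hrB' z hz).symm⟩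
    · intro z hz
      obtain ⟨h3, h4⟩ := mem_inf.1 hz
      exact hM'.mem_Z hrB' hne' h3 (mem_centralizer_singleton_iff.1 h4).symm
  rw [e _ _ hM hrl, ← e _ _ h.toMd (hRB hr)]

theorem Z_le_zc (h : FB B L V Z q) : Z ≤ zc B := fun z hz =>
  ChoiceBase.mem_zc.2 ⟨h.VB (h.ZV hz), elem_sq h.el z (h.ZV hz), fun b hb => h.cZ b hb z hz⟩

theorem perf (h : FB B L V Z q) : V ≤ ⁅V, L⁆ := by
  obtain ⟨k, hk, hs⟩ := h.sup
  refine hs.trans (sup_le (commutator_mono le_rfl h.BL) ?_)
  have h1 : cj k ⁅V, B⁆ = ⁅cj k V, cj k B⁆ := Subgroup.map_commutator _ _ _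
  rw [h1]
  refine commutator_mono ?_ ?_
  · rintro _ ⟨w, hw, rfl⟩
    exact h.nV k hk w hw
  · rintro _ ⟨w, hw, rfl⟩
    exact mul_mem (mul_mem hk (h.BL hw)) (inv_mem hk)

theorem LV (h : FB B L V Z q) [Finite G] : L ≤ normalizer (V : Set G) := fun l hl =>
  mem_norm_of fun v hv => h.nV l hl v hv

/-- `V = [⟨Ω₁Z(B)^L⟩, L]` -/
theorem V_eq (h : FB B L V Z q) [Finite G] : V = ⁅(⨆ x : L, MulAut.conj (x : G) • zc B : Subgroup G), L⁆ := by
  apply le_antisymm
  · refine h.perf.trans (commutator_mono ?_ le_rfl)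
    obtain ⟨k, hk, -, hs⟩ := h.exists_mv
    have h1 : ∀ x : G, x ∈ L → cj x Z ≤ ⨆ x : L, MulAut.conj (x : G) • zc B := fun x hx =>
      (cj_mono x h.Z_le_zc).trans (le_iSup (fun x : L => (MulAut.conj (x : G) • zc B : Subgroup G)) ⟨x, hx⟩)
    rw [hs]
    refine sup_le ?_ (h1 k hk)
    have := h1 1 (one_mem L)
    rwa [cj_one] at this
  · have hU : (⨆ x : L, MulAut.conj (x : G) • zc B : Subgroup G) ≤ zc B ⊔ V := by
      refine iSup_le fun x => ?_
      rintro _ ⟨z, hz, rfl⟩
      have h1 := h.act x x.2 z hz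
      have e : (x : G) * z * (x : G)⁻¹ = ((x : G) * z * (x : G)⁻¹ * z⁻¹) * z := by group
      show (x : G) * z * (x : G)⁻¹ ∈ _
      rw [e]
      exact mul_mem (mem_sup_right h1) (mem_sup_left hz)
    refine (commutator_mono hU le_rfl).trans ?_
    rw [Subgroup.commutator_le]
    intro u hu l hl
    have hzV : ∀ z ∈ zc B, ∀ v ∈ V, z * v = v * z := fun z hz v hv =>
      ((ChoiceBase.mem_zc.1 hz).2.2 v (h.VB hv)).symm
    obtain ⟨z, hz, v, hv, rfl⟩ := mem_sup_comm hzV hu
    have h1 := h.act l hl z hz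
    have h2 := h.nV l hl v hv
    have h3 : l * (z * v) * l⁻¹ * (z * v)⁻¹ ∈ V := by
      have e : l * (z * v) * l⁻¹ * (z * v)⁻¹ = (l * z * l⁻¹ * z⁻¹) * (z * (l * v * l⁻¹ * v⁻¹) * z⁻¹) := by group
      rw [e]
      refine mul_mem h1 ?_
      have h4 := mul_mem h2 (inv_mem hv)
      rw [hzV z hz _ h4, mul_inv_cancel_right]
      exact h4
    have e : ⁅z * v, l⁆ = (l * (z * v) * l⁻¹ * (z * v)⁻¹)⁻¹ := by rw [commutatorElement_def]; group
    rw [e]
    exact inv_mem h3

/-- A natural FF-block is a block in the sense of LEMMA K. -/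
theorem toBlock (h : FB B L V Z q) [Finite G] (hq : Nat.card Z = q) (hB : IsPGroup 2 B) (hW : WeakNormal 2 B) :
    Block 2 B L V where
  two := hB
  le := h.BL
  nor := hW
  gen := h.gen
  inv := by
    intro g hg
    exact LemmaK.inv_of h.BL h.gen (normalizer_le_normalizer_zc B) le_rfl h.V_eq g hg
  Vp := isPGroup_of_el h.el
  VL := h.VB.trans h.BL
  LV := h.LV
  core := fun R h1 h2 h3 => h.core hB h1 h2 h3
  perf := h.perf
  irr := by
    intro U hU hn
    by_cases hUZ : U ≤ Z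
    · left
      obtain ⟨l, hl, hne, -⟩ := h.exists_mv
      have h1 := h.nat_tri hq hl hne
      have h2 : U ≤ cj l Z ⊓ Z := by
        refine le_inf ?_ hUZ
        have h3 : cj l U = U := cj_eq_of_mem_normalizer (hn hl)
        rw [← h3]
        exact cj_mono l hUZ
      rw [h1, le_bot_iff] at h2
      rw [h2]
      exact bot_le
    · right
      obtain ⟨u, hu, huZ⟩ := SetLike.not_le_iff_exists.1 hUZ
      -- `Z ≤ U`
      have hZU : Z ≤ U := by
        obtain ⟨R, hR1, hR2, hR3, hR4⟩ := h.toMd.relIndex_comm le_rfl (hU hu) huZ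
        have hRU : R ≤ U := by
          intro r hr
          obtain ⟨x, hx, rfl⟩ := hR2 r hr
          exact mul_mem ((mem_normalizer_iff.1 (hn (h.BL hx)) u).1 hu) (inv_mem hu)
        -- `U` is not contained in `Z`, so `U Z^l`...
        have hUV : Nat.card R ≠ 1 := by
          intro h1
          have h2 : R = ⊥ := Subgroup.card_eq_one.1 h1
          obtain ⟨b, hb, v, hv, hbv⟩ := h.ne
          have h3 := hR3 b hb
          rw [h2, mem_bot] at h3
          exact hbv (h.free b hb u (hU hu) huZ (mul_inv_eq_iff_eq_mul.1 (mul_inv_eq_one.1 h3)) v hv)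
        obtain ⟨r, hr, hr1⟩ : ∃ r ∈ R, r ≠ 1 := by
          by_contra hcon
          push Not at hcon
          exact hUV (Subgroup.card_eq_one.2 ((eq_bot_iff).2 fun x hx => by rw [mem_bot]; exact hcon x hx))
        have hrU := hRU hr
        have hrZ := hR1 hr
        -- `N_L(B)` is transitive on `Z - 1`
        have hnc : ∀ z ∈ Z, z ≠ 1 → z ∉ centralizer (L : Set G) := by
          intro z hz hz1 hzc
          obtain ⟨l, hl, hne, -⟩ := h.exists_mv
          have h1 := h.nat_tri hq hl hne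
          have h2 : z ∈ cj l Z ⊓ Z := by
            refine mem_inf.2 ⟨?_, hz⟩
            rw [mem_cj]
            have h3 := mem_centralizer_iff.1 hzc l hl
            have h4 : l⁻¹ * z * l = z := by
              calc l⁻¹ * z * l = l⁻¹ * (z * l) := by group
                _ = l⁻¹ * (l * z) := by rw [h3]
                _ = z := by group
            rwa [h4]
          rw [h1, mem_bot] at h2
          exact hz1 h2
        intro z hz
        by_cases hz1 : z = 1
        · rw [hz1]; exact one_mem _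
        obtain ⟨x, hx, hxn, hxc⟩ := h.tor r hrZ (hnc r hrZ hr1) z hz (hnc z hz hz1)
        have h5 : x * r * x⁻¹ * z⁻¹ ∈ Z := by
          refine mul_mem ?_ (inv_mem hz)
          -- `x` normalises `B`, so `Z = C_V(B)`
          refine h.toMd.mem_Z_iff.2 ⟨h.nV x hx r (h.ZV hrZ), fun b hb => ?_⟩
          have hb' : x⁻¹ * b * x ∈ B := by
            have := (mem_normalizer_iff''.1 hxn b).1 hb
            exact this
          have h6 := h.cZ _ hb' r hrZ
          have h7 := congrArg (fun t => x * t * x⁻¹) h6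
          simpa [mul_assoc] using h7
        have h6 : x * r * x⁻¹ * z⁻¹ = 1 := by
          by_contra hne
          exact hnc _ h5 hne hxc
        rw [← mul_inv_eq_one.1 h6]
        exact (mem_normalizer_iff.1 (hn hx) r).1 hrU
      obtain ⟨l, hl, -, hs⟩ := h.exists_mv
      rw [hs]
      refine sup_le hZU ?_
      have h3 : cj l U = U := cj_eq_of_mem_normalizer (hn hl)
      rw [← h3]
      exact cj_mono l hZU

end FB

end Cfsg.Agent.Omega.OM.Uni

end
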