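import Cfsg.Agent.Mrg.Intrinsic.NZCore
import Cfsg.Agent.ZN.ChoiceSit
import Cfsg.Agent.PLocal.OffenderStep
import Cfsg.Agent.Mrg.Omega.SQ1.Choice
import Cfsg.Agent.MinSimple.VModule

section


/-!
# Weak closure of `B` and two conjugates of `B` with commuting center and axis (UNI+ of bb OMEGA #15330, helper938)

* `WC B`: `B` is the only conjugate of `B` in a 2-group containing `B`.
* `WC.eq_mod`: if `B^x, B^y ≤ P`, `P` normalises `U` and acts on it as a 2-group, then `B^x` and `B^y` are conjugate by an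
  element of `C_P(U)`.
* `WC.star`: this happens if `[U, B^y] ≤ R ≤ C_U(⟨B^x, B^y⟩)`, `U` elementary abelian.
-/

set_option autoImplicit false

namespace Cfsg.Agent.Omega.OM.WeakCl

open Subgroup Cfsg Cfsg.Agent.ZN Cfsg.Agent.ZN.ChoiceBase
open scoped Pointwise commutatorElement

universe u

variable {G : Type u} [Group G]

/-- `B` is weakly closed in every 2-group containing it. -/
def WC (B : Subgroup G) : Prop :=
  ∀ T : Subgroup G, IsPGroup 2 T → B ≤ T → ∀ g : G, cj g B ≤ T → cj g B = B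

theorem WC.conj {B : Subgroup G} (h : WC B) (x : G) : WC (cj x B) := by
  intro T hT hB g hg
  have h1 : IsPGroup 2 (cj x⁻¹ T) := hT.map _
  have h2 : B ≤ cj x⁻¹ T := by
    have := cj_mono x⁻¹ hB
    rwa [cj_inv_cj] at this
  have h3 : cj (x⁻¹ * g * x) B ≤ cj x⁻¹ T := by
    have := cj_mono x⁻¹ hg
    rwa [cj_cj, cj_cj] at this
  have h4 := h _ h1 h2 _ h3
  have h5 := congrArg (cj x) h4
  rw [cj_cj] at h5
  have e : x * (x⁻¹ * g * x) = g * x := by group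
  rw [e] at h5
  rw [cj_cj, h5]

/-- A 2-group quotient is covered by a Sylow 2-subgroup. -/
theorem eq_mod_aux [Finite G] {P C : Subgroup G} (hC : ∀ c ∈ C, ∀ p ∈ P, p * c * p⁻¹ ∈ C)
    (h2 : ∀ p ∈ P, ∃ k : ℕ, p ^ 2 ^ k ∈ C) (T : Sylow 2 P) :
    ∀ p ∈ P, ∃ t ∈ (T : Subgroup P).map P.subtype, ∃ c ∈ C, p = t * c := by
  classical
  have : Fact (Nat.Prime 2) := ⟨Nat.prime_two⟩
  set C' : Subgroup P := C.subgroupOf P with hC'
  have : C'.Normal := ⟨fun c hc p => by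
    rw [hC', mem_subgroupOf] at hc ⊢
    exact hC _ hc _ p.2⟩
  have hq : IsPGroup 2 (P ⧸ C') := by
    intro q
    obtain ⟨p, rfl⟩ := QuotientGroup.mk_surjective q
    obtain ⟨k, hk⟩ := h2 p p.2
    refine ⟨k, ?_⟩
    rw [← QuotientGroup.mk_pow, QuotientGroup.eq_one_iff, hC', mem_subgroupOf]
    exact hk
  -- the image of `T` is everything
  have hT : (T : Subgroup P) ⊔ C' = ⊤ := by
    have h1 : ¬ 2 ∣ ((T : Subgroup P) ⊔ C').index := fun h =>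
      T.not_dvd_index (h.trans (Subgroup.index_dvd_of_le le_sup_left))
    have h2 : C' ≤ (T : Subgroup P) ⊔ C' := le_sup_right
    have h3 : ((T : Subgroup P) ⊔ C').index ∣ C'.index := Subgroup.index_dvd_of_le h2
    obtain ⟨n, hn⟩ := IsPGroup.iff_card.1 hq
    have h4 : C'.index = 2 ^ n := by rw [Subgroup.index, ← hn]
    rw [h4] at h3
    obtain ⟨m, -, hm⟩ := (Nat.dvd_prime_pow Nat.prime_two).1 h3
    rw [← Subgroup.index_eq_one, hm]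
    rcases Nat.eq_zero_or_pos m with h0 | h0
    · rw [h0, pow_zero]
    · exact absurd (by rw [hm]; exact dvd_pow_self 2 h0.ne') h1
  intro p hp
  have h1 : (⟨p, hp⟩ : P) ∈ (T : Subgroup P) ⊔ C' := by rw [hT]; exact mem_top _
  rw [Subgroup.mem_sup_of_normal_right] at h1
  obtain ⟨t, ht, c, hc, e⟩ := h1
  refine ⟨t, ⟨t, ht, rfl⟩, c, ?_, ?_⟩
  · rw [hC', mem_subgroupOf] at hc; exact hc
  · exact (congrArg Subtype.val e).symm

theorem WC.eq_mod [Finite G] {B P : Subgroup G} (h : WC B) (hB : IsPGroup 2 B) {C : Subgroup G} {x y : G}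
    (hx : cj x B ≤ P) (hy : cj y B ≤ P) (hC : ∀ c ∈ C, ∀ p ∈ P, p * c * p⁻¹ ∈ C)
    (h2 : ∀ p ∈ P, ∃ k : ℕ, p ^ 2 ^ k ∈ C) : ∃ c ∈ C, cj (c * y) B = cj x B := by
  classical
  have : Fact (Nat.Prime 2) := ⟨Nat.prime_two⟩
  have hBx : IsPGroup 2 (cj x B) := hB.map _
  have hBy : IsPGroup 2 (cj y B) := hB.map _
  have hBx' : IsPGroup 2 ((cj x B).subgroupOf P) := hBx.comap_subtype
  have hBy' : IsPGroup 2 ((cj y B).subgroupOf P) := hBy.comap_subtype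
  obtain ⟨T, hT⟩ := hBx'.exists_le_sylow
  obtain ⟨T', hT'⟩ := hBy'.exists_le_sylow
  obtain ⟨p, hp⟩ := MulAction.exists_smul_eq P T' T
  -- `p B^y p⁻¹ ≤ T`
  have hT2 : cj x B ≤ (T : Subgroup P).map P.subtype := fun b hb => ⟨⟨b, hx hb⟩, hT (by
    rw [mem_subgroupOf]; exact hb), rfl⟩
  have hp1 : ∀ b ∈ cj y B, (p : G) * b * (p : G)⁻¹ ∈ (T : Subgroup P).map P.subtype := by
    intro b hb
    have h1 : (⟨b, hy hb⟩ : P) ∈ (T' : Subgroup P) := hT' (by rw [mem_subgroupOf]; exact hb)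
    refine ⟨p * ⟨b, hy hb⟩ * p⁻¹, ?_, rfl⟩
    rw [SetLike.mem_coe, ← hp, Sylow.coe_subgroup_smul]
    rw [Subgroup.mem_smul_pointwise_iff_exists]
    exact ⟨⟨b, hy hb⟩, h1, rfl⟩
  obtain ⟨t, ht, c, hc, e⟩ := eq_mod_aux hC h2 T p p.2
  have hT3 : IsPGroup 2 ((T : Subgroup P).map P.subtype) := T.isPGroup'.map _
  have hp2 : cj (c * y) B ≤ (T : Subgroup P).map P.subtype := by
    intro z hz
    rw [← cj_cj, mem_cj] at hz
    have h1 := hp1 _ hz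
    rw [e] at h1
    have e2 : t * c * (c⁻¹ * z * c) * (t * c)⁻¹ = t * z * t⁻¹ := by group
    rw [e2] at h1
    have h3 := mul_mem (mul_mem (inv_mem ht) h1) ht
    have e3 : t⁻¹ * (t * z * t⁻¹) * t = z := by group
    rwa [e3] at h3
  refine ⟨c, hc, ?_⟩
  have h3 := h.conj x _ hT3 hT2 (c * y * x⁻¹) (by
    rw [cj_cj, inv_mul_cancel_right]; exact hp2)
  rwa [cj_cj, inv_mul_cancel_right] at h3

/-- The subgroup of elements `k` with `[U, k] ≤ R` and `[R, k] = 1` -/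
def stab (U R : Subgroup G) : Subgroup G where
  carrier := {k | (∀ r ∈ R, k * r = r * k) ∧ ∀ u ∈ U, k * u * k⁻¹ * u⁻¹ ∈ R}
  one_mem' := ⟨fun r _ => by rw [one_mul, mul_one], fun u _ => by
    have : (1 : G) * u * 1⁻¹ * u⁻¹ = 1 := by group
    rw [this]; exact one_mem _⟩
  mul_mem' := by
    rintro a b ⟨ha, ha'⟩ ⟨hb, hb'⟩
    refine ⟨fun r hr => by rw [mul_assoc, hb r hr, ← mul_assoc, ha r hr, mul_assoc], fun u hu => ?_⟩
    have h1 := hb' u hu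
    have e : a * b * u * (a * b)⁻¹ * u⁻¹ = (a * (b * u * b⁻¹ * u⁻¹) * a⁻¹) * (a * u * a⁻¹ * u⁻¹) := by group
    rw [e, ha _ h1, mul_inv_cancel_right]
    exact mul_mem h1 (ha' u hu)
  inv_mem' := by
    rintro a ⟨ha, ha'⟩
    refine ⟨fun r hr => ?_, fun u hu => ?_⟩
    · have := ha r hr
      calc a⁻¹ * r = a⁻¹ * (r * a) * a⁻¹ := by group
        _ = a⁻¹ * (a * r) * a⁻¹ := by rw [this]
        _ = r * a⁻¹ := by group
    · have h1 := ha' u hu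
      have h2 := ha _ (inv_mem h1)
      have e : a⁻¹ * u * a⁻¹⁻¹ * u⁻¹ = a⁻¹ * (a * u * a⁻¹ * u⁻¹)⁻¹ * a := by group
      have h3 : a⁻¹ * (a * u * a⁻¹ * u⁻¹)⁻¹ * a = (a * u * a⁻¹ * u⁻¹)⁻¹ := by
        rw [mul_assoc, ← h2]; group
      rw [e, h3]
      exact inv_mem h1

theorem mem_stab {U R : Subgroup G} {k : G} :
    k ∈ stab U R ↔ (∀ r ∈ R, k * r = r * k) ∧ ∀ u ∈ U, k * u * k⁻¹ * u⁻¹ ∈ R := Iff.rfl

theorem stab_sq {U R : Subgroup G} (hRU : R ≤ U) (hU : ∀ u ∈ U, u * u = 1) {k : G} (hk : k ∈ stab U R) :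
    ∀ u ∈ U, k ^ 2 * u = u * k ^ 2 := by
  intro u hu
  have h1 := hk.2 u hu
  have h2 := hk.1 _ h1
  have h3 := hU _ (hRU h1)
  obtain ⟨r, hr⟩ : ∃ r, r = k * u * k⁻¹ * u⁻¹ := ⟨_, rfl⟩
  rw [← hr] at h1 h2 h3
  have e1 : k * u * k⁻¹ = r * u := by rw [hr]; group
  have e2 : k ^ 2 * u * (k ^ 2)⁻¹ = u := by
    calc k ^ 2 * u * (k ^ 2)⁻¹ = k * (k * u * k⁻¹) * k⁻¹ := by rw [pow_two]; group
      _ = k * (r * u) * k⁻¹ := by rw [e1]
      _ = (k * r) * u * k⁻¹ := by group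
      _ = (r * k) * u * k⁻¹ := by rw [h2]
      _ = r * (k * u * k⁻¹) := by group
      _ = r * r * u := by rw [e1, mul_assoc]
      _ = u := by rw [h3, one_mul]
  calc k ^ 2 * u = (k ^ 2 * u * (k ^ 2)⁻¹) * k ^ 2 := by group
    _ = u * k ^ 2 := by rw [e2]

/-- **The principle (⋆)**: `B^x, B^y` normalise the elementary abelian `U`, centralise `R ≤ U`, and `[U, B^y] ≤ R`.
Then `B^x` and `B^y` are conjugate by an element of `⟨B^x, B^y⟩` centralising `U`. -/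
theorem WC.star [Finite G] {B U R : Subgroup G} (h : WC B) (hB : IsPGroup 2 B) (hRU : R ≤ U)
    (hU : ∀ u ∈ U, u * u = 1) {x y : G}
    (hxU : ∀ b ∈ cj x B, ∀ u ∈ U, b * u * b⁻¹ ∈ U) (hyU : ∀ b ∈ cj y B, ∀ u ∈ U, b * u * b⁻¹ ∈ U)
    (hxR : ∀ b ∈ cj x B, ∀ r ∈ R, b * r = r * b) (hy : cj y B ≤ stab U R) :
    ∃ c : G, (∀ u ∈ U, c * u = u * c) ∧ cj (c * y) B = cj x B := by
  classical
  set P : Subgroup G := cj x B ⊔ cj y B with hP
  -- `P` normalises `U` and centralises `R`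
  have hPU : ∀ p ∈ P, ∀ u ∈ U, p * u * p⁻¹ ∈ U := by
    have h1 : P ≤ normalizer (U : Set G) := by
      rw [hP, sup_le_iff]
      have key : ∀ g : G, (∀ b ∈ cj g B, ∀ u ∈ U, b * u * b⁻¹ ∈ U) → cj g B ≤ normalizer (U : Set G) := by
        intro g hg b hb
        rw [mem_normalizer_iff]
        intro u
        refine ⟨hg b hb u, fun hu => ?_⟩
        have h3 := hg b⁻¹ (inv_mem hb) _ hu
        have e : b⁻¹ * (b * u * b⁻¹) * b⁻¹⁻¹ = u := by group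
        rwa [e] at h3
      exact ⟨key x hxU, key y hyU⟩
    intro p hp u hu
    exact (mem_normalizer_iff.1 (h1 hp) u).1 hu
  have hPR : ∀ p ∈ P, ∀ r ∈ R, p * r = r * p := by
    have h1 : P ≤ centralizer (R : Set G) := by
      rw [hP, sup_le_iff]
      exact ⟨fun b hb => mem_centralizer_iff.2 fun r hr => (hxR b hb r hr).symm,
        fun b hb => mem_centralizer_iff.2 fun r hr => ((hy hb).1 r hr).symm⟩
    intro p hp r hr
    exact (mem_centralizer_iff.1 (h1 hp) r hr).symm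
  -- the kernel `K` of `P` on `U / R`
  set K : Subgroup G := P ⊓ stab U R with hK
  have hKP : ∀ k ∈ K, ∀ p ∈ P, p * k * p⁻¹ ∈ K := by
    rintro k ⟨hk, hk1, hk2⟩ p hp
    have hpk : p * k * p⁻¹ ∈ P := P.mul_mem (P.mul_mem hp hk) (P.inv_mem hp)
    refine ⟨hpk, fun r hr => ?_, fun u hu => ?_⟩
    · exact hPR _ hpk r hr
    · have hu' : p⁻¹ * u * p ∈ U := by
        have := hPU p⁻¹ (inv_mem hp) u hu
        rwa [inv_inv] at this
      have h1 := hk2 _ hu'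
      have h2 := hPR p hp _ h1
      have e : p * k * p⁻¹ * u * (p * k * p⁻¹)⁻¹ * u⁻¹ = p * (k * (p⁻¹ * u * p) * k⁻¹ * (p⁻¹ * u * p)⁻¹) * p⁻¹ := by
        group
      rw [e, h2]
      have e2 : k * (p⁻¹ * u * p) * k⁻¹ * (p⁻¹ * u * p)⁻¹ * p * p⁻¹ = k * (p⁻¹ * u * p) * k⁻¹ * (p⁻¹ * u * p)⁻¹ := by
        group
      rw [e2]
      exact h1
  have hyK : cj y B ≤ K := le_inf le_sup_right hy
  -- `P = B^x K`
  have hPK : ∀ p ∈ P, ∃ b ∈ cj x B, ∃ k ∈ K, p = b * k := by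
    intro p hp
    have hp' : p ∈ closure ((cj x B : Set G) ∪ (cj y B : Set G)) := by
      rw [Subgroup.closure_union, closure_eq, closure_eq]; exact hp
    clear hp
    induction hp' using Subgroup.closure_induction with
    | mem p hp =>
      rcases hp with hp | hp
      · exact ⟨p, hp, 1, one_mem _, (mul_one p).symm⟩
      · exact ⟨1, one_mem _, p, hyK hp, (one_mul p).symm⟩
    | one => exact ⟨1, one_mem _, 1, one_mem _, (mul_one 1).symm⟩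
    | mul p q hp hq ihp ihq =>
      obtain ⟨b, hb, k, hk, rfl⟩ := ihp
      obtain ⟨c, hc, l, hl, rfl⟩ := ihq
      refine ⟨b * c, mul_mem hb hc, c⁻¹ * k * c * l, mul_mem ?_ hl, by group⟩
      have := hKP k hk c⁻¹ (inv_mem (mem_sup_left hc))
      rwa [inv_inv] at this
    | inv p hp ihp =>
      obtain ⟨b, hb, k, hk, rfl⟩ := ihp
      refine ⟨b⁻¹, inv_mem hb, b * k⁻¹ * b⁻¹, ?_, by group⟩
      exact hKP _ (inv_mem hk) b (mem_sup_left hb)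
  have hBx : IsPGroup 2 (cj x B) := hB.map _
  -- `C = C_P(U)`
  set C : Subgroup G := P ⊓ centralizer (U : Set G) with hC
  have hCmem : ∀ c, c ∈ C ↔ c ∈ P ∧ ∀ u ∈ U, c * u = u * c := fun c => by
    rw [hC, mem_inf, mem_centralizer_iff]
    exact and_congr_right fun _ => ⟨fun h u hu => (h u hu).symm, fun h u hu => (h u hu).symm⟩
  have hCP : ∀ c ∈ C, ∀ p ∈ P, p * c * p⁻¹ ∈ C := by
    intro c hc p hp
    obtain ⟨h1, h2⟩ := (hCmem c).1 hc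
    refine (hCmem _).2 ⟨mul_mem (mul_mem hp h1) (inv_mem hp), fun u hu => ?_⟩
    have hu' : p⁻¹ * u * p ∈ U := by
      have := hPU p⁻¹ (inv_mem hp) u hu
      rwa [inv_inv] at this
    have h3 := h2 _ hu'
    calc p * c * p⁻¹ * u = p * (c * (p⁻¹ * u * p)) * p⁻¹ := by group
      _ = p * (p⁻¹ * u * p * c) * p⁻¹ := by rw [h3]
      _ = u * (p * c * p⁻¹) := by group
  have h2 : ∀ p ∈ P, ∃ k : ℕ, p ^ 2 ^ k ∈ C := by
    intro p hp
    obtain ⟨b, hb, k, hk, rfl⟩ := hPK p hp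
    obtain ⟨n, hn⟩ := hBx ⟨b, hb⟩
    have hn' : b ^ 2 ^ n = 1 := by
      have := congrArg Subtype.val hn
      simpa using this
    -- `(b k)^m ∈ b^m K`
    have key : ∀ m : ℕ, ∃ l ∈ K, (b * k) ^ m = b ^ m * l := by
      intro m
      induction m with
      | zero => exact ⟨1, one_mem _, by simp⟩
      | succ m ih =>
        obtain ⟨l, hl, e⟩ := ih
        refine ⟨b⁻¹ * l * b * k, mul_mem ?_ hk, ?_⟩
        · have := hKP l hl b⁻¹ (inv_mem (mem_sup_left hb))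
          rwa [inv_inv] at this
        · rw [pow_succ, e, pow_succ]; group
    obtain ⟨l, hl, e⟩ := key (2 ^ n)
    rw [hn', one_mul] at e
    refine ⟨n + 1, ?_⟩
    rw [pow_succ, pow_mul, e]
    refine (hCmem _).2 ⟨pow_mem hl.1 2, stab_sq hRU hU hl.2⟩
  obtain ⟨c, hc, e⟩ := h.eq_mod hB (P := P) (x := x) (y := y) le_sup_left le_sup_right hCP h2
  exact ⟨c, ((hCmem c).1 hc).2, e⟩

end Cfsg.Agent.Omega.OM.WeakCl

end

section


/-!
# (R1) of OM1, abstract form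

Paper: helper4 #13281 (R1) with the repairs helper302 #14014, helper477 #13961.
`T` a Sylow 2-subgroup of `H`, `J = J(T)`, `V` an elementary abelian normal subgroup of `H`, `W ≤ C_T(V)`
elementary abelian, `T`-invariant and centralised by `J` (`W = Ω₁(Z(J(T)))` or `W = C_{Ω₁(Z(O₂(H)))}(J)`),
`Y = W V` normal in `H`, `[Y, J] ≤ V`, `C_T(V)` normal in `H`, `w ∈ H` with `V = C_V(J) C_V(J)^w` such that every
`H`-conjugate of an element of `J` acts on `V` as an element of `⟨J, J^w⟩`; `C_V(⟨J^H⟩) = 1` and no nontrivial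
element of `Ω₁(Z(T))` centralises `⟨J^H⟩`.  Then `W ≤ V`.
-/

set_option autoImplicit false

namespace Cfsg.Agent.Omega.OM

open Subgroup Cfsg Cfsg.Agent.ZN Cfsg.Agent.ZN.ChoiceBase Cfsg.Agent.ZN.ChoiceSit
open scoped Pointwise

universe u

variable {G : Type u} [Group G]

/-- The hypotheses of (R1), without the Weyl element. -/
structure ROneB (H T V W : Subgroup G) : Prop where
  syl : Syl T H
  VT : V ≤ T
  Vn : ∀ h ∈ H, ∀ v ∈ V, h * v * h⁻¹ ∈ V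
  Vsq : ∀ v ∈ V, v ^ 2 = 1
  Vc : ∀ v ∈ V, ∀ v' ∈ V, v * v' = v' * v
  Qn : ∀ h ∈ H, ∀ x ∈ T, (∀ v ∈ V, x * v = v * x) → h * x * h⁻¹ ∈ T
  WT : W ≤ T
  Wc : ∀ x ∈ W, ∀ y ∈ W, x * y = y * x
  Wsq : ∀ x ∈ W, x ^ 2 = 1
  WJ : ∀ x ∈ W, ∀ j ∈ jj T, j * x = x * j
  Wn : ∀ t ∈ T, ∀ x ∈ W, t * x * t⁻¹ ∈ W
  ZcV : ∀ z ∈ W, ∀ v ∈ V, z * v = v * z
  V1Z : ∀ v ∈ V, (∀ j ∈ jj T, j * v = v * j) → v ∈ W
  Yn : ∀ h ∈ H, ∀ y ∈ W ⊔ V, h * y * h⁻¹ ∈ W ⊔ V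
  act : ∀ j ∈ jj T, ∀ y ∈ W ⊔ V, j * y * j⁻¹ * y⁻¹ ∈ V
  cV : ∀ v ∈ V, (∀ h ∈ H, ∀ j ∈ jj T, h * j * h⁻¹ * v = v * (h * j * h⁻¹)) → v = 1
  cZ : ∀ z ∈ zc T, (∀ h ∈ H, ∀ j ∈ jj T, h * j * h⁻¹ * z = z * (h * j * h⁻¹)) → z = 1

/-- The hypotheses of (R1). -/
structure ROne (H T V W : Subgroup G) (w : G) : Prop extends ROneB H T V W where
  wH : w ∈ H
  split : ∀ v ∈ V, ∃ a ∈ V, ∃ b ∈ V, (∀ j ∈ jj T, j * a = a * j) ∧ (∀ j ∈ jj T, j * b = b * j) ∧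
    v = a * (w * b * w⁻¹)
  gen : ∀ h ∈ H, ∀ j ∈ jj T, ∃ k ∈ closure ((jj T : Set G) ∪ {x | ∃ j ∈ jj T, w * j * w⁻¹ = x}),
    ∀ v ∈ V, h * j * h⁻¹ * v * (h * j * h⁻¹)⁻¹ = k * v * k⁻¹

/-- The hypotheses of (R1), with a set `X` of conjugates of elements of `J(T)`. -/
structure ROneX (H T V W : Subgroup G) (X : Set G) : Prop extends ROneB H T V W where
  conj : ∀ x ∈ X, ∃ h ∈ H, ∃ j ∈ jj T, x = h * j * h⁻¹
  splitX : ∀ z ∈ W, ∃ a ∈ V, (∀ j ∈ jj T, j * a = a * j) ∧ ∀ x ∈ X, x * (z * a⁻¹) = z * a⁻¹ * x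
  gen : ∀ h ∈ H, ∀ j ∈ jj T, ∃ k ∈ closure ((jj T : Set G) ∪ X),
    ∀ v ∈ V, h * j * h⁻¹ * v * (h * j * h⁻¹)⁻¹ = k * v * k⁻¹

namespace ROneB

variable {H T V W : Subgroup G} (D : ROneB H T V W)
include D

/-- the elements of `Y` -/
theorem mem_Y {y : G} (hy : y ∈ W ⊔ V) : ∃ z ∈ W, ∃ v ∈ V, y = z * v := by
  have hle : V ≤ centralizer (W : Set G) := fun v hv =>
    mem_centralizer_iff.2 fun z hz => D.ZcV z hz v hv
  have h1 : y ∈ (W : Set G) * (V : Set G) := by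
    rw [← Subgroup.coe_mul_of_right_le_normalizer_left _ _ (hle.trans (centralizer_le_normalizer _))]
    exact hy
  obtain ⟨z, hz, v, hv, rfl⟩ := h1
  exact ⟨z, hz, v, hv, rfl⟩

theorem Y_comm {x y : G} (hx : x ∈ W ⊔ V) (hy : y ∈ W ⊔ V) : x * y = y * x := by
  obtain ⟨z, hz, v, hv, rfl⟩ := D.mem_Y hx
  obtain ⟨z', hz', v', hv', rfl⟩ := D.mem_Y hy
  have e1 : Commute z z' := D.Wc _ hz _ hz'
  have e2 : Commute z v' := D.ZcV z hz v' hv'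
  have e3 : Commute v z' := (D.ZcV z' hz' v hv).symm
  have e4 : Commute v v' := D.Vc v hv v' hv'
  exact ((e1.mul_right e2).mul_left (e3.mul_right e4)).eq

theorem Y_sq {y : G} (hy : y ∈ W ⊔ V) : y ^ 2 = 1 := by
  obtain ⟨z, hz, v, hv, rfl⟩ := D.mem_Y hy
  have e2 : Commute z v := D.ZcV z hz v hv
  rw [e2.mul_pow, D.Wsq _ hz, D.Vsq v hv, one_mul]

/-- the elements of `H` acting trivially on `Y / V` -/
def act' : Subgroup G where
  carrier := {x | x ∈ H ∧ ∀ y ∈ W ⊔ V, x * y * x⁻¹ * y⁻¹ ∈ V}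
  mul_mem' := by
    rintro a b ⟨ha, ha'⟩ ⟨hb, hb'⟩
    refine ⟨mul_mem ha hb, fun y hy => ?_⟩
    have e : a * b * y * (a * b)⁻¹ * y⁻¹ =
      (a * (b * y * b⁻¹ * y⁻¹) * a⁻¹) * (a * y * a⁻¹ * y⁻¹) := by group
    rw [e]
    exact mul_mem (D.Vn a ha _ (hb' y hy)) (ha' y hy)
  one_mem' := ⟨one_mem _, fun y _ => by simp⟩
  inv_mem' := by
    rintro a ⟨ha, ha'⟩
    refine ⟨inv_mem ha, fun y hy => ?_⟩
    have e : a⁻¹ * y * a⁻¹⁻¹ * y⁻¹ = a⁻¹ * (a * y * a⁻¹ * y⁻¹)⁻¹ * a⁻¹⁻¹ := by group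
    rw [e]
    exact D.Vn _ (inv_mem ha) _ (inv_mem (ha' y hy))

theorem mem_act' {x : G} : x ∈ D.act' ↔ x ∈ H ∧ ∀ y ∈ W ⊔ V, x * y * x⁻¹ * y⁻¹ ∈ V := Iff.rfl

theorem act'_conj {h x : G} (hh : h ∈ H) (hx : x ∈ D.act') : h * x * h⁻¹ ∈ D.act' := by
  obtain ⟨h1, h2⟩ := D.mem_act'.1 hx
  refine D.mem_act'.2 ⟨mul_mem (mul_mem hh h1) (inv_mem hh), fun y hy => ?_⟩
  have hy' := D.Yn h⁻¹ (inv_mem hh) y hy
  rw [inv_inv] at hy'
  have e : h * x * h⁻¹ * y * (h * x * h⁻¹)⁻¹ * y⁻¹ =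
    h * (x * (h⁻¹ * y * h) * x⁻¹ * (h⁻¹ * y * h)⁻¹) * h⁻¹ := by group
  rw [e]
  exact D.Vn h hh _ (h2 _ hy')

theorem jj_le_act' : jj T ≤ D.act' := fun j hj => D.mem_act'.2 ⟨D.syl.1 (jj_le T hj), D.act j hj⟩

theorem cj_act' {h j : G} (hh : h ∈ H) (hj : j ∈ jj T) : h * j * h⁻¹ ∈ D.act' :=
  D.act'_conj hh (D.jj_le_act' hj)

/-- An element of `⟨J^H⟩` centralising `V` centralises `Y`. -/
theorem cent_Y [Finite G] {x : G} (hx : x ∈ D.act') (hc : ∀ v ∈ V, x * v = v * x) :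
    ∀ y ∈ W ⊔ V, x * y = y * x := by
  have key : ∀ g ∈ T, (∀ v ∈ V, g * v = v * g) → ∀ y ∈ W ⊔ V, ∀ j ∈ jj T,
      j * (g * y * g⁻¹ * y⁻¹) = (g * y * g⁻¹ * y⁻¹) * j := by
    intro g hgT hgc y hy j hj
    obtain ⟨z, hz, v, hv, rfl⟩ := D.mem_Y hy
    have e : g * (z * v) * g⁻¹ * (z * v)⁻¹ = g * z * g⁻¹ * z⁻¹ := by
      have e1 : g * v * g⁻¹ = v := by rw [hgc v hv]; group
      have e2 : g * (z * v) * g⁻¹ * (z * v)⁻¹ = g * z * g⁻¹ * (g * v * g⁻¹) * v⁻¹ * z⁻¹ := by group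
      rw [e2, e1]; group
    rw [e]
    exact D.WJ _ (mul_mem (D.Wn g hgT z hz) (inv_mem hz)) j hj
  have cn : ∀ h ∈ H, ∀ x : G, (∀ v ∈ V, x * v = v * x) → ∀ v ∈ V, h * x * h⁻¹ * v = v * (h * x * h⁻¹) := by
    intro h hh x hxc v hv
    have hv' := D.Vn h⁻¹ (inv_mem hh) v hv
    rw [inv_inv] at hv'
    have h3 := hxc _ hv'
    have h4 := congrArg (fun t => h * t * h⁻¹) h3
    simpa [mul_assoc] using h4
  -- elements of `T`
  have hT : ∀ g ∈ T, g ∈ D.act' → (∀ v ∈ V, g * v = v * g) → ∀ y ∈ W ⊔ V, g * y = y * g := by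
    intro g hgT hg hgc y hy
    have h0 : g * y * g⁻¹ * y⁻¹ = 1 := by
      refine D.cV _ ((D.mem_act'.1 hg).2 y hy) fun h hh j hj => ?_
      have hgT' := D.Qn h⁻¹ (inv_mem hh) g hgT hgc
      have hgc' := cn h⁻¹ (inv_mem hh) g hgc
      have hy' := D.Yn h⁻¹ (inv_mem hh) y hy
      have h1 := key _ hgT' hgc' _ hy' j hj
      have h2 := congrArg (fun t => h * t * h⁻¹) h1
      simpa [mul_assoc] using h2
    have h1 : g * y * g⁻¹ = y := by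
      have := congrArg (fun t => t * y) h0
      simpa [mul_assoc] using this
    exact mul_inv_eq_iff_eq_mul.1 h1
  -- 2-elements
  have h2el : ∀ g ∈ D.act', (∃ n : ℕ, g ^ 2 ^ n = 1) → (∀ v ∈ V, g * v = v * g) →
      ∀ y ∈ W ⊔ V, g * y = y * g := by
    rintro g hg ⟨n, hn⟩ hgc y hy
    have hp : IsPGroup 2 (zpowers g) := by
      rintro ⟨z, hz⟩
      obtain ⟨m, rfl⟩ := mem_zpowers_iff.1 hz
      refine ⟨n, Subtype.ext ?_⟩
      show (g ^ m) ^ 2 ^ n = 1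
      rw [← zpow_natCast, ← zpow_mul, mul_comm, zpow_mul, zpow_natCast, hn, one_zpow]
    have hgH := (D.mem_act'.1 hg).1
    obtain ⟨S, hS, hgS⟩ := exists_syl hp ((zpowers_le (H := H)).2 hgH)
    obtain ⟨h, hh, e⟩ := syl_conj hS D.syl
    have h1 : h * g * h⁻¹ ∈ T := by
      rw [← e]
      exact ⟨g, hgS (mem_zpowers g), rfl⟩
    have h2 := hT _ h1 (D.act'_conj hh hg) (cn h hh g hgc) _ (D.Yn h hh y hy)
    have h3 := congrArg (fun t => h⁻¹ * t * h) h2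
    simpa [mul_assoc] using h3
  -- squares
  have hsq : ∀ y ∈ W ⊔ V, x ^ 2 * y = y * x ^ 2 := by
    intro y hy
    set d := x * y * x⁻¹ * y⁻¹ with hd
    have hdV : d ∈ V := (D.mem_act'.1 hx).2 y hy
    have e1 : x * y * x⁻¹ = d * y := by rw [hd]; group
    have e2 : x * d * x⁻¹ = d := by rw [hc d hdV]; group
    have hdd : d * d = 1 := by
      have := D.Vsq d hdV; rwa [pow_two] at this
    have e3 : x ^ 2 * y * (x ^ 2)⁻¹ = x * (x * y * x⁻¹) * x⁻¹ := by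
      simp only [pow_two, mul_inv_rev, mul_assoc]
    have e4 : x * (d * y) * x⁻¹ = (x * d * x⁻¹) * (x * y * x⁻¹) := by group
    have e5 : x ^ 2 * y * (x ^ 2)⁻¹ = y := by
      rw [e3, e1, e4, e1, e2, ← mul_assoc, hdd, one_mul]
    exact mul_inv_eq_iff_eq_mul.1 e5
  -- the odd part
  intro y hy
  obtain ⟨a, m, hm1, hm2⟩ := Nat.exists_eq_two_pow_mul_odd (isOfFinOrder_of_finite x).orderOf_pos.ne'
  obtain ⟨r, hr⟩ := hm1
  have h1 : x ^ m * y = y * x ^ m := by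
    refine h2el _ (pow_mem hx m) ⟨a, ?_⟩ (fun v hv => ?_) y hy
    · rw [← pow_mul, mul_comm, ← hm2, pow_orderOf_eq_one]
    · exact ((show Commute x v from hc v hv).pow_left m).eq
  have h3 : Commute (x ^ m) y := h1
  have h4 : Commute ((x ^ 2) ^ r) y := (show Commute (x ^ 2) y from hsq y hy).pow_left r
  have h5 : x = ((x ^ 2) ^ r)⁻¹ * x ^ m := by
    rw [← pow_mul, hr, pow_succ, inv_mul_cancel_left]
  rw [h5]
  exact (h4.inv_left.mul_left h3).eq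

/-- `C_Y(⟨J^H⟩) = 1`. -/
theorem eq_one_of_cent [Finite G] {y : G} (hy : y ∈ W ⊔ V)
    (hc : ∀ h ∈ H, ∀ j ∈ jj T, h * j * h⁻¹ * y = y * (h * j * h⁻¹)) : y = 1 := by
  let D1 : Subgroup G :=
    { carrier := {y | y ∈ W ⊔ V ∧ ∀ h ∈ H, ∀ j ∈ jj T, Commute (h * j * h⁻¹) y}
      mul_mem' := fun ⟨ha, ha'⟩ ⟨hb, hb'⟩ =>
        ⟨mul_mem ha hb, fun h hh j hj => (ha' h hh j hj).mul_right (hb' h hh j hj)⟩
      one_mem' := ⟨one_mem _, fun _ _ _ _ => Commute.one_right _⟩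
      inv_mem' := fun ⟨ha, ha'⟩ => ⟨inv_mem ha, fun h hh j hj => (ha' h hh j hj).inv_right⟩ }
  have hD1 : ∀ {y}, y ∈ D1 ↔ y ∈ W ⊔ V ∧ ∀ h ∈ H, ∀ j ∈ jj T, Commute (h * j * h⁻¹) y := Iff.rfl
  have hn : ∀ t ∈ T, ∀ y ∈ D1, t * y * t⁻¹ ∈ D1 := by
    intro t ht y hy
    have htH := D.syl.1 ht
    rw [hD1] at hy ⊢
    refine ⟨D.Yn t htH y hy.1, fun h hh j hj => ?_⟩
    have h1 := hy.2 (t⁻¹ * h) (mul_mem (inv_mem htH) hh) j hj
    have h2 := congrArg (fun x => t * x * t⁻¹) h1.eq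
    show h * j * h⁻¹ * (t * y * t⁻¹) = (t * y * t⁻¹) * (h * j * h⁻¹)
    simpa [mul_assoc] using h2
  have hbot : D1 = ⊥ := by
    by_contra hne
    have hTn : T ≤ normalizer (D1 : Set G) := by
      intro t ht
      rw [mem_normalizer_iff]
      refine fun x => ⟨hn t ht x, fun hx => ?_⟩
      have := hn t⁻¹ (inv_mem ht) _ hx
      simpa [mul_assoc] using this
    have hp1 : IsPGroup 2 D1 := by
      rintro ⟨x, hx⟩
      refine ⟨1, Subtype.ext ?_⟩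
      show x ^ 2 ^ 1 = 1
      rw [pow_one]
      exact D.Y_sq hx.1
    have : Fact (Nat.Prime 2) := ⟨Nat.prime_two⟩
    apply Cfsg.Agent.PLocal.OffenderStep.inf_centralizer_ne_bot D1 T hp1 D.syl.2.1 hTn hne
    rw [eq_bot_iff]
    rintro z ⟨hz, hzT⟩
    rw [mem_bot]
    have hz' := hD1.1 hz
    refine D.cZ z (mem_zc.2 ⟨sup_le D.WT D.VT hz'.1, D.Y_sq hz'.1, ?_⟩) fun h hh j hj => (hz'.2 h hh j hj).eq
    exact fun t ht => mem_centralizer_iff.1 hzT t ht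
  have : y ∈ D1 := ⟨hy, hc⟩
  rw [hbot] at this
  exact mem_bot.1 this

/-- An element of `W` centralised by `J` and by a set of conjugates which induce all of `⟨J^H⟩` is trivial. -/
theorem eq_one_of_gen [Finite G] {X : Set G} (hX : ∀ x ∈ X, x ∈ D.act')
    (gen : ∀ h ∈ H, ∀ j ∈ jj T, ∃ k ∈ closure ((jj T : Set G) ∪ X),
      ∀ v ∈ V, h * j * h⁻¹ * v * (h * j * h⁻¹)⁻¹ = k * v * k⁻¹)
    {d : G} (hd : d ∈ W) (hdX : ∀ x ∈ X, x * d = d * x) : d = 1 := by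
  have hdY : d ∈ W ⊔ V := mem_sup_left hd
  have hK : closure ((jj T : Set G) ∪ X) ≤ centralizer {d} := by
    rw [closure_le]
    rintro x (hx | hx)
    · rw [SetLike.mem_coe, mem_centralizer_iff]
      rintro _ rfl
      exact (D.WJ _ hd x hx).symm
    · rw [SetLike.mem_coe, mem_centralizer_iff]
      rintro _ rfl
      exact (hdX x hx).symm
  have hKact : closure ((jj T : Set G) ∪ X) ≤ D.act' := by
    rw [closure_le]
    rintro x (hx | hx)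
    · exact D.jj_le_act' hx
    · exact hX x hx
  refine D.eq_one_of_cent hdY fun h hh j hj => ?_
  obtain ⟨k, hk, hkv⟩ := gen h hh j hj
  have hkd : k * d = d * k := (mem_centralizer_iff.1 (hK hk) d rfl).symm
  have hx : k⁻¹ * (h * j * h⁻¹) ∈ D.act' := mul_mem (inv_mem (hKact hk)) (D.cj_act' hh hj)
  have hxc : ∀ v ∈ V, k⁻¹ * (h * j * h⁻¹) * v = v * (k⁻¹ * (h * j * h⁻¹)) := by
    intro v hv
    have h2 := hkv v hv
    have h3 : k⁻¹ * (h * j * h⁻¹ * v * (h * j * h⁻¹)⁻¹) * k = v := by rw [h2]; group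
    have h4 := congrArg (fun t => t * (k⁻¹ * (h * j * h⁻¹))) h3
    have h5 : k⁻¹ * (h * j * h⁻¹ * v * (h * j * h⁻¹)⁻¹) * k * (k⁻¹ * (h * j * h⁻¹)) =
      k⁻¹ * (h * j * h⁻¹) * v := by group
    rw [← h5]
    exact h4
  have h6 := D.cent_Y hx hxc d hdY
  have h7 : h * j * h⁻¹ = k * (k⁻¹ * (h * j * h⁻¹)) := by group
  have c1 : Commute k d := hkd
  have c2 : Commute (k⁻¹ * (h * j * h⁻¹)) d := h6
  rw [h7]
  exact (c1.mul_left c2).eq

end ROneB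

/-- **(R1)**: `W ≤ V`. -/
theorem ROneX.W_le [Finite G] {H T V W : Subgroup G} {X : Set G} (D : ROneX H T V W X) : W ≤ V := by
  intro z hz
  obtain ⟨a, ha, haJ, hax⟩ := D.splitX z hz
  have h1 : z * a⁻¹ = 1 := by
    refine D.toROneB.eq_one_of_gen (X := X) (fun x hx => ?_) D.gen
      (mul_mem hz (inv_mem (D.V1Z a ha haJ))) hax
    obtain ⟨h, hh, j, hj, rfl⟩ := D.conj x hx
    exact D.toROneB.cj_act' hh hj
  have : z = a := by rwa [mul_inv_eq_one] at h1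
  rw [this]
  exact ha

namespace ROne

variable {H T V W : Subgroup G} {w : G} (D : ROne H T V W w)
include D

/-- **(R1)**: `W ≤ V`. -/
theorem W_le [Finite G] : W ≤ V := by
  intro z hz
  have hzY : z ∈ W ⊔ V := mem_sup_left hz
  have hwi : w⁻¹ ∈ H := inv_mem D.wH
  -- `w⁻¹ z w = z₁ v₁`
  have h1 := D.Yn w⁻¹ hwi z hzY
  rw [inv_inv] at h1
  obtain ⟨z₁, hz₁, v₁, hv₁, e1⟩ := D.toROneB.mem_Y h1
  -- `w v₁ w⁻¹ = a (w b w⁻¹)`
  obtain ⟨a, ha, b, hb, haJ, hbJ, e2⟩ := D.split _ (D.Vn w D.wH v₁ hv₁)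
  have haZ := D.V1Z a ha haJ
  have hbZ := D.V1Z b hb hbJ
  -- `d = z a⁻¹ = w (z₁ b) w⁻¹`
  have e3 : z * a⁻¹ = w * (z₁ * b) * w⁻¹ := by
    have e4 : z = (w * z₁ * w⁻¹) * (w * v₁ * w⁻¹) := by
      have : z = w * (w⁻¹ * z * w) * w⁻¹ := by group
      rw [this, e1]; group
    have hw1 : w * b * w⁻¹ ∈ V := D.Vn w D.wH b hb
    rw [e4, e2, D.Vc a ha _ hw1]
    group
  have hzb : z₁ * b ∈ W := mul_mem hz₁ hbZ
  have hd1 : z * a⁻¹ = 1 := by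
    refine D.toROneB.eq_one_of_gen (X := {x | ∃ j ∈ jj T, w * j * w⁻¹ = x}) ?_ D.gen
      (mul_mem hz (inv_mem haZ)) ?_
    · rintro x ⟨j, hj, rfl⟩
      exact D.toROneB.cj_act' D.wH hj
    · rintro x ⟨j, hj, rfl⟩
      have h2 := D.WJ _ hzb j hj
      rw [e3]
      have h3 := congrArg (fun t => w * t * w⁻¹) h2
      have h4 : w * (j * (z₁ * b)) * w⁻¹ = w * j * w⁻¹ * (w * (z₁ * b) * w⁻¹) := by group
      have h5 : w * (z₁ * b * j) * w⁻¹ = w * (z₁ * b) * w⁻¹ * (w * j * w⁻¹) := by group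
      rw [h4, h5] at h3
      exact h3
  have : z = a := by rwa [mul_inv_eq_one] at hd1
  rw [this]
  exact ha

end ROne

end Cfsg.Agent.Omega.OM

end

section


/-!
# Subnormal subgroups acting as 2-groups centralise `⟨Ω₁Z(S)^H⟩`

`S` a Sylow 2-subgroup of `H`, `K ⊴ D ⊴ H`, `U` an `H`-invariant subgroup containing `Ω₁Z(S)`, the squares of the
elements of `K` centralise `U`.  Then `K` centralises `⟨Ω₁Z(S)^H⟩ = zl S H`.
-/

set_option autoImplicit false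

namespace Cfsg.Agent.Omega.OM.NJQ

open Subgroup Cfsg Cfsg.Agent.ZN Cfsg.Agent.ZN.ChoiceBase Cfsg.Agent.ZN.ChoiceSit
open Cfsg.Agent.Omega.SQ1.FFOne (syl_inf)

universe u

variable {G : Type u} [Group G] [Finite G]

theorem cent_zc {S H D K U : Subgroup G} (hS : Syl S H) (hD : D ≤ H) (hHD : ∀ h ∈ H, ∀ d ∈ D, h * d * h⁻¹ ∈ D)
    (hK : K ≤ D) (hDK : ∀ d ∈ D, ∀ k ∈ K, d * k * d⁻¹ ∈ K) (hKU : ∀ k ∈ K, ∀ x ∈ U, k * x * k⁻¹ ∈ U)
    (hZU : zc S ≤ U) (h2 : ∀ k ∈ K, ∀ x ∈ U, k ^ 2 * x = x * k ^ 2) :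
    ∀ k ∈ K, ∀ z ∈ zc S, k * z = z * k := by
  intro k hk z hz
  have h1 : Syl (S ⊓ D ⊓ K) K := syl_inf (syl_inf hS hD hHD) hK hDK
  obtain ⟨T, hT⟩ := syl_iff.1 h1
  have h3 := WeakCl.eq_mod_aux (P := K) (C := K ⊓ centralizer (U : Set G)) (fun c hc p hp => ?_) (fun p hp => ?_) T k hk
  · obtain ⟨t, ht, c, hc, rfl⟩ := h3
    rw [hT] at ht
    have e1 : t * z = z * t := (mem_zc.1 hz).2.2 t ht.1.1
    have e2 : c * z = z * c := (mem_centralizer_iff.1 hc.2 z (hZU hz)).symm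
    rw [mul_assoc, e2, ← mul_assoc, e1, mul_assoc]
  · refine ⟨K.mul_mem (K.mul_mem hp hc.1) (K.inv_mem hp), mem_centralizer_iff.2 fun x hx => ?_⟩
    have h4 : p⁻¹ * x * p ∈ U := by
      have := hKU p⁻¹ (inv_mem hp) x hx
      rwa [inv_inv] at this
    have h5 := mem_centralizer_iff.1 hc.2 _ h4
    calc x * (p * c * p⁻¹) = p * ((p⁻¹ * x * p) * c) * p⁻¹ := by group
      _ = p * (c * (p⁻¹ * x * p)) * p⁻¹ := by rw [h5]
      _ = p * c * p⁻¹ * x := by group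
  · refine ⟨1, ?_⟩
    rw [pow_one]
    exact ⟨pow_mem hp 2, mem_centralizer_iff.2 fun x hx => (h2 p hp x hx).symm⟩

theorem cent_zl {S H D K U : Subgroup G} (hS : Syl S H) (hD : D ≤ H) (hHD : ∀ h ∈ H, ∀ d ∈ D, h * d * h⁻¹ ∈ D)
    (hK : K ≤ D) (hDK : ∀ d ∈ D, ∀ k ∈ K, d * k * d⁻¹ ∈ K) (hHU : ∀ h ∈ H, ∀ x ∈ U, h * x * h⁻¹ ∈ U)
    (hZU : zc S ≤ U) (h2 : ∀ k ∈ K, ∀ x ∈ U, k ^ 2 * x = x * k ^ 2) :
    K ≤ centralizer (zl S H : Set G) := by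
  intro k hk
  have h0 : zl S H ≤ centralizer ({k} : Set G) := by
    refine iSup_le fun g => ?_
    rintro _ ⟨z, hz, rfl⟩
    have hg := g.2
    set h : G := (g : G) with hh
    have h1 : h⁻¹ * k * h * z = z * (h⁻¹ * k * h) := by
      refine cent_zc (S := S) (H := H) (D := D) (K := cj h⁻¹ K) (U := U) hS hD hHD ?_ ?_ ?_ hZU ?_ _ ?_ z hz
      · rintro _ ⟨x, hx, rfl⟩
        exact hHD _ (inv_mem hg) x (hK hx)
      · rintro d hd _ ⟨x, hx, rfl⟩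
        refine ⟨(h * d * h⁻¹) * x * (h * d * h⁻¹)⁻¹, hDK _ (hHD h hg d hd) x hx, ?_⟩
        simp only [MulEquiv.coe_toMonoidHom, MulAut.conj_apply]
        group
      · rintro _ ⟨x, hx, rfl⟩ y hy
        exact hHU _ (hD (hHD _ (inv_mem hg) x (hK hx))) y hy
      · rintro _ ⟨x, hx, rfl⟩ y hy
        have h3 := h2 x hx (h * y * h⁻¹) (hHU h hg y hy)
        simp only [MulEquiv.coe_toMonoidHom, MulAut.conj_apply]
        calc (h⁻¹ * x * h⁻¹⁻¹) ^ 2 * y = h⁻¹ * (x ^ 2 * (h * y * h⁻¹)) * h := by rw [pow_two, pow_two]; group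
          _ = h⁻¹ * ((h * y * h⁻¹) * x ^ 2) * h := by rw [h3]
          _ = y * (h⁻¹ * x * h⁻¹⁻¹) ^ 2 := by rw [pow_two, pow_two]; group
      · rw [mem_cj]
        have e : h⁻¹⁻¹ * (h⁻¹ * k * h) * h⁻¹ = k := by group
        rwa [e]
    rw [mem_centralizer_iff]
    intro y hy
    rw [Set.mem_singleton_iff.1 hy]
    simp only [MulEquiv.coe_toMonoidHom, MulAut.conj_apply]
    calc k * (h * z * h⁻¹) = h * (h⁻¹ * k * h * z) * h⁻¹ := by group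
      _ = h * (z * (h⁻¹ * k * h)) * h⁻¹ := by rw [h1]
      _ = h * z * h⁻¹ * k := by group
  exact mem_centralizer_iff.2 fun x hx => (mem_centralizer_iff.1 (h0 hx) k rfl).symm

end Cfsg.Agent.Omega.OM.NJQ

end
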