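import Cfsg.Agent.Mrg.Omega.OM.Uni
import Cfsg.Agent.Mrg.Omega.SQ1.BauMin
import Cfsg.Agent.Mrg.Omega.NO3S.NotFF.Basic
import Cfsg.Agent.Mrg.Omega.LemmaK
import Cfsg.Agent.Mrg.Omega.SQ1.FFKNat
import Cfsg.Agent.Mrg.Omega.SQ1.BauSBlk

section


/-!
# Blocks over `B` whose module is an extension of a trivial by a natural module

`PB B L N N1 N0 q`: `L ≥ B` acts on the elementary abelian group `N ≤ B`, trivially on `N0`, with `N / N0` of order
`q ^ 2`, `N1 = C_N(B)`, `N1 / N0` of order `q`; `B` is a Sylow 2-subgroup of `L = ⟨B, B^l⟩`.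

* `PB.fb` : `L` is an FF-block (`Uni.FB`) over `B` with module `[N, L]`;
* `PB.block` : `L` is a block in the sense of Lemma K (`LemmaK.Block`) with module `[N, L]`.
-/

set_option autoImplicit false

namespace Cfsg.Agent.Omega.OM

open Subgroup Cfsg Cfsg.Agent.PLocal.ThompsonJ Cfsg.Agent.ZN.ChoiceBase
open Cfsg.Agent.ZN hiding mem_zc
open Cfsg.Agent.PLocal.ElemAbSup
open Cfsg.Agent.Omega.SQ1.Bau (mem_sup_comm card_sup_comm elem_comm elem_sq Mv not_mv_iff mv_inv)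
open Cfsg.Agent.Omega.SQ1.BauK (Pl)
open Cfsg.Agent.Omega.OM.Uni (Md FB)
open Cfsg.Agent.Omega.LemmaK (Block WeakNormal inv_of)
open Cfsg.Agent.Omega.NO3S.NotFF (normalizer_commutator)
open scoped Pointwise commutatorElement

universe u

variable {G : Type u} [Group G]

/-- `L ≥ B` acts on `N ≤ B` with `N0` central, `N / N0` natural. -/
structure PB (B L N N1 N0 : Subgroup G) (q : ℕ) : Prop where
  Bp : IsPGroup 2 B
  BL : B ≤ L
  el : IsElementaryAbelian 2 N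
  NB : N ≤ B
  Nn : ∀ l ∈ L, ∀ v ∈ N, l * v * l⁻¹ ∈ N
  N1N : N1 ≤ N
  N1c : ∀ b ∈ B, ∀ v ∈ N1, b * v = v * b
  N01 : N0 ≤ N1
  N0c : ∀ l ∈ L, ∀ v ∈ N0, l * v = v * l
  card : Nat.card N = Nat.card N1 * q
  card1 : Nat.card N1 = Nat.card N0 * q
  opp : ∀ l ∈ L, Mv N1 l → ∀ v ∈ N1, l * v * l⁻¹ ∈ N1 → l * v * l⁻¹ ∈ N0
  quad : ∀ b ∈ B, ∀ v ∈ N, b * v * b⁻¹ * v⁻¹ ∈ N1
  cent : ∀ b ∈ B, (∃ v ∈ N, b * v ≠ v * b) → ∀ v ∈ N, b * v * b⁻¹ * v⁻¹ ∈ N0 → v ∈ N1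
  cardB : Nat.card B = Nat.card ↥(B ⊓ centralizer (N : Set G)) * q
  one : 1 < q
  mv : ∃ l ∈ L, Mv N1 l
  gen : ∀ l ∈ L, Mv N1 l → ∀ X : Subgroup G, B ≤ X → (∀ b ∈ B, l * b * l⁻¹ ∈ X) → L ≤ X
  act : ∀ l ∈ L, ∀ z ∈ zc B, l * z * l⁻¹ * z⁻¹ ∈ N
  cor : ∀ l ∈ L, ∀ x ∈ B, (∀ v ∈ N, x * v = v * x) → l * x * l⁻¹ ∈ B
  syl : ∀ T : Subgroup G, B ≤ T → T ≤ L → IsPGroup 2 T → T = B
  tor : ∀ z ∈ N1, z ∉ N0 → ∀ z' ∈ N1, z' ∉ N0 →
    ∃ h ∈ L, h ∈ normalizer (B : Set G) ∧ h * z * h⁻¹ * z'⁻¹ ∈ N0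

/-- `Ω₁Z(B) = C_{Ω₁Z(B)}(L) N1`. -/
theorem Z_split_aux {B L N N1 N0 : Subgroup G} {q : ℕ} [Finite G] (hpl : Pl L N N1 N0 q) {l : G} (hl : l ∈ L)
    (hm : Mv N1 l) (hgen : ∀ X : Subgroup G, B ≤ X → (∀ b ∈ B, l * b * l⁻¹ ∈ X) → L ≤ X) (hNB : N ≤ B)
    (hel : IsElementaryAbelian 2 N) (hN1c : ∀ b ∈ B, ∀ v ∈ N1, b * v = v * b)
    (hact : ∀ l ∈ L, ∀ z ∈ zc B, l * z * l⁻¹ * z⁻¹ ∈ N) {z : G} (hz : z ∈ zc B) :
    ∃ c ∈ zc B, (∀ l ∈ L, l * c = c * l) ∧ ∃ n ∈ N1, z = c * n := by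
  have hN1N := hpl.W1W
  have hzc := mem_zc.1 hz
  have hN1z : ∀ n ∈ N1, n ∈ zc B := fun n hn =>
    mem_zc.2 ⟨hNB (hN1N hn), elem_sq hel n (hN1N hn), fun b hb => hN1c b hb n hn⟩
  have hzN : ∀ v ∈ N, v * z = z * v := fun v hv => hzc.2.2 v (hNB hv)
  have h1 := hact l⁻¹ (inv_mem hl) z hz
  obtain ⟨a, ha, b, hb, e⟩ := hpl.split (inv_mem hl) (mv_inv.2 hm) h1
  -- `l⁻¹ z l = a (l⁻¹ b l) z`, so `b⁻¹ z = l (a z) l⁻¹`
  have haN := hN1N ha
  have hbN := hN1N hb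
  have e1 : b⁻¹ * z = l * (a * z) * l⁻¹ := by
    have hz1 : l⁻¹ * z * l⁻¹⁻¹ = a * (l⁻¹ * b * l⁻¹⁻¹) * z := by
      rw [← e]; group
    have e2 : z = (l * a * l⁻¹) * b * (l * z * l⁻¹) := by
      calc z = l * (l⁻¹ * z * l⁻¹⁻¹) * l⁻¹ := by group
        _ = l * (a * (l⁻¹ * b * l⁻¹⁻¹) * z) * l⁻¹ := by rw [hz1]
        _ = _ := by group
    have e3 : (l * a * l⁻¹) * b = b * (l * a * l⁻¹) := hpl.Wc _ (hpl.Wn l hl a haN) _ hbN
    have e4 : l * (a * z) * l⁻¹ = (l * a * l⁻¹) * (l * z * l⁻¹) := by group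
    rw [e4]
    calc b⁻¹ * z = b⁻¹ * ((l * a * l⁻¹) * b * (l * z * l⁻¹)) := by rw [← e2]
      _ = b⁻¹ * (b * (l * a * l⁻¹) * (l * z * l⁻¹)) := by rw [e3]
      _ = _ := by group
  have hc : b⁻¹ * z ∈ zc B := mul_mem (inv_mem (hN1z b hb)) hz
  have haz : a * z ∈ zc B := mul_mem (hN1z a ha) hz
  refine ⟨b⁻¹ * z, hc, ?_, b, hb, ?_⟩
  · have h2 : L ≤ centralizer ({b⁻¹ * z} : Set G) := by
      refine hgen _ (fun x hx => mem_centralizer_iff.2 fun y hy => ?_)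
        (fun x hx => mem_centralizer_iff.2 fun y hy => ?_)
      · rw [show y = b⁻¹ * z from hy]
        exact ((mem_zc.1 hc).2.2 x hx).symm
      · rw [show y = b⁻¹ * z from hy, e1]
        have h3 := (mem_zc.1 haz).2.2 x hx
        calc l * (a * z) * l⁻¹ * (l * x * l⁻¹) = l * ((a * z) * x) * l⁻¹ := by group
          _ = l * (x * (a * z)) * l⁻¹ := by rw [h3]
          _ = _ := by group
    exact fun g hg => (mem_centralizer_iff.1 (h2 hg) _ rfl).symm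
  · have e5 : z * b = b * z := (hzN b hbN).symm
    calc z = b⁻¹ * (b * z) := by group
      _ = b⁻¹ * (z * b) := by rw [e5]
      _ = _ := by group

namespace PB

variable {B L N N1 N0 : Subgroup G} {q : ℕ}

theorem comm (h : PB B L N N1 N0 q) {v w : G} (hv : v ∈ N) (hw : w ∈ N) : v * w = w * v :=
  elem_comm h.el v hv w hw

theorem pl (h : PB B L N N1 N0 q) : Pl L N N1 N0 q where
  Wn := h.Nn
  Wc := fun _ hv _ hw => h.comm hv hw
  W1W := h.N1N
  W01 := h.N01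
  W0n := fun l hl v hv => by rw [h.N0c l hl v hv, mul_inv_cancel_right]; exact hv
  card := h.card
  card1 := h.card1
  opp := h.opp

theorem LN [Finite G] (h : PB B L N N1 N0 q) : L ≤ normalizer (N : Set G) := fun l hl =>
  mem_normalizer_of_cj_le (by
    rintro _ ⟨v, hv, rfl⟩
    exact h.Nn l hl v hv)

theorem VN [Finite G] (h : PB B L N N1 N0 q) : ⁅N, L⁆ ≤ N := by
  rw [Subgroup.commutator_le]
  intro v hv l hl
  have h1 := mul_mem hv (h.Nn l hl _ (inv_mem hv))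
  rwa [← mul_assoc, ← mul_assoc, ← commutatorElement_def] at h1

theorem LV [Finite G] (h : PB B L N N1 N0 q) : L ≤ normalizer ((⁅N, L⁆ : Subgroup G) : Set G) :=
  normalizer_commutator h.LN le_normalizer_self'
where
  le_normalizer_self' : L ≤ normalizer (L : Set G) := le_normalizer

/-- `[b, v] ∈ [N, L]` -/
theorem comm_mem (_h : PB B L N N1 N0 q) {l v : G} (hl : l ∈ L) (hv : v ∈ N) :
    l * v * l⁻¹ * v⁻¹ ∈ (⁅N, L⁆ : Subgroup G) := by
  have h1 := inv_mem (commutator_mem_commutator hv hl)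
  have e : (⁅v, l⁆)⁻¹ = l * v * l⁻¹ * v⁻¹ := by rw [commutatorElement_def]; group
  rwa [e] at h1

theorem exists_b (h : PB B L N N1 N0 q) [Finite G] : ∃ b ∈ B, ∃ v ∈ N, b * v ≠ v * b := by
  by_contra hc
  push Not at hc
  have h1 : B ⊓ centralizer (N : Set G) = B :=
    inf_eq_left.2 fun b hb => mem_centralizer_iff.2 fun v hv => (hc b hb v hv).symm
  have h2 := h.cardB
  rw [h1] at h2
  have h3 : 0 < Nat.card B := Nat.card_pos
  have h4 := h.one
  have h5 : Nat.card B * 2 ≤ Nat.card B * q := Nat.mul_le_mul_left _ h4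
  omega

theorem exists_v (h : PB B L N N1 N0 q) [Finite G] : ∃ v ∈ N, v ∉ N1 := by
  by_contra hc
  push Not at hc
  obtain ⟨b, hb, v, hv, hne⟩ := h.exists_b
  exact hne (h.N1c b hb v (hc v hv))

/-- `N1 = [v, B] N0` for `v ∈ N - N1`. -/
theorem line (h : PB B L N N1 N0 q) [Finite G] {v : G} (hv : v ∈ N) (hv1 : v ∉ N1) {n : G} (hn : n ∈ N1) :
    ∃ b ∈ B, ∃ n0 ∈ N0, n = (b * v * b⁻¹ * v⁻¹) * n0 := by
  classical
  let f : B →* G :=
    { toFun := fun x => (x : G) * v * (x : G)⁻¹ * v⁻¹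
      map_one' := by simp
      map_mul' := by
        intro x y
        have h1 := h.quad y y.2 v hv
        have h2 := h.N1c x x.2 _ h1
        have h3 := h.comm (h.N1N (h.quad x x.2 v hv)) (h.N1N h1)
        show (x : G) * y * v * ((x : G) * y)⁻¹ * v⁻¹ = (x : G) * v * (x : G)⁻¹ * v⁻¹ * ((y : G) * v * (y : G)⁻¹ * v⁻¹)
        have e : (x : G) * y * v * ((x : G) * y)⁻¹ * v⁻¹ =
          (x * ((y : G) * v * (y : G)⁻¹ * v⁻¹) * (x : G)⁻¹) * ((x : G) * v * (x : G)⁻¹ * v⁻¹) := by group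
        rw [e, h2, h3]
        group }
  have hf : ∀ x : B, f x = (x : G) * v * (x : G)⁻¹ * v⁻¹ := fun x => rfl
  have hcN : ∀ x : B, f x ∈ N0 → ∀ w ∈ N, (x : G) * w = w * x := by
    intro x hx
    by_contra hc
    push Not at hc
    exact hv1 (h.cent x x.2 hc v hv hx)
  have hker : ∀ x : B, x ∈ f.ker ↔ (x : G) ∈ B ⊓ centralizer (N : Set G) := by
    intro x
    rw [MonoidHom.mem_ker, mem_inf, mem_centralizer_iff]
    constructor
    · intro h1
      exact ⟨x.2, fun w hw => (hcN x (by rw [h1]; exact one_mem _) w hw).symm⟩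
    · rintro ⟨-, h1⟩
      rw [hf, ← h1 v hv]; group
  have h1 : Nat.card f.ker = Nat.card ↥(B ⊓ centralizer (N : Set G)) := by
    refine Nat.card_congr
      { toFun := fun x => ⟨x.1, (hker x.1).1 x.2⟩
        invFun := fun x => ⟨⟨x.1, x.2.1⟩, (hker _).2 x.2⟩
        left_inv := fun x => rfl
        right_inv := fun x => rfl }
  have h2 : Nat.card f.range = q := by
    have h3 : Nat.card f.range * Nat.card f.ker = Nat.card B := by
      rw [← Subgroup.index_ker, mul_comm]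
      exact Subgroup.card_mul_index _
    rw [h1, h.cardB, mul_comm] at h3
    exact Nat.eq_of_mul_eq_mul_left Nat.card_pos h3
  have hR1 : f.range ≤ N1 := by
    rintro _ ⟨x, rfl⟩
    exact h.quad x x.2 v hv
  have hc : ∀ a ∈ f.range, ∀ b ∈ N0, a * b = b * a := fun a ha b hb =>
    h.comm (h.N1N (hR1 ha)) (h.N1N (h.N01 hb))
  have h3 := card_sup_comm hc
  have h4 : f.range ⊓ N0 = ⊥ := by
    rw [eq_bot_iff]
    rintro _ ⟨⟨x, rfl⟩, hx⟩
    rw [mem_bot, hf, hcN x hx v hv]; group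
  rw [h4, h2, Subgroup.card_bot, mul_one] at h3
  have h5 : f.range ⊔ N0 = N1 := by
    refine Subgroup.eq_of_le_of_card_ge (sup_le hR1 h.N01) ?_
    rw [h3, h.card1, mul_comm]
  rw [← h5] at hn
  obtain ⟨a, ⟨x, rfl⟩, b, hb, rfl⟩ := mem_sup_comm hc hn
  exact ⟨x, x.2, b, hb, rfl⟩

/-- An `L`-invariant subgroup of `N` not in `N0` covers `N / N0`. -/
theorem cover (h : PB B L N N1 N0 q) [Finite G] {U : Subgroup G} (hU : U ≤ N)
    (hLU : L ≤ normalizer (U : Set G)) (hne : ¬ U ≤ N0) {v : G} (hv : v ∈ N) :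
    ∃ u ∈ U, ∃ n ∈ N0, v = u * n := by
  have hLU' : ∀ l ∈ L, ∀ w ∈ U, l * w * l⁻¹ ∈ U := fun l hl w hw => (mem_normalizer_iff.1 (hLU hl) w).1 hw
  obtain ⟨l, hl, hm⟩ := h.mv
  obtain ⟨u, hu, hu0⟩ := SetLike.not_le_iff_exists.1 hne
  -- an element of `U - N1`
  obtain ⟨w, hw, hw1⟩ : ∃ w ∈ U, w ∉ N1 := by
    by_cases hu1 : u ∈ N1
    · refine ⟨l * u * l⁻¹, hLU' l hl u hu, fun h1 => hu0 ?_⟩
      have h2 := h.opp l hl hm u hu1 h1
      have h3 := h.pl.W0n l⁻¹ (inv_mem hl) _ h2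
      have e : l⁻¹ * (l * u * l⁻¹) * l⁻¹⁻¹ = u := by group
      rwa [e] at h3
    · exact ⟨u, hu, hu1⟩
  have hN1 : ∀ n ∈ N1, ∃ x ∈ U, ∃ m ∈ N0, n = x * m := by
    intro n hn
    obtain ⟨b, hb, m, hm, e⟩ := h.line (hU hw) hw1 hn
    exact ⟨_, mul_mem (hLU' b (h.BL hb) w hw) (inv_mem hw), m, hm, e⟩
  obtain ⟨a, ha, b, hb, rfl⟩ := h.pl.split hl hm hv
  obtain ⟨x, hx, m, hm', rfl⟩ := hN1 a ha
  obtain ⟨y, hy, k, hk, rfl⟩ := hN1 b hb
  refine ⟨x * (l * y * l⁻¹), mul_mem hx (hLU' l hl y hy), m * k, mul_mem hm' hk, ?_⟩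
  have e1 : l * (y * k) * l⁻¹ = (l * y * l⁻¹) * k := by
    calc l * (y * k) * l⁻¹ = l * y * l⁻¹ * (l * k) * l⁻¹ := by group
      _ = l * y * l⁻¹ * (k * l) * l⁻¹ := by rw [h.N0c l hl k hk]
      _ = _ := by group
  rw [e1]
  have e2 : m * (l * y * l⁻¹) = (l * y * l⁻¹) * m :=
    h.comm (h.N1N (h.N01 hm')) (h.Nn l hl y (hU hy))
  calc x * m * (l * y * l⁻¹ * k) = x * (m * (l * y * l⁻¹)) * k := by group
    _ = x * ((l * y * l⁻¹) * m) * k := by rw [e2]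
    _ = _ := by group

/-- elements of `N0` do not matter in commutators -/
theorem comm_eq (h : PB B L N N1 N0 q) {u n l : G} (hn : n ∈ N0) (hl : l ∈ L) :
    l * (u * n) * l⁻¹ * (u * n)⁻¹ = l * u * l⁻¹ * u⁻¹ := by
  have e1 : l * (u * n) * l⁻¹ = (l * u * l⁻¹) * n := by
    calc l * (u * n) * l⁻¹ = l * u * l⁻¹ * (l * n) * l⁻¹ := by group
      _ = l * u * l⁻¹ * (n * l) * l⁻¹ := by rw [h.N0c l hl n hn]
      _ = _ := by group
  rw [e1]; group

theorem comm_eq' (h : PB B L N N1 N0 q) {u n l : G} (hn : n ∈ N0) (hl : l ∈ L) :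
    ⁅u * n, l⁆ = ⁅u, l⁆ := by
  have h1 := h.comm_eq (u := u) hn hl
  have h2 := congrArg (fun t => t⁻¹) h1
  rw [commutatorElement_def, commutatorElement_def]
  simpa [mul_assoc] using h2

theorem V_not_le (h : PB B L N N1 N0 q) [Finite G] : ¬ ⁅N, L⁆ ≤ N0 := by
  intro hle
  obtain ⟨b, hb, w, hw, hne⟩ := h.exists_b
  obtain ⟨v, hv, hv1⟩ := h.exists_v
  exact hv1 (h.cent b hb ⟨w, hw, hne⟩ v hv (hle (h.comm_mem (h.BL hb) hv)))

/-- `[N, L] ≤ U` for every `L`-invariant subgroup `U` of `N` which is not in `N0`. -/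
theorem V_le (h : PB B L N N1 N0 q) [Finite G] {U : Subgroup G} (hU : U ≤ N)
    (hLU : L ≤ normalizer (U : Set G)) (hne : ¬ U ≤ N0) : ⁅N, L⁆ ≤ U := by
  rw [Subgroup.commutator_le]
  intro v hv l hl
  obtain ⟨u, hu, n, hn, rfl⟩ := h.cover hU hLU hne hv
  rw [h.comm_eq' hn hl, commutatorElement_def]
  have h1 := mul_mem hu ((mem_normalizer_iff.1 (hLU hl) _).1 (inv_mem hu))
  rwa [← mul_assoc, ← mul_assoc] at h1

theorem exists_V (h : PB B L N N1 N0 q) [Finite G] {v : G} (hv : v ∈ N) :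
    ∃ u ∈ (⁅N, L⁆ : Subgroup G), ∃ n ∈ N0, v = u * n := h.cover h.VN h.LV h.V_not_le hv

/-- `[N, L] = [[N, L], L]` -/
theorem V_perf (h : PB B L N N1 N0 q) [Finite G] : ⁅N, L⁆ ≤ ⁅(⁅N, L⁆ : Subgroup G), L⁆ := by
  rw [Subgroup.commutator_le]
  intro v hv l hl
  obtain ⟨u, hu, n, hn, rfl⟩ := h.exists_V hv
  rw [h.comm_eq' hn hl]
  exact commutator_mem_commutator hu hl

/-- `[[N, L], B] = [N, B]` -/
theorem VB_eq (h : PB B L N N1 N0 q) [Finite G] : ⁅(⁅N, L⁆ : Subgroup G), B⁆ = ⁅N, B⁆ := by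
  apply le_antisymm (commutator_mono h.VN le_rfl)
  rw [Subgroup.commutator_le]
  intro v hv b hb
  obtain ⟨u, hu, n, hn, rfl⟩ := h.exists_V hv
  rw [h.comm_eq' hn (h.BL hb)]
  exact commutator_mem_commutator hu hb

/-- `[N, L] = [N, B] [N, B]^l` -/
theorem V_sup (h : PB B L N N1 N0 q) [Finite G] {l : G} (hl : l ∈ L) (hm : Mv N1 l) :
    ⁅N, L⁆ ≤ ⁅N, B⁆ ⊔ cj l ⁅N, B⁆ := by
  set X : Subgroup G := ⁅N, B⁆ ⊔ cj l ⁅N, B⁆ with hX
  let S : Subgroup G :=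
    { carrier := {g | g ∈ L ∧ ∀ v ∈ N, g * v * g⁻¹ * v⁻¹ ∈ X}
      mul_mem' := by
        rintro a b ⟨ha, ha'⟩ ⟨hb, hb'⟩
        refine ⟨mul_mem ha hb, fun v hv => ?_⟩
        have e : a * b * v * (a * b)⁻¹ * v⁻¹ =
          (a * (b * v * b⁻¹) * a⁻¹ * (b * v * b⁻¹)⁻¹) * (b * v * b⁻¹ * v⁻¹) := by group
        rw [e]
        exact mul_mem (ha' _ (h.Nn b hb v hv)) (hb' v hv)
      one_mem' := ⟨one_mem _, fun v _ => by simp⟩
      inv_mem' := by
        rintro a ⟨ha, ha'⟩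
        refine ⟨inv_mem ha, fun v hv => ?_⟩
        have h1 := inv_mem (ha' _ (h.Nn a⁻¹ (inv_mem ha) v hv))
        have e : (a * (a⁻¹ * v * a⁻¹⁻¹) * a⁻¹ * (a⁻¹ * v * a⁻¹⁻¹)⁻¹)⁻¹ = a⁻¹ * v * a⁻¹⁻¹ * v⁻¹ := by group
        rwa [e] at h1 }
  have hB : B ≤ S := by
    intro b hb
    refine ⟨h.BL hb, fun v hv => mem_sup_left ?_⟩
    have h1 := inv_mem (commutator_mem_commutator hv hb)
    have e : (⁅v, b⁆)⁻¹ = b * v * b⁻¹ * v⁻¹ := by rw [commutatorElement_def]; group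
    rwa [e] at h1
  have hS : L ≤ S := by
    refine h.gen l hl hm S hB fun b hb => ?_
    refine ⟨mul_mem (mul_mem hl (h.BL hb)) (inv_mem hl), fun v hv => mem_sup_right ?_⟩
    have hv' : l⁻¹ * v * l ∈ N := by
      have := h.Nn l⁻¹ (inv_mem hl) v hv
      rwa [inv_inv] at this
    rw [mem_cj]
    have h1 := inv_mem (commutator_mem_commutator hv' hb)
    have e : (⁅l⁻¹ * v * l, b⁆)⁻¹ = l⁻¹ * (l * b * l⁻¹ * v * (l * b * l⁻¹)⁻¹ * v⁻¹) * l := by
      rw [commutatorElement_def]; group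
    rwa [e] at h1
  rw [Subgroup.commutator_le]
  intro v hv g hg
  have h1 := inv_mem ((hS hg).2 v hv)
  have e : (g * v * g⁻¹ * v⁻¹)⁻¹ = ⁅v, g⁆ := by rw [commutatorElement_def]; group
  rwa [e] at h1

/-- `Ω₁Z(B) = C_{Ω₁Z(B)}(L) N1`. -/
theorem Z_split (h : PB B L N N1 N0 q) [Finite G] {z : G} (hz : z ∈ zc B) :
    ∃ c ∈ zc B, (∀ l ∈ L, l * c = c * l) ∧ ∃ n ∈ N1, z = c * n := by
  obtain ⟨l, hl, hm⟩ := h.mv
  exact Z_split_aux h.pl hl hm (h.gen l hl hm) h.NB h.el h.N1c h.act hz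

/-- `[Ω₁Z(B), L] ≤ [N, L]` -/
theorem act_V (h : PB B L N N1 N0 q) [Finite G] {l z : G} (hl : l ∈ L) (hz : z ∈ zc B) :
    l * z * l⁻¹ * z⁻¹ ∈ (⁅N, L⁆ : Subgroup G) := by
  obtain ⟨c, hc, hcl, n, hn, rfl⟩ := h.Z_split hz
  have e : l * (c * n) * l⁻¹ * (c * n)⁻¹ = c * (l * n * l⁻¹ * n⁻¹) * c⁻¹ := by
    calc l * (c * n) * l⁻¹ * (c * n)⁻¹ = (l * c) * n * l⁻¹ * n⁻¹ * c⁻¹ := by group
      _ = (c * l) * n * l⁻¹ * n⁻¹ * c⁻¹ := by rw [hcl l hl]
      _ = _ := by group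
  have h1 := h.comm_mem hl (h.N1N hn)
  have h2 : (l * n * l⁻¹ * n⁻¹) * c = c * (l * n * l⁻¹ * n⁻¹) :=
    (mem_zc.1 hc).2.2 _ (h.NB (h.VN h1))
  rw [e, ← h2, mul_inv_cancel_right]
  exact h1

/-- An element of `B` centralising `[N, L]` centralises `N`. -/
theorem cent_N (h : PB B L N N1 N0 q) [Finite G] {x : G} (hx : x ∈ L)
    (hc : ∀ v ∈ (⁅N, L⁆ : Subgroup G), x * v = v * x) : ∀ v ∈ N, x * v = v * x := by
  intro v hv
  obtain ⟨u, hu, n, hn, rfl⟩ := h.exists_V hv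
  have e1 := hc u hu
  have e2 := h.N0c x hx n hn
  calc x * (u * n) = (x * u) * n := by group
    _ = u * (x * n) := by rw [e1]; group
    _ = u * n * x := by rw [e2]; group

/-- The module of the block. -/
theorem md (h : PB B L N N1 N0 q) [Finite G] : Md B ⁅N, L⁆ (⁅N, L⁆ ⊓ N1) q where
  VB := h.VN.trans h.NB
  el := isElementaryAbelian_mono h.el h.VN
  ZV := inf_le_left
  cZ := fun b hb z hz => h.N1c b hb z hz.2
  com := fun b hb v hv => mem_inf.2 ⟨mul_mem ((mem_normalizer_iff.1 (h.LV (h.BL hb)) v).1 hv) (inv_mem hv),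
    h.quad b hb v (h.VN hv)⟩
  free := by
    intro b hb v hv hvZ hbv u hu
    by_contra hne
    refine hvZ ⟨hv, h.cent b hb ⟨u, h.VN hu, hne⟩ v (h.VN hv) ?_⟩
    rw [hbv, mul_inv_cancel_right, mul_inv_cancel]
    exact one_mem _
  ne := by
    obtain ⟨b, hb, v, hv, hne⟩ := h.exists_b
    by_contra hc
    push Not at hc
    exact hne (h.cent_N (h.BL hb) (hc b hb) v hv)
  card := by
    have hc : ∀ a ∈ (⁅N, L⁆ : Subgroup G), ∀ b ∈ N1, a * b = b * a := fun a ha b hb =>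
      h.comm (h.VN ha) (h.N1N hb)
    have h1 := card_sup_comm hc
    have h2 : (⁅N, L⁆ : Subgroup G) ⊔ N1 = N := by
      apply le_antisymm (sup_le h.VN h.N1N)
      intro v hv
      obtain ⟨u, hu, n, hn, rfl⟩ := h.exists_V hv
      exact mul_mem (mem_sup_left hu) (mem_sup_right (h.N01 hn))
    rw [h2, h.card] at h1
    have hp : 0 < Nat.card N1 := Nat.card_pos
    refine Nat.eq_of_mul_eq_mul_right hp ?_
    rw [← h1]; ring
  cardB := by
    rw [h.cardB, mul_comm]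
    refine Nat.mul_le_mul_left _ (Subgroup.card_le_of_le (inf_le_inf_left _ ?_))
    exact centralizer_le (by exact_mod_cast h.VN)
  one := h.one

/-- **The FF-block.** -/
theorem fb (h : PB B L N N1 N0 q) [Finite G] : FB B L ⁅N, L⁆ (⁅N, L⁆ ⊓ N1) q where
  toMd := h.md
  BL := h.BL
  nV := fun l hl v hv => (mem_normalizer_iff.1 (h.LV hl) v).1 hv
  gen := by
    obtain ⟨l, hl, hm⟩ := h.mv
    refine h.gen l hl hm _ ?_ fun b hb => ?_
    · have h1 := le_iSup (fun x : L => cj (x : G) B) 1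
      rwa [OneMemClass.coe_one, cj_one] at h1
    · exact (le_iSup (fun x : L => cj (x : G) B) ⟨l, hl⟩) ⟨b, hb, rfl⟩
  syl := h.syl
  act := fun l hl z hz => h.act_V hl hz
  sup := by
    obtain ⟨l, hl, hm⟩ := h.mv
    refine ⟨l, hl, ?_⟩
    rw [h.VB_eq]
    exact h.V_sup hl hm
  tri := by
    intro l hl
    by_cases hm : Mv N1 l
    · right
      rintro x ⟨⟨z, hz, rfl⟩, hx2⟩
      have h1 := h.opp l hl hm z hz.2 hx2.2
      rw [mem_centralizer_iff]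
      exact fun g hg => h.N0c g hg _ h1
    · left
      have h1 := not_mv_iff.1 hm
      rw [cj_inf, cj_eq_of_mem_normalizer (h.LV hl), cj_eq_of_mem_normalizer h1]
  tor := by
    have hcen : ∀ {z : G}, z ∉ centralizer (L : Set G) → z ∉ N0 := by
      intro z hz hz0
      exact hz (mem_centralizer_iff.2 fun g hg => h.N0c g hg _ hz0)
    intro z hz hzc z' hz' hzc'
    obtain ⟨x, hx, hxn, hxc⟩ := h.tor z hz.2 (hcen hzc) z' hz'.2 (hcen hzc')
    exact ⟨x, hx, hxn, mem_centralizer_iff.2 fun g hg => h.N0c g hg _ hxc⟩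
  cor := fun l hl x hx hc => h.cor l hl x hx (h.cent_N (h.BL hx) hc)

/-- `⟨Ω₁Z(B)^L⟩ = Ω₁Z(B) N` -/
theorem iSup_zc (h : PB B L N N1 N0 q) [Finite G] :
    (⨆ x : L, MulAut.conj (x : G) • zc B : Subgroup G) = zc B ⊔ N := by
  have hzc : ∀ z ∈ zc B, ∀ v ∈ N, z * v = v * z := fun z hz v hv => ((mem_zc.1 hz).2.2 v (h.NB hv)).symm
  apply le_antisymm
  · refine iSup_le fun x => ?_
    rintro _ ⟨z, hz, rfl⟩
    have h1 := h.act x x.2 z hz
    have e : (x : G) * z * (x : G)⁻¹ = ((x : G) * z * (x : G)⁻¹ * z⁻¹) * z := by group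
    show (x : G) * z * (x : G)⁻¹ ∈ _
    rw [e]
    exact mul_mem (mem_sup_right h1) (mem_sup_left hz)
  · have hle : ∀ x ∈ L, cj x (zc B) ≤ ⨆ x : L, MulAut.conj (x : G) • zc B := fun x hx =>
      le_iSup (fun x : L => MulAut.conj (x : G) • zc B) ⟨x, hx⟩
    have h1 : zc B ≤ ⨆ x : L, MulAut.conj (x : G) • zc B := by
      have := hle 1 (one_mem _)
      rwa [cj_one] at this
    refine sup_le h1 fun v hv => ?_
    obtain ⟨l, hl, hm⟩ := h.mv
    have hN1z : ∀ n ∈ N1, n ∈ zc B := fun n hn =>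
      mem_zc.2 ⟨h.NB (h.N1N hn), elem_sq h.el n (h.N1N hn), fun b hb => h.N1c b hb n hn⟩
    obtain ⟨a, ha, b, hb, rfl⟩ := h.pl.split hl hm hv
    exact mul_mem (h1 (hN1z a ha)) (hle l hl ⟨b, hN1z b hb, rfl⟩)

theorem V_eq (h : PB B L N N1 N0 q) [Finite G] :
    (⁅N, L⁆ : Subgroup G) = ⁅(⨆ x : L, MulAut.conj (x : G) • zc B : Subgroup G), L⁆ := by
  rw [h.iSup_zc]
  apply le_antisymm (commutator_mono le_sup_right le_rfl)
  rw [Subgroup.commutator_le]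
  intro y hy l hl
  obtain ⟨z, hz, v, hv, rfl⟩ := mem_sup_comm (fun z hz v hv => ((mem_zc.1 hz).2.2 v (h.NB hv)).symm) hy
  have h1 := inv_mem (h.act_V hl hz)
  have h2 := inv_mem (h.comm_mem hl hv)
  have h3 : z * (l * v⁻¹ * l⁻¹) = (l * v⁻¹ * l⁻¹) * z := ((mem_zc.1 hz).2.2 _ (h.NB (h.Nn l hl _ (inv_mem hv)))).symm
  have h4 : z * v = v * z := ((mem_zc.1 hz).2.2 _ (h.NB hv)).symm
  have e : ⁅z * v, l⁆ = (l * v * l⁻¹ * v⁻¹)⁻¹ * (l * z * l⁻¹ * z⁻¹)⁻¹ := by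
    rw [commutatorElement_def]
    calc z * v * l * (z * v)⁻¹ * l⁻¹ = (z * v) * (l * v⁻¹ * l⁻¹) * (l * z⁻¹ * l⁻¹) := by group
      _ = (v * z) * (l * v⁻¹ * l⁻¹) * (l * z⁻¹ * l⁻¹) := by rw [h4]
      _ = v * (z * (l * v⁻¹ * l⁻¹)) * (l * z⁻¹ * l⁻¹) := by group
      _ = v * ((l * v⁻¹ * l⁻¹) * z) * (l * z⁻¹ * l⁻¹) := by rw [h3]
      _ = _ := by group
  rw [e]
  exact mul_mem h2 h1

/-- **The block of Lemma K.** -/
theorem block (h : PB B L N N1 N0 q) [Finite G] (hw : WeakNormal 2 B) : Block 2 B L ⁅N, L⁆ where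
  two := h.Bp
  le := h.BL
  nor := hw
  gen := h.fb.gen
  inv := inv_of h.BL h.fb.gen (normalizer_le_of_cj (F := zc) (fun g B => LemmaK.Main.zc_cj g B) B) le_rfl h.V_eq
  Vp := h.Bp.to_le (h.VN.trans h.NB)
  VL := h.VN.trans (h.NB.trans h.BL)
  LV := h.LV
  core := by
    intro W hW hWL hLW
    -- `W ≤ B`
    have h1 : W ≤ B := by
      have h2 : IsPGroup 2 (B ⊔ W : Subgroup G) :=
        IsPGroup.to_sup_of_normal_right' h.Bp hW (h.BL.trans hLW)
      have h3 := h.syl _ le_sup_left (sup_le h.BL hWL) h2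
      rw [← h3]; exact le_sup_right
    intro w hw
    refine mem_centralizer_iff.2 fun v hv => ?_
    have h4 : ∀ v ∈ N, w * v = v * w := by
      by_contra hc
      push Not at hc
      obtain ⟨l, hl, u, hu, hlu⟩ := h.mv
      apply hlu
      refine h.cent w (h1 hw) hc _ (h.Nn l hl u (h.N1N hu)) ?_
      have h5 : l⁻¹ * w * l ∈ B := by
        have := (mem_normalizer_iff.1 (hLW (inv_mem hl)) w).1 hw
        rw [inv_inv] at this
        exact h1 this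
      have h6 := h.N1c _ h5 u hu
      have e : w * (l * u * l⁻¹) * w⁻¹ * (l * u * l⁻¹)⁻¹ = 1 := by
        have e2 : w * (l * u * l⁻¹) = (l * u * l⁻¹) * w := by
          calc w * (l * u * l⁻¹) = l * ((l⁻¹ * w * l) * u) * l⁻¹ := by group
            _ = l * (u * (l⁻¹ * w * l)) * l⁻¹ := by rw [h6]
            _ = _ := by group
        rw [e2]; group
      rw [e]; exact one_mem _
    exact (h4 v (h.VN hv)).symm
  irr := by
    intro U hU hLU
    by_cases hU0 : U ≤ N0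
    · left
      intro x hx
      exact mem_centralizer_iff.2 fun g hg => h.N0c g hg _ (hU0 hx)
    · right
      exact h.V_le (hU.trans h.VN) hLU hU0
  perf := h.V_perf

end PB

end Cfsg.Agent.Omega.OM

end

section


/-!
# The blocks of a minimal parabolic of type `SL₂(q) ≀` are FF-blocks (`V0 = C_V(H)` arbitrary)

`pb` : `FFK` data `M`, `InK` and a minimal block `L` (`BlkK`) over `bau T` give
`PB (bau T) L (M.N i) (V1 T V ⊓ M.N i) V0 |F|`.
-/

set_option autoImplicit false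
set_option linter.unusedSectionVars false

namespace Cfsg.Agent.Omega.OM.FBK

open Subgroup Cfsg Cfsg.Agent.PLocal.ThompsonJ Cfsg.Agent.ZN.ChoiceBase
open Cfsg.Agent.ZN (jj zj bau zc zl o2)
open Cfsg.Agent.ZN.ChoiceSit
open Cfsg.Agent.Omega.NatPair Cfsg.Agent.Lib.SL2Mat
open Cfsg.Agent.PLocal.ElemAbSup
open Cfsg.Agent.Omega.SQ1.Bau (elem_comm elem_sq mem_sup_comm card_sup_comm mem_sup_norm Mv not_mv_iff mv_inv)
open Cfsg.Agent.Omega.SQ1.BauK
open Cfsg.Agent.Omega.SQ1.BauK.InK (QL mem_QL not_QL comm_iff mem_VL)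
open Cfsg.Agent.Omega.SQ1.FFOne
open Cfsg.Agent.Omega.LemmaK (WeakNormal)
open scoped Pointwise commutatorElement

universe u

variable {G : Type u} [Group G] {ι : Type} {F : Type*} [Field F] {H T V V0 L : Subgroup G} {E : ι → Subgroup G}
  {q : ℕ} {i : ι}

section

variable [Finite G] [Finite F] [CharP F 2] [Finite ι] [Nonempty ι]

theorem St_le (M : FFK ι F H T V V0) : InK.St H (M.N i) ≤ M.St i := fun g hg =>
  M.mem_St.2 ⟨hg.1, M.W_cj_of_N hg.1 (mem_normalizer_iff_cj.1 hg.2)⟩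

theorem L_le (M : FFK ι F H T V V0) (h : InK H T (o2 H) V V0 M.N E q) (k : BlkK H T V M.N i L) :
    L ≤ M.St i := (k.LS h).trans (St_le M)

theorem bau_up (hm : MinH H T) (M : FFK ι F H T V V0) (h : InK H T (o2 H) V V0 M.N E q) {b : G}
    (hb : b ∈ bau T) : ∃ c, M.Up b c := by
  obtain ⟨j, hj, e⟩ := h.bau_act hb
  obtain ⟨c, hc⟩ := M.jj_up hm hj
  exact ⟨c, fun i v hv => by rw [e v hv]; exact hc i v hv⟩

/-- Every element of `L` acts on the `i`-th coordinate as an element of `SL₂(F)`. -/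
theorem ind (hm : MinH H T) (M : FFK ι F H T V V0) (h : InK H T (o2 H) V V0 M.N E q)
    (k : BlkK H T V M.N i L) {l : G} (hl : l ∈ L) : ∃ A, (M.sec i).Ind l A := by
  let X : Subgroup G :=
    { carrier := {g | g ∈ M.St i ∧ ∃ A, (M.sec i).Ind g A}
      mul_mem' := by
        rintro a b ⟨ha, A, hA⟩ ⟨hb, B, hB⟩
        exact ⟨mul_mem ha hb, A * B, (M.sec i).ind_mul ha hb hA hB⟩
      one_mem' := ⟨one_mem _, 1, (M.sec i).ind_one⟩
      inv_mem' := by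
        rintro a ⟨ha, A, hA⟩
        exact ⟨inv_mem ha, A⁻¹, (M.sec i).ind_inv ha hA⟩ }
  have hB : bau T ≤ X := by
    intro b hb
    obtain ⟨c, hc⟩ := bau_up hm M h hb
    exact ⟨L_le M h k (k.BL hb), up (c i), hc i⟩
  obtain ⟨g, hg, hgm⟩ := k.mv
  have hX : L ≤ X := by
    refine k.gen h hg hgm hB fun b hb => ?_
    obtain ⟨hbS, A, hA⟩ := hB hb
    have hgS := L_le M h k hg
    obtain ⟨A', hA'⟩ := (M.sec i).norm g hgS b hbS A hA
    exact ⟨mul_mem (mul_mem hgS hbS) (inv_mem hgS), A', hA'⟩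
  exact (hX hl).2

theorem bau_act1 (hm : MinH H T) (M : FFK ι F H T V V0) (i : ι) (c : F) :
    ∃ a ∈ jj T, Act1 M.π V i a (up c) := by
  obtain ⟨A, hA, -, hc⟩ := M.exists_E hm i
  obtain ⟨a, ha, hac⟩ := hc c
  exact ⟨a, le_jj hA ha, hac⟩

/-- The determining entry: `l` moves the line iff the entry `1 0` is not zero. -/
theorem ent_ne (hm : MinH H T) (M : FFK ι F H T V V0) (h : InK H T (o2 H) V V0 M.N E q)
    (k : BlkK H T V M.N i L) {l : G} (hl : l ∈ L) {A : Matrix.SpecialLinearGroup (Fin 2) F}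
    (hA : (M.sec i).Ind l A) (hmv : Mv (V1 T V ⊓ M.N i) l) : ent A 1 0 ≠ 0 := by
  obtain ⟨v, hv, hlv⟩ := hmv
  intro h0
  apply hlv
  have hv' := (M.mem_V1N hm).1 hv
  rw [M.mem_V1N hm]
  refine ⟨(mem_normalizer_iff.1 (k.LS h hl).2 v).1 hv'.1, ?_⟩
  have h1 := hA v hv'.1.1
  change M.π i (l * v * l⁻¹) = ap A (M.π i v) at h1
  rw [h1, ap_one', h0, hv'.2]; simp

theorem not_mv_of (hm : MinH H T) (M : FFK ι F H T V V0) {l : G} (hN : ∀ v ∈ M.N i, l * v * l⁻¹ ∈ M.N i)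
    {A : Matrix.SpecialLinearGroup (Fin 2) F}
    (hA : ∀ v ∈ V, M.π i (l * v * l⁻¹) = ap A (M.π i v)) (h0 : ent A 1 0 = 0) : ¬ Mv (V1 T V ⊓ M.N i) l := by
  rintro ⟨v, hv, hlv⟩
  apply hlv
  have hv' := (M.mem_V1N hm).1 hv
  rw [M.mem_V1N hm]
  refine ⟨hN v hv'.1, ?_⟩
  rw [hA v hv'.1.1, ap_one', h0, hv'.2]; simp

/-- `L` induces all of `SL₂(F)`. -/
theorem cov (hm : MinH H T) (M : FFK ι F H T V V0) (h : InK H T (o2 H) V V0 M.N E q)
    (k : BlkK H T V M.N i L) (A : Matrix.SpecialLinearGroup (Fin 2) F) : ∃ l ∈ L, (M.sec i).Ind l A := by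
  have hLS := L_le M h k
  let K : Subgroup (Matrix.SpecialLinearGroup (Fin 2) F) :=
    { carrier := {A | ∃ l ∈ L, (M.sec i).Ind l A}
      mul_mem' := by
        rintro A B ⟨a, ha, hA⟩ ⟨b, hb, hB⟩
        exact ⟨a * b, mul_mem ha hb, (M.sec i).ind_mul (hLS ha) (hLS hb) hA hB⟩
      one_mem' := ⟨1, one_mem _, (M.sec i).ind_one⟩
      inv_mem' := by
        rintro A ⟨a, ha, hA⟩
        exact ⟨a⁻¹, inv_mem ha, (M.sec i).ind_inv (hLS ha) hA⟩ }
  have hup : ∀ c : F, up c ∈ K := by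
    intro c
    obtain ⟨a, ha, hac⟩ := bau_act1 hm M i c
    exact ⟨a, k.BL (jj_le_bau T ha), hac.act⟩
  obtain ⟨g, hg, hgm⟩ := k.mv
  obtain ⟨A0, hA0⟩ := ind hm M h k hg
  have hne := ent_ne hm M h k hg hA0 hgm
  have hA0K : A0 ∈ K := ⟨g, hg, hA0⟩
  -- some `lo c0`
  set c0 := ent A0 1 0 with hc0
  have hlo0 : lo c0 ∈ K := by
    obtain ⟨a, d, h1⟩ : ∃ a d, A0 = up a * lo c0 * up d := ⟨_, _, eq_up_lo_up A0 hne⟩
    have h2 := K.mul_mem (K.mul_mem (K.inv_mem (hup a)) hA0K) (K.inv_mem (hup d))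
    have h3 : (up a)⁻¹ * A0 * (up d)⁻¹ = lo c0 := by
      calc (up a)⁻¹ * A0 * (up d)⁻¹ = (up a)⁻¹ * (up a * lo c0 * up d) * (up d)⁻¹ := by rw [← h1]
        _ = lo c0 := by group
    rwa [h3] at h2
  have hb0 : -c0⁻¹ ≠ 0 := neg_ne_zero.2 (inv_ne_zero hne)
  have hw : wm (-c0⁻¹) hb0 ∈ K := by
    rw [wm_eq]
    have e : -(-c0⁻¹)⁻¹ = c0 := by rw [inv_neg, neg_neg, inv_inv]
    rw [e]
    exact K.mul_mem (K.mul_mem hlo0 (hup _)) hlo0
  have hlo : ∀ s : F, lo s ∈ K := by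
    intro s
    have h1 := wm_up (-c0⁻¹) (-(s * (-c0⁻¹) ^ 2)) hb0
    have h2 : -(-(s * (-c0⁻¹) ^ 2) / (-c0⁻¹) ^ 2) = s := by
      rw [neg_div, neg_neg, mul_div_assoc, div_self (pow_ne_zero 2 hb0), mul_one]
    rw [h2] at h1
    have h3 : lo s = wm (-c0⁻¹) hb0 * up (-(s * (-c0⁻¹) ^ 2)) * (wm (-c0⁻¹) hb0)⁻¹ := by
      rw [h1, mul_inv_cancel_right]
    rw [h3]
    exact K.mul_mem (K.mul_mem hw (hup _)) (K.inv_mem hw)
  obtain ⟨a, b, c, d, rfl⟩ := exists_up_lo A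
  exact K.mul_mem (K.mul_mem (K.mul_mem (hup a) (hlo b)) (hup c)) (hlo d)

theorem act_N (M : FFK ι F H T V V0) (h : InK H T (o2 H) V V0 M.N E q)
    (k : BlkK H T V M.N i L) {l z : G} (hl : l ∈ L) (hz : z ∈ zj T) : l * z * l⁻¹ * z⁻¹ ∈ M.N i := by
  obtain ⟨r, hr, b, hb, rfl⟩ := h.mem_PP (k.LP hl)
  have h1 := (mem_RR.1 hr).2.2.2 z (mem_sup_left hz)
  have h2 := (mem_bau.1 hb).2 z hz
  have e : r * b * z * (r * b)⁻¹ = r * z * r⁻¹ := by
    calc r * b * z * (r * b)⁻¹ = r * (b * z) * b⁻¹ * r⁻¹ := by group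
      _ = r * (z * b) * b⁻¹ * r⁻¹ := by rw [h2]
      _ = _ := by group
  rw [e]; exact h1

theorem V0_cent (M : FFK ι F H T V V0) (h : InK H T (o2 H) V V0 M.N E q) (k : BlkK H T V M.N i L)
    {l v : G} (hl : l ∈ L) (hv : v ∈ V0) : l * v = v * l := by
  have hB : ∀ b ∈ bau T, ∀ v ∈ V0, b * v = v * b := fun b hb v hv => h.bau_V1 hb (h.V0V1 i hv).1
  obtain ⟨g, hg, hgm⟩ := k.mv
  have hLc : L ≤ centralizer (V0 : Set G) := by
    refine k.gen h hg hgm (fun b hb => mem_centralizer_iff.2 fun w hw => (hB b hb w hw).symm) fun b hb => ?_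
    refine mem_centralizer_iff.2 fun w hw => ?_
    have hw' : g⁻¹ * w * g ∈ V0 := by
      have := h.V0n g⁻¹ (inv_mem (k.LH h hg)) w hw
      rwa [inv_inv] at this
    have h1 := hB b hb _ hw'
    calc w * (g * b * g⁻¹) = g * ((g⁻¹ * w * g) * b) * g⁻¹ := by group
      _ = g * (b * (g⁻¹ * w * g)) * g⁻¹ := by rw [h1]
      _ = _ := by group
  exact (mem_centralizer_iff.1 (hLc hl) v hv).symm

/-- the condition `cent` -/
theorem cent (hm : MinH H T) (M : FFK ι F H T V V0) (h : InK H T (o2 H) V V0 M.N E q) {b : G}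
    (hb : b ∈ bau T) (hne : ∃ v ∈ M.N i, b * v ≠ v * b) {v : G} (hv : v ∈ M.N i)
    (h0 : b * v * b⁻¹ * v⁻¹ ∈ V0) : v ∈ V1 T V ⊓ M.N i := by
  obtain ⟨c, hc⟩ := bau_up hm M h hb
  have hV : ∀ w ∈ M.N i, b * w * b⁻¹ ∈ V := fun w hw => M.Vn b (h.TH (bau_le T hb)) w hw.1
  have hci : c i ≠ 0 := by
    intro hci
    obtain ⟨w, hw, hwb⟩ := hne
    obtain ⟨j, hj, e⟩ := h.bau_act hb
    have hjN : ∃ v ∈ M.N i, j * v ≠ v * j := ⟨w, hw, fun h1 => hwb (by
      rw [comm_iff] at h1 ⊢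
      rw [e w (h.NV i hw)]; exact h1)⟩
    obtain ⟨u, hu, hu0⟩ := h.faith i j hj hjN
    apply hu0
    rw [← e u hu.1, ← M.ker _ (mul_mem (hV u hu) (inv_mem hu.1))]
    intro m
    rw [M.map_div m (hV u hu) hu.1, hc m u hu.1]
    by_cases hmi : m = i
    · subst hmi
      rw [hci, up_zero, ap_one, sub_self]
    · rw [hu.2 m hmi]
      apply ext2
      · simp [ap_zero']
      · simp [ap_one']
  have h1 := (M.ker _ (mul_mem (hV v hv) (inv_mem hv.1))).2 h0 i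
  rw [M.map_div i (hV v hv) hv.1] at h1
  have h2 := congrFun h1 0
  rw [Pi.sub_apply, M.up_val hc hv.1 i] at h2
  rw [M.mem_V1N hm]
  refine ⟨hv, ?_⟩
  have h3 : c i * M.π i v 1 = 0 := by
    have : M.π i v 0 + c i * M.π i v 1 - M.π i v 0 = c i * M.π i v 1 := by ring
    rw [← this]; exact h2
  exact (mul_eq_zero.1 h3).resolve_left hci

/-- A 2-element of the kernel of `H` on `V / V0` is in `O₂(H)`. -/
theorem kern_two (hm : MinH H T) (M : FFK ι F H T V V0) {S : Subgroup G} (hS : S ≤ H) (h2 : IsPGroup 2 S)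
    {x : G} (hx : x ∈ S) (hk : x ∈ M.kern) : x ∈ o2 H := by
  obtain ⟨R, hR, hSR⟩ := exists_syl h2 hS
  obtain ⟨g, hg, e⟩ := syl_conj hR hm.syl
  have h1 : g * x * g⁻¹ ∈ T := by
    rw [← e]; exact ⟨x, hSR hx, rfl⟩
  have h3 := M.inf_kern_le hm ⟨h1, M.kern_norm hg hk⟩
  have h4 := conj_mem_of_norm (le_normalizer_o2 H (inv_mem hg)) h3
  have e2 : g⁻¹ * (g * x * g⁻¹) * g⁻¹⁻¹ = x := by group
  rwa [e2] at h4

/-- **`B` is a Sylow 2-subgroup of `L`.** -/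
theorem syl (hm : MinH H T) (M : FFK ι F H T V V0) (h : InK H T (o2 H) V V0 M.N E q)
    (hw : WeakNormal 2 (bau T)) (k : BlkK H T V M.N i L)
    (hZ : ∀ z ∈ zj T, ∃ c, (∀ l ∈ L, l * c = c * l) ∧ ∃ n ∈ V1 T V ⊓ M.N i, z = c * n)
    {S : Subgroup G} (hBS : bau T ≤ S) (hSL : S ≤ L) (h2 : IsPGroup 2 S) : S = bau T := by
  classical
  have hSH : S ≤ H := hSL.trans (k.LH h)
  refine le_antisymm (fun t ht => ?_) hBS
  have htL := hSL ht
  have htN : t ∈ normalizer (bau T : Set G) := hw S h2 hBS ht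
  have htS := L_le M h k htL
  -- `t` fixes the line
  have hnm : ¬ Mv (V1 T V ⊓ M.N i) t := by
    rintro ⟨v, hv, htv⟩
    apply htv
    have hN : t * v * t⁻¹ ∈ M.N i := (mem_normalizer_iff.1 (k.LS h htL).2 v).1 hv.2
    refine ⟨mem_V1.2 ⟨hN.1, fun j hj => ?_⟩, hN⟩
    have h3 : t⁻¹ * j * t ∈ bau T := by
      have := (mem_normalizer_iff.1 (inv_mem htN) j).1 (jj_le_bau T hj)
      rwa [inv_inv] at this
    have h4 := h.bau_V1 h3 hv.1
    calc j * (t * v * t⁻¹) = t * ((t⁻¹ * j * t) * v) * t⁻¹ := by group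
      _ = t * (v * (t⁻¹ * j * t)) * t⁻¹ := by rw [h4]
      _ = _ := by group
  obtain ⟨A, hA⟩ := ind hm M h k htL
  -- `A` is unitriangular
  obtain ⟨d, hd⟩ : ∃ d : F, A = up d := by
    have h10 : ent A 1 0 = 0 := by
      by_contra h10
      apply hnm
      obtain ⟨v, hv, e, hv0⟩ := M.surj i ![1, 0]
      have hvN : v ∈ M.N i := ⟨hv, hv0⟩
      refine ⟨v, (M.mem_V1N hm).2 ⟨hvN, by rw [e]; rfl⟩, fun h1 => h10 ?_⟩
      have h2 := ((M.mem_V1N hm).1 h1).2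
      have h3 := hA v hv
      change M.π i (t * v * t⁻¹) = ap A (M.π i v) at h3
      rw [h3, ap_one', e] at h2
      simpa using h2
    obtain ⟨n, hn⟩ := h2 ⟨t, ht⟩
    have hn' : t ^ 2 ^ n = 1 := by simpa using congrArg Subtype.val hn
    have hpow : ∀ m : ℕ, (M.sec i).Ind (t ^ m) (A ^ m) := by
      intro m
      induction m with
      | zero => rw [pow_zero, pow_zero]; exact (M.sec i).ind_one
      | succ m ih => rw [pow_succ, pow_succ]; exact (M.sec i).ind_mul (pow_mem htS m) htS ih hA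
    have h3 := hpow (2 ^ n)
    rw [hn'] at h3
    have h4 := (M.sec i).ind_unique (one_mem _) h3 (M.sec i).ind_one
    have h5 : ∀ m : ℕ, ent (A ^ m) 1 0 = 0 ∧ ent (A ^ m) 0 0 = ent A 0 0 ^ m := by
      intro m
      induction m with
      | zero => simp
      | succ m ih =>
        rw [pow_succ, ent_mul, ent_mul, h10, ih.1, ih.2, pow_succ]
        simp
    have h6 : ent A 0 0 ^ 2 ^ n = 1 := by rw [← (h5 (2 ^ n)).2, h4]; simp
    have h7 : ent A 0 0 = 1 := FF.eq_one_of_pow' h6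
    have h8 := det_eq A
    rw [h7, h10, mul_zero, sub_zero, one_mul] at h8
    exact ⟨ent A 0 1, ext_ent (by simp [h7]) (by simp) (by simp [h10]) (by simp [h8])⟩
  subst hd
  -- the other coordinates
  obtain ⟨r, hr, b, hb, e⟩ := h.mem_PP (k.LP htL)
  obtain ⟨c, hc⟩ := bau_up hm M h hb
  have hrH : r ∈ H := (mem_RR.1 hr).1
  obtain ⟨a, ha, hac⟩ := bau_act1 hm M i (d - c i)
  have haH : a ∈ H := hm.syl.1 (jj_le T ha)
  have hbH : b ∈ H := h.TH (bau_le T hb)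
  have htH := hSH ht
  have hup := FFK.Up.mul M hbH (M.up_of_act1 hac) hc
  -- `x = t (a b)⁻¹` is in the kernel
  have hab : a * b ∈ bau T := mul_mem (jj_le_bau T ha) hb
  have habH : a * b ∈ H := mul_mem haH hbH
  have hx : t * (a * b)⁻¹ ∈ M.kern := by
    refine ⟨mul_mem htH (inv_mem habH), fun v hv m => ?_⟩
    have hv' : (a * b)⁻¹ * v * (a * b) ∈ V := by
      have := M.Vn (a * b)⁻¹ (inv_mem habH) v hv
      rwa [inv_inv] at this
    set w := (a * b)⁻¹ * v * (a * b) with hw'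
    have e1 : t * (a * b)⁻¹ * v * (t * (a * b)⁻¹)⁻¹ = t * w * t⁻¹ := by rw [hw']; group
    have e2 : v = (a * b) * w * (a * b)⁻¹ := by rw [hw']; group
    rw [e1]
    conv_rhs => rw [e2]
    rw [hup m w hv']
    by_cases hmi : m = i
    · subst hmi
      have h3 := hA w hv'
      change M.π m (t * w * t⁻¹) = ap (up d) (M.π m w) at h3
      rw [h3, Pi.add_apply, Pi.single_eq_same, sub_add_cancel]
    · rw [Pi.add_apply, Pi.single_eq_of_ne hmi, zero_add, ← hc m w hv', e]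
      have hbw : b * w * b⁻¹ ∈ V := M.Vn b hbH w hv'
      have e3 : r * b * w * (r * b)⁻¹ = r * (b * w * b⁻¹) * r⁻¹ := by group
      rw [e3]
      -- `r` acts trivially on the coordinate `m`
      obtain ⟨n, hn, u, hu, e4, en⟩ := M.split m hbw
      have hrn := (mem_RR.1 hr).2.2.1 m (Ne.symm hmi) n hn
      have hrN : cj r (M.N m) = M.N m := by
        refine mem_normalizer_iff_cj.1 (mem_norm_of fun y hy => ?_)
        rw [(mem_RR.1 hr).2.2.1 m (Ne.symm hmi) y hy, mul_inv_cancel_right]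
        exact hy
      have hrW := M.W_cj_of_N hrH hrN
      have hu' : r * u * r⁻¹ ∈ M.W m := by
        rw [← hrW]; exact ⟨u, hu, rfl⟩
      have e5 : r * (n * u) * r⁻¹ = (r * n * r⁻¹) * (r * u * r⁻¹) := by group
      rw [e4, e5, hrn, mul_inv_cancel_right, M.map_mul m n hn.1 _ hu'.1, M.map_mul m n hn.1 u hu.1, hu'.2, hu.2]
  have hxS : t * (a * b)⁻¹ ∈ S := mul_mem ht (inv_mem (hBS hab))
  have hxQ := kern_two hm M hSH h2 hxS hx
  -- `t` centralises `Z_J`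
  refine h.bau_of_le hSH h2 hBS t ht fun z hz => ?_
  obtain ⟨y, hy, n, hn, rfl⟩ := hZ z hz
  have h3 : t * n = n * t := by
    have e6 : t = (t * (a * b)⁻¹) * (a * b) := by group
    have h4 := h.bau_V1 hab hn.1
    have h5 := M.VcQ _ hxQ n hn.1.1
    rw [e6]
    calc (t * (a * b)⁻¹) * (a * b) * n = (t * (a * b)⁻¹) * ((a * b) * n) := by group
      _ = ((t * (a * b)⁻¹) * n) * (a * b) := by rw [h4]; group
      _ = n * (t * (a * b)⁻¹ * (a * b)) := by rw [h5]; group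
  have h4 := hy t htL
  calc t * (y * n) = (t * y) * n := by group
    _ = y * (t * n) := by rw [h4]; group
    _ = y * n * t := by rw [h3]; group

theorem tor (hm : MinH H T) (M : FFK ι F H T V V0) (h : InK H T (o2 H) V V0 M.N E q)
    (k : BlkK H T V M.N i L)
    (hsyl : ∀ S : Subgroup G, bau T ≤ S → S ≤ L → IsPGroup 2 S → S = bau T)
    {z z' : G} (hz : z ∈ V1 T V ⊓ M.N i) (hz0 : z ∉ V0) (hz' : z' ∈ V1 T V ⊓ M.N i) (hz0' : z' ∉ V0) :
    ∃ g ∈ L, g ∈ normalizer (bau T : Set G) ∧ g * z * g⁻¹ * z'⁻¹ ∈ V0 := by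
  have hLS := L_le M h k
  have hp : IsPGroup 2 (bau T) := h.syl.2.1.to_le (bau_le T)
  obtain ⟨hzN, hz1⟩ := (M.mem_V1N hm).1 hz
  obtain ⟨hzN', hz1'⟩ := (M.mem_V1N hm).1 hz'
  have hne : ∀ {y}, y ∈ M.N i → M.π i y 1 = 0 → y ∉ V0 → M.π i y 0 ≠ 0 := fun hy h1 h0 h2 =>
    h0 (M.V0_of_N hy (ext2 h2 h1))
  have ha := hne hzN hz1 hz0
  have ha' := hne hzN' hz1' hz0'
  set t : F := M.π i z' 0 / M.π i z 0 with ht
  have ht0 : t ≠ 0 := div_ne_zero ha' ha
  obtain ⟨l, hl, hlA⟩ := cov hm M h k (dg t ht0)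
  let R : Subgroup G :=
    { carrier := {x | x ∈ L ∧ ∃ c : F, (M.sec i).Ind x (up c)}
      mul_mem' := by
        rintro a b ⟨ha, c, hc⟩ ⟨hb, d, hd⟩
        refine ⟨mul_mem ha hb, c + d, ?_⟩
        rw [← up_mul]
        exact (M.sec i).ind_mul (hLS ha) (hLS hb) hc hd
      one_mem' := ⟨one_mem _, 0, by rw [up_zero]; exact (M.sec i).ind_one⟩
      inv_mem' := by
        rintro a ⟨ha, c, hc⟩
        refine ⟨inv_mem ha, -c, ?_⟩
        rw [← up_inv]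
        exact (M.sec i).ind_inv (hLS ha) hc }
  have hRL : R ≤ L := fun x hx => hx.1
  have hBR : bau T ≤ R := by
    intro b hb
    obtain ⟨c, hc⟩ := bau_up hm M h hb
    exact ⟨k.BL hb, c i, hc i⟩
  have hS1 : Syl (bau T) R := ⟨hBR, hp, fun S hS h2 hBS => hsyl S hBS (hS.trans hRL) h2⟩
  have hS2 : Syl (cj l (bau T)) R := by
    refine ⟨?_, isPGroup_cj l hp, fun S hS h2 hle => ?_⟩
    · rintro _ ⟨b, hb, rfl⟩
      obtain ⟨hbL, c, hc⟩ := hBR hb
      refine ⟨mul_mem (mul_mem hl hbL) (inv_mem hl), t ^ 2 * c, ?_⟩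
      have h2 := (M.sec i).ind_mul (mul_mem (hLS hl) (hLS hbL)) (inv_mem (hLS hl))
        ((M.sec i).ind_mul (hLS hl) (hLS hbL) hlA hc) ((M.sec i).ind_inv (hLS hl) hlA)
      rw [dg_up, mul_inv_cancel_right] at h2
      exact h2
    · have h3 : cj l⁻¹ S ≤ L := by
        rintro _ ⟨r, hr, rfl⟩
        exact mul_mem (mul_mem (inv_mem hl) (hRL (hS hr))) (inv_mem (inv_mem hl))
      have h4 := hsyl _ (cj_le_iff.1 hle) h3 (isPGroup_cj _ h2)
      rw [← h4, cj_cj_inv]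
  obtain ⟨x, ⟨hxL, c, hc⟩, e⟩ := syl_conj hS2 hS1
  rw [cj_cj] at e
  refine ⟨x * l, mul_mem hxL hl, mem_normalizer_iff_cj.2 e, ?_⟩
  have h1 : M.π i (x * l * z * (x * l)⁻¹) = M.π i z' := by
    have h2 := (M.sec i).ind_mul (hLS hxL) (hLS hl) hc hlA z hzN.1
    change M.π i (x * l * z * (x * l)⁻¹) = ap (up c * dg t ht0) (M.π i z) at h2
    rw [h2]
    apply ext2
    · rw [ap_zero', hz1]
      simp [ent_mul, ht, div_mul_cancel₀ _ ha]
    · rw [ap_one', hz1, hz1']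
      simp [ent_mul]
  have h2 : x * l * z * (x * l)⁻¹ ∈ M.N i := (mem_normalizer_iff.1 (k.LS h (mul_mem hxL hl)).2 z).1 hzN
  refine M.V0_of_N (mul_mem h2 (inv_mem hzN')) ?_
  rw [M.map_div i h2.1 hzN'.1, h1, sub_self]

/-- **The blocks of a minimal parabolic of type `SL₂(q) ≀`.** -/
theorem pb (hm : MinH H T) (M : FFK ι F H T V V0) (h : InK H T (o2 H) V V0 M.N E q)
    (hw : WeakNormal 2 (bau T)) (k : BlkK H T V M.N i L) :
    PB (bau T) L (M.N i) (V1 T V ⊓ M.N i) V0 q := by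
  have hNB : M.N i ≤ bau T := le_sup_right.trans (h.VL_le_bau i)
  have hNel := isElementaryAbelian_mono h.Velem (h.NV i)
  have hpl : Pl L (M.N i) (V1 T V ⊓ M.N i) V0 q :=
    { Wn := fun l hl v hv => (mem_normalizer_iff.1 (k.LS h hl).2 v).1 hv
      Wc := (h.pl i).Wc
      W1W := (h.pl i).W1W
      W01 := (h.pl i).W01
      W0n := fun l hl v hv => (h.pl i).W0n l (k.LS h hl) v hv
      card := (h.pl i).card
      card1 := (h.pl i).card1
      opp := fun l hl => (h.pl i).opp l (k.LS h hl) }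
  have hact : ∀ l ∈ L, ∀ z ∈ zc (bau T), l * z * l⁻¹ * z⁻¹ ∈ M.N i := fun l hl z hz => by
    rw [zc_bau] at hz
    exact act_N M h k hl hz
  have hsyl : ∀ S : Subgroup G, bau T ≤ S → S ≤ L → IsPGroup 2 S → S = bau T := by
    intro S hBS hSL h2
    refine syl hm M h hw k (fun z hz => ?_) hBS hSL h2
    obtain ⟨l, hl, hmv⟩ := k.mv
    obtain ⟨c, -, hc, n, hn, e⟩ := Z_split_aux hpl hl hmv (fun X hX hx => k.gen h hl hmv hX hx) hNB hNel
      (fun b hb v hv => h.bau_V1 hb hv.1) hact (z := z) (by rw [zc_bau]; exact hz)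
    exact ⟨c, hc, n, hn, e⟩
  exact
    { Bp := h.syl.2.1.to_le (bau_le T)
      BL := k.BL
      el := hNel
      NB := hNB
      Nn := hpl.Wn
      N1N := inf_le_right
      N1c := fun b hb v hv => h.bau_V1 hb hv.1
      N01 := h.V0V1 i
      N0c := fun l hl v hv => V0_cent M h k hl hv
      card := h.card1 i
      card1 := h.card0 i
      opp := hpl.opp
      quad := fun b hb v hv => h.bau_quad hb hv
      cent := fun b hb hne v hv h0 => cent hm M h hb hne hv h0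
      cardB := h.card_bau i
      one := h.one_lt
      mv := k.mv
      gen := fun l hl hmv X hX hx => k.gen h hl hmv hX hx
      act := hact
      cor := fun l hl x hx hc => (mem_QL.1 (k.QL_norm h l hl x (mem_QL.2 ⟨hx, hc⟩))).1
      syl := hsyl
      tor := fun z hz hz0 z' hz' hz0' => tor hm M h k hsyl hz hz0 hz' hz0' }

end

end Cfsg.Agent.Omega.OM.FBK

end

section


/-!
# The blocks of a minimal parabolic of type `S_{2^m+1} ≀` (or `S₃ ≀`) are FF-blocks (`C_V(H)` arbitrary)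

`pb` : `BauS.In` data and a minimal block `L` (`BauS.Blk`) over `bau T` give
`PB (bau T) L (N i) ⟨d i⟩ 1 2`; `N i` is the natural `SL₂(2)`-module for `L`.
-/

set_option autoImplicit false

namespace Cfsg.Agent.Omega.OM.FBS

open Subgroup Cfsg Cfsg.Agent.PLocal.ThompsonJ Cfsg.Agent.ZN.ChoiceBase
open Cfsg.Agent.ZN (jj zj bau zc zl o2)
open Cfsg.Agent.ZN.ChoiceSit (Syl)
open Cfsg.Agent.PLocal.ElemAbSup
open Cfsg.Agent.Omega.SQ1.Bau (elem_comm elem_sq mem_sup_comm card_sup_comm mem_sup_norm Mv not_mv_iff mv_inv)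
open Cfsg.Agent.Omega.SQ1.BauS
open Cfsg.Agent.Omega.SQ1.BauS.In (sim_one_iff)
open Cfsg.Agent.Omega.SQ1.BauS.Blk (mem_zp Z_inf_N VV_le_B relIndex_QQ)
open Cfsg.Agent.Omega.LemmaK (WeakNormal)
open scoped Pointwise commutatorElement

universe u w

variable {G : Type u} [Group G] {H T Q V L : Subgroup G} {ι : Type w} {N : ι → Subgroup G} {d t r : ι → G} {i : ι}

theorem mv_iff (h : In H T Q V N d t r) {l : G} : Mv (zpowers (d i)) l ↔ l * d i * l⁻¹ ≠ d i := by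
  constructor
  · rintro ⟨x, hx, hx'⟩ e
    apply hx'
    rcases mem_zp h hx with h1 | h1
    · rw [h1, mul_one, mul_inv_cancel]; exact one_mem _
    · rw [h1, e]; exact mem_zpowers _
  · intro hm
    refine ⟨d i, mem_zpowers _, fun h1 => ?_⟩
    rcases mem_zp h h1 with h2 | h2
    · apply h.d1 i
      calc d i = l⁻¹ * (l * d i * l⁻¹) * l := by group
        _ = 1 := by rw [h2]; group
    · exact hm h2

theorem card_zp (h : In H T Q V N d t r) (i : ι) : Nat.card (zpowers (d i)) = 2 := by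
  rw [Nat.card_zpowers]
  exact orderOf_eq_prime (by rw [pow_two]; exact h.mulself (h.dV i)) (h.d1 i)

theorem zp_le (h : In H T Q V N d t r) (i : ι) : zpowers (d i) ≤ N i := (zpowers_le).2 (h.dN i)

/-- `[Z_J, L] ≤ N i` -/
theorem act (h : In H T Q V N d t r) [Finite G] (k : Blk H T V d r i L) {l z : G} (hl : l ∈ L)
    (hz : z ∈ zj T) : l * z * l⁻¹ * z⁻¹ ∈ N i := by
  obtain ⟨g, hg, hm⟩ := k.mv
  rcases k.Z_split h hg hm hz with h1 | h1
  · have h2 := k.cent_of h hg hm hz h1 l hl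
    rw [h2, mul_inv_cancel_right, mul_inv_cancel]
    exact one_mem _
  · have h2 := k.cent_of h hg hm (mul_mem (h.d_mem_Z i) hz) h1 l hl
    have h3 : z = d i * (d i * z) := by rw [← mul_assoc, h.mulself (h.dV i), one_mul]
    have e : l * z * l⁻¹ * z⁻¹ = l * d i * l⁻¹ * (d i)⁻¹ := by
      conv_lhs => rw [h3]
      calc l * (d i * (d i * z)) * l⁻¹ * (d i * (d i * z))⁻¹
          = l * d i * l⁻¹ * (l * (d i * z)) * l⁻¹ * (d i * z)⁻¹ * (d i)⁻¹ := by group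
        _ = l * d i * l⁻¹ * (d i * z * l) * l⁻¹ * (d i * z)⁻¹ * (d i)⁻¹ := by rw [h2]
        _ = _ := by group
    rw [e]
    exact mul_mem (k.L_N h hl (h.dN i)) (inv_mem (h.dN i))

/-- `B` is a Sylow 2-subgroup of `L`. -/
theorem syl (h : In H T Q V N d t r) [Finite G] (hw : WeakNormal 2 (bau T)) (k : Blk H T V d r i L)
    {S : Subgroup G} (hBS : bau T ≤ S) (hSL : S ≤ L) (h2 : IsPGroup 2 S) : S = bau T := by
  refine le_antisymm (fun x hx => ?_) hBS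
  have hxL := hSL hx
  have hxN : x ∈ normalizer (bau T : Set G) := hw S h2 hBS hx
  -- `x` fixes `d i`
  have hfix : x * d i * x⁻¹ = d i := by
    have h3 : x * d i * x⁻¹ ∈ zj T := by
      have h4 := normalizer_le_of_cj (F := zc) (fun g B => LemmaK.Main.zc_cj g B) (bau T) hxN
      rw [zc_bau] at h4
      exact (mem_normalizer_iff.1 h4 _).1 (h.d_mem_Z i)
    rcases Z_inf_N h (k.L_N h hxL (h.dN i)) h3 with h5 | h5
    · exfalso
      apply h.d1 i
      calc d i = x⁻¹ * (x * d i * x⁻¹) * x := by group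
        _ = 1 := by rw [h5]; group
    · exact h5
  obtain ⟨b, hb, hbx⟩ := h.PP_fix (k.LP hxL) hfix
  have hcP : b⁻¹ * x ∈ S := mul_mem (inv_mem (hBS hb)) hx
  have hcH : b⁻¹ * x ∈ H := mul_mem (inv_mem (h.bau_H hb)) (k.LH h hxL)
  have hcV : ∀ v ∈ V, b⁻¹ * x * v = v * (b⁻¹ * x) := by
    refine sim_one_iff.1 ?_
    have := hbx.mul_left b⁻¹
    rwa [inv_mul_cancel] at this
  have hcQ : b⁻¹ * x ∈ Q := by
    obtain ⟨n, hn⟩ := h2 ⟨_, hcP⟩
    exact h.two _ hcH hcV ⟨n, by simpa using congrArg Subtype.val hn⟩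
  have hcB : b⁻¹ * x ∈ bau T := k.inf_Q h (mul_mem (inv_mem (k.BL hb)) hxL) hcQ
  have h3 := mul_mem hb hcB
  rwa [mul_inv_cancel_left] at h3

/-- **The blocks for `q = 2`.** -/
theorem pb (h : In H T Q V N d t r) [Finite G] (hw : WeakNormal 2 (bau T)) (k : Blk H T V d r i L) :
    PB (bau T) L (N i) (zpowers (d i)) ⊥ 2 where
  Bp := h.Tp.to_le (bau_le T)
  BL := k.BL
  el := isElementaryAbelian_mono h.Velem (h.NV i)
  NB := le_sup_right.trans (VV_le_B h)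
  Nn := fun l hl v hv => k.L_N h hl hv
  N1N := zp_le h i
  N1c := fun b hb v hv => by
    have h1 : v ∈ zj T := (zpowers_le.2 (h.d_mem_Z i)) hv
    exact ((mem_bau.1 hb).2 v h1).symm
  N01 := bot_le
  N0c := fun l _ v hv => by rw [mem_bot.1 hv, mul_one, one_mul]
  card := by rw [h.cardN, card_zp h]
  card1 := by rw [card_zp h, Subgroup.card_bot]
  opp := by
    intro l hl hm v hv hlv
    rcases mem_zp h hv with h1 | h1
    · rw [h1, mul_one, mul_inv_cancel]; exact one_mem _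
    · exfalso
      rw [h1] at hlv
      rcases mem_zp h hlv with h2 | h2
      · apply h.d1 i
        calc d i = l⁻¹ * (l * d i * l⁻¹) * l := by group
          _ = 1 := by rw [h2]; group
      · exact (mv_iff h).1 hm h2
  quad := by
    intro b hb v hv
    rcases (h.EE_good (h.bau_EE hb)).actN i with h1 | h1
    · rw [h1 v hv, mul_inv_cancel]; exact one_mem _
    · rw [h1 v hv]
      rcases h.t_comm i v (h.NV i hv) with h2 | h2
      · rw [h2, mul_inv_cancel]; exact one_mem _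
      · rw [h2, mul_inv_cancel_right]; exact mem_zpowers _
  cent := by
    intro b hb hne v hv h0
    have h1 : b * v * b⁻¹ = v := mul_inv_eq_one.1 (mem_bot.1 h0)
    have hbQ : b ∉ QQ T N i := by
      intro hbQ
      obtain ⟨w, hw, hne⟩ := hne
      exact hne (mem_centralizer_iff.1 hbQ.2 w hw).symm
    rcases h.B_ne hb hbQ hv h1 with h2 | h2
    · rw [h2]; exact one_mem _
    · rw [h2]; exact mem_zpowers _
  cardB := by
    have h1 := relIndex_QQ (i := i) h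
    have h2 : QQ T N i ≤ bau T := inf_le_left
    have h3 := relIndex_mul_relIndex (⊥ : Subgroup G) (QQ T N i) (bau T) bot_le h2
    rw [relIndex_bot_left, relIndex_bot_left, h1] at h3
    exact h3.symm
  one := by norm_num
  mv := by
    obtain ⟨l, hl, hm⟩ := k.mv
    exact ⟨l, hl, (mv_iff h).2 hm⟩
  gen := fun l hl hm X hX hx => k.gen h hl ((mv_iff h).1 hm) hX hx
  act := fun l hl z hz => act h k hl (by rwa [zc_bau] at hz)
  cor := fun l hl x hx hc => (k.L_QQ h hl (x := x)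
    ⟨hx, mem_centralizer_iff.2 fun v hv => (hc v hv).symm⟩).1
  syl := fun S h1 h2 h3 => syl h hw k h1 h2 h3
  tor := by
    intro z hz hz0 z' hz' hz0'
    refine ⟨1, one_mem _, one_mem _, ?_⟩
    have h1 := (mem_zp h hz).resolve_left fun e => hz0 (by rw [e]; exact one_mem _)
    have h2 := (mem_zp h hz').resolve_left fun e => hz0' (by rw [e]; exact one_mem _)
    rw [h1, h2, one_mul, inv_one, mul_one, mul_inv_cancel]
    exact one_mem _

theorem comm_eq (h : In H T Q V N d t r) [Finite G] (hw : WeakNormal 2 (bau T)) (k : Blk H T V d r i L) :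
    ⁅N i, L⁆ = N i := by
  have hp := pb h hw k
  refine le_antisymm hp.VN fun v hv => ?_
  obtain ⟨u, hu, n, hn, rfl⟩ := hp.exists_V hv
  rw [mem_bot.1 hn, mul_one]
  exact hu

end Cfsg.Agent.Omega.OM.FBS

end
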