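import Cfsg.Agent.Mrg.Omega.OM.WeakCl
import Cfsg.Agent.Mrg.Omega.SQ1.FFKNat


/-!
# (R1) of OM1 for sums of natural `SL₂(F)`-modules

`H` a minimal parabolic over `T`, `J(T) ≰ O₂(H)`, `V = ⟨Ω₁(Z(T))^H⟩` a sum of `k` natural modules, `C_V(O²(H)) = 1`.
Then `Ω₁(Z(J(T))) = C_V(J(T)) ≤ V` and `O₂(H) ≤ C_T(Ω₁(Z(J(T)))) = bau T`.
-/

set_option autoImplicit false

namespace Cfsg.Agent.Omega.OM

open Subgroup Cfsg Cfsg.Agent.PLocal.ThompsonJ Cfsg.Agent.ZN Cfsg.Agent.ZN.ChoiceBase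
open Cfsg.Agent.ZN.ChoiceSit
open Cfsg.Agent.Omega.NatPair (ext2 ap ap_zero' ap_one' ap_mul)
open Cfsg.Agent.Lib.SL2Mat
open Cfsg.Agent.Omega.SQ1.FFOne
open Cfsg.Agent.Omega.SQ1.BauK (InK V1 mem_V1)
open Cfsg.Agent.Omega.FFThm (NatK ActsSL)
open Cfsg.Agent.Omega.FrameFF (cv)
open Cfsg.Agent.MinSimple.MinParabolic (IsMinPar)
open scoped Pointwise

universe u

variable {G : Type u} [Group G]

section

variable {F : Type} [Field F] {T H V : Subgroup G} {k : ℕ}

/-- All upper unitriangular elements of `SL₂(F)^k` are induced by `J(T)`. -/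
theorem exists_jj_up [Finite G] [Finite F] [CharP F 2] {ι : Type} [Finite ι] [Nonempty ι] {V0 : Subgroup G}
    (hm : MinH H T) (M : FFK ι F H T V V0) (c : ι → F) : ∃ j ∈ jj T, M.Up j c := by
  classical
  have := Fintype.ofFinite ι
  have key : ∀ s : Finset ι, ∀ c : ι → F, (∀ i, i ∉ s → c i = 0) → ∃ j ∈ jj T, M.Up j c := by
    intro s
    induction s using Finset.induction_on with
    | empty =>
      intro c hc
      have : c = 0 := funext fun i => hc i (by simp)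
      subst this
      exact ⟨1, one_mem _, FFK.Up.one M⟩
    | insert i s hi ih =>
      intro c hc
      obtain ⟨E, hE, -, h2⟩ := M.exists_E hm i
      obtain ⟨a, ha, hac⟩ := h2 (c i)
      obtain ⟨j, hj, hjc⟩ := ih (Function.update c i 0) fun l hl => by
        by_cases hli : l = i
        · subst hli; rw [Function.update_self]
        · rw [Function.update_of_ne hli]
          exact hc l (by simp [hli, hl])
      refine ⟨a * j, mul_mem (le_jj hE ha) hj, ?_⟩
      have h3 := FFK.Up.mul M (hm.syl.1 (jj_le T hj)) (M.up_of_act1 hac) hjc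
      have e : Pi.single i (c i) + Function.update c i 0 = c := by
        funext l
        by_cases hli : l = i
        · subst hli
          rw [Pi.add_apply, Pi.single_eq_same, Function.update_self, add_zero]
        · rw [Pi.add_apply, Pi.single_eq_of_ne hli, Function.update_of_ne hli, zero_add]
      rwa [e] at h3
  exact key Finset.univ c (by simp)

end

/-- The conditions on `W`. -/
structure WHyp (H T V W : Subgroup G) : Prop where
  WT : W ≤ T
  Wc : ∀ x ∈ W, ∀ y ∈ W, x * y = y * x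
  Wsq : ∀ x ∈ W, x ^ 2 = 1
  WJ : ∀ x ∈ W, ∀ j ∈ jj T, j * x = x * j
  Wn : ∀ t ∈ T, ∀ x ∈ W, t * x * t⁻¹ ∈ W
  ZcV : ∀ z ∈ W, ∀ v ∈ V, z * v = v * z
  V1Z : ∀ v ∈ V, (∀ j ∈ jj T, j * v = v * j) → v ∈ W
  Yn : ∀ h ∈ H, ∀ y ∈ W ⊔ V, h * y * h⁻¹ ∈ W ⊔ V
  act : ∀ j ∈ jj T, ∀ y ∈ W ⊔ V, j * y * j⁻¹ * y⁻¹ ∈ V

/-- **(R1), natural modules.** -/
theorem rone_nat [Finite G] {F : Type} [Field F] [Finite F] [CharP F 2] {T H : Subgroup G} {k : ℕ}
    (hT : Syl T H) (hP : IsMinPar T H) (hc : H ⊓ centralizer (o2 H : Set G) ≤ o2 H)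
    (hJ : ¬ jj T ≤ o2 H) (hk : 0 < k) (M : NatK F T H (zl T H) (cv T H) k) (hcv : cv T H = ⊥)
    {W : Subgroup G} (hW : WHyp H T (zl T H) W) : ∃ w, ROne H T (zl T H) W w := by
  classical
  have hne : Nonempty (Fin k) := ⟨⟨0, hk⟩⟩
  have hm := minH_of hT hP hc
  set M' := natKB_of hT hc hJ hk M with hM'
  set K := M'.toFFK hm with hK
  obtain ⟨E, D⟩ := FFK.toInK hm K
  -- coordinates are injective
  have hinj : ∀ v ∈ zl T H, ∀ v' ∈ zl T H, M.e v = M.e v' → v = v' := by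
    intro v hv v' hv' e
    have h1 : v * v'⁻¹ ∈ cv T H := by
      rw [← M.ker _ (mul_mem hv (inv_mem hv'))]
      have := M'.map_div hv hv'
      change M.e (v * v'⁻¹) = M.e v - M.e v' at this
      rw [this, e, sub_self]
    rw [hcv, mem_bot, mul_inv_eq_one] at h1
    exact h1
  have hV1 : ∀ {v}, v ∈ V1 T (zl T H) ↔ v ∈ zl T H ∧ ∀ i, M.e v i 1 = 0 := fun {v} =>
    K.mem_V1_iff hm
  -- the Weyl element
  obtain ⟨w, hw, hwA, -⟩ := M.lift fun _ => wm 1 one_ne_zero
  have hwact : M'.Acts w fun _ => wm 1 one_ne_zero := hwA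
  have hjup : ∀ j ∈ jj T, ∃ c : Fin k → F, M'.Acts j fun i => up (c i) := by
    intro j hj
    obtain ⟨c, hc⟩ := K.jj_up hm hj
    exact ⟨c, fun v hv i => hc i v hv⟩
  have hupj : ∀ c : Fin k → F, ∃ j ∈ jj T, M'.Acts j fun i => up (c i) := by
    intro c
    obtain ⟨j, hj, h⟩ := exists_jj_up hm K c
    exact ⟨j, hj, fun v hv i => h i v hv⟩
  have hVn := M'.Vn
  have hcomm : ∀ v ∈ zl T H, (∀ j ∈ jj T, j * v = v * j) → ∀ i, M.e v i 1 = 0 := fun v hv h =>
    (hV1.1 (mem_V1.2 ⟨hv, h⟩)).2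
  have hcV : ∀ v ∈ zl T H, (∀ h ∈ H, ∀ j ∈ jj T, h * j * h⁻¹ * v = v * (h * j * h⁻¹)) → v = 1 := by
    intro v hv h
    refine hinj v hv 1 (one_mem _) ?_
    have h1 : ∀ i, M.e v i 1 = 0 := hcomm v hv fun j hj => by
      have := h 1 (one_mem H) j hj
      simpa using this
    have hv' := hVn w⁻¹ (inv_mem hw) v hv
    have h2 : ∀ i, M.e (w⁻¹ * v * w⁻¹⁻¹) i 1 = 0 := hcomm _ hv' fun j hj => by
      have := h w hw j hj
      have h3 := congrArg (fun t => w⁻¹ * t * w) this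
      simpa [mul_assoc] using h3
    have h3 := hwact _ hv'
    have e1 : w * (w⁻¹ * v * w⁻¹⁻¹) * w⁻¹ = v := by group
    have hone : M.e 1 = 0 := M'.map_one
    rw [hone]
    funext i
    apply ext2
    · have h4 := congrFun (h3 i) 0
      change M.e (w * (w⁻¹ * v * w⁻¹⁻¹) * w⁻¹) i 0 = _ at h4
      rw [e1] at h4
      rw [h4, ap_zero', wm_00, wm_01, zero_mul, zero_add, one_mul]
      exact h2 i
    · exact h1 i
  refine ⟨w, ?_⟩
  exact
    { syl := hT
      VT := D.VQ.trans D.QT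
      Vn := hVn
      Vsq := M'.Vsq
      Vc := fun v hv v' hv' => M'.Vcomm hv hv'
      Qn := fun h hh x hx hxc => D.QT (D.Qn h hh x (D.cT x hx hxc))
      WT := hW.WT
      Wc := hW.Wc
      Wsq := hW.Wsq
      WJ := hW.WJ
      Wn := hW.Wn
      ZcV := hW.ZcV
      V1Z := hW.V1Z
      Yn := hW.Yn
      act := hW.act
      wH := hw
      split := by
        intro v hv
        obtain ⟨a, ha, ea⟩ := M.surj fun i => ![M.e v i 0, 0]
        obtain ⟨b, hb, eb⟩ := M.surj fun i => ![-(M.e v i 1), 0]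
        have haJ := (hV1.2 ⟨ha, fun i => by rw [ea]; rfl⟩)
        have hbJ := (hV1.2 ⟨hb, fun i => by rw [eb]; rfl⟩)
        refine ⟨a, ha, b, hb, (mem_V1.1 haJ).2, (mem_V1.1 hbJ).2, ?_⟩
        have hwb := hVn w hw b hb
        refine hinj v hv _ (mul_mem ha hwb) ?_
        rw [M.mul a ha _ hwb]
        funext i
        have h1 := hwact b hb i
        change M.e (w * b * w⁻¹) i = _ at h1
        rw [Pi.add_apply, h1, ea]
        change M.e v i = ![M.e v i 0, 0] + ap (wm 1 one_ne_zero) (M.e b i)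
        rw [eb]
        apply ext2
        · rw [Pi.add_apply, ap_zero', wm_00, wm_01]
          simp
        · rw [Pi.add_apply, ap_one', wm_10, wm_11]
          simp
      gen := by
        intro h hh j hj
        obtain ⟨c, hc'⟩ := hjup j hj
        have hjH : j ∈ H := hT.1 (jj_le T hj)
        obtain ⟨B, hB⟩ := M.norm h hh j hjH (fun i => up (c i)) hc'
        choose a b c' d hx using fun i => exists_up_lo (B i)
        set S := closure ((jj T : Set G) ∪ {x | ∃ j ∈ jj T, w * j * w⁻¹ = x}) with hS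
        have hup : ∀ c : Fin k → F, ∃ x ∈ S, x ∈ H ∧ M'.Acts x fun i => up (c i) := by
          intro c
          obtain ⟨j, hj, h⟩ := hupj c
          exact ⟨j, subset_closure (Or.inl hj), hT.1 (jj_le T hj), h⟩
        have hlo : ∀ c : Fin k → F, ∃ x ∈ S, x ∈ H ∧ M'.Acts x fun i => lo (c i) := by
          intro c
          obtain ⟨j, hj, h⟩ := hupj (-c)
          have hjH : j ∈ H := hT.1 (jj_le T hj)
          refine ⟨w * j * w⁻¹, subset_closure (Or.inr ⟨j, hj, rfl⟩),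
            mul_mem (mul_mem hw hjH) (inv_mem hw), ?_⟩
          have h1 := NatKB.acts_mul (inv_mem hw) (NatKB.acts_mul hjH hwact h)
            (NatKB.acts_inv hw hwact)
          have e : (fun _ : Fin k => wm (1 : F) one_ne_zero) * (fun i => up ((-c) i)) *
              (fun _ : Fin k => wm (1 : F) one_ne_zero)⁻¹ = fun i => lo (c i) := by
            funext i
            show wm (1 : F) one_ne_zero * up ((-c) i) * (wm (1 : F) one_ne_zero)⁻¹ = lo (c i)
            rw [wm_up, mul_inv_cancel_right]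
            simp
          rwa [e] at h1
        obtain ⟨x1, h1S, h1H, h1⟩ := hup a
        obtain ⟨x2, h2S, h2H, h2⟩ := hlo b
        obtain ⟨x3, h3S, h3H, h3⟩ := hup c'
        obtain ⟨x4, h4S, h4H, h4⟩ := hlo d
        have hact := NatKB.acts_mul h4H (NatKB.acts_mul h3H (NatKB.acts_mul h2H h1 h2) h3) h4
        have hkH : x1 * x2 * x3 * x4 ∈ H := mul_mem (mul_mem (mul_mem h1H h2H) h3H) h4H
        refine ⟨x1 * x2 * x3 * x4, mul_mem (mul_mem (mul_mem h1S h2S) h3S) h4S, fun v hv => ?_⟩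
        have hhj : h * j * h⁻¹ ∈ H := mul_mem (mul_mem hh hjH) (inv_mem hh)
        refine hinj _ (hVn _ hhj v hv) _ (hVn _ hkH v hv) ?_
        funext i
        rw [hB v hv i]
        have := hact v hv i
        change M.e (x1 * x2 * x3 * x4 * v * (x1 * x2 * x3 * x4)⁻¹) i = _ at this
        rw [this, hx i]
        rfl
      cV := hcV
      cZ := fun z hz h => hcV z (MinSimple.VModule.zc_le_zl T H hz) h }

/-- `W = Ω₁(Z(J(T)))`. -/
theorem wHyp_zj [Finite G] {H T V V0 : Subgroup G} {ι : Type} [Nonempty ι] {N E : ι → Subgroup G} {q : ℕ}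
    (D : InK H T (o2 H) V V0 N E q) : WHyp H T V (zj T) where
  WT := fun z hz => jj_le T (mem_zj.1 hz).1
  Wc := fun x hx y hy => (mem_zj.1 hy).2.2 x (mem_zj.1 hx).1
  Wsq := fun x hx => (mem_zj.1 hx).2.1
  WJ := fun x hx j hj => (mem_zj.1 hx).2.2 j hj
  Wn := fun t ht x hx => by
    have h2 := normalizer_le_of_cj (F := zj) zj_cj T (Subgroup.le_normalizer ht)
    exact (mem_normalizer_iff.1 h2 x).1 hx
  ZcV := D.ZcV
  V1Z := fun v hv h => D.V1_le_Z (mem_V1.2 ⟨hv, h⟩)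
  Yn := D.Y_norm
  act := fun j hj y hy => D.jj_act j hj y (sup_le D.Z_le_zjQ D.V_le_zjQ hy)

theorem zc_le_zj' [Finite G] (T : Subgroup G) : zc T ≤ zj T := zc_le_zj T

/-- `Ω₁(Z(Q)) = V C(J)`. -/
theorem mem_split [Finite G] {H T V V0 : Subgroup G} {ι : Type} [Finite ι] {N E : ι → Subgroup G} {q : ℕ}
    (D : InK H T (o2 H) V V0 N E q) {y : G} (hy : y ∈ zc (o2 H)) :
    ∃ v ∈ V, ∀ j ∈ jj T, j * (v * y) = v * y * j := by
  classical
  have := Fintype.ofFinite ι
  have hVz : V ≤ zc (o2 H) := fun v hv => mem_zc.2 ⟨D.VQ hv, D.Vsq v hv, fun x hx => D.VcQ x hx v hv⟩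
  have key : ∀ s : Finset ι, ∃ v ∈ V, ∀ i ∈ s, ∀ a ∈ E i, a * (v * y) = v * y * a := by
    intro s
    induction s using Finset.induction_on with
    | empty => exact ⟨1, one_mem _, by simp⟩
    | insert i s hi ih =>
      obtain ⟨v, hv, h⟩ := ih
      have hvy : v * y ∈ zj (o2 H) := zc_le_zj' _ (mul_mem (hVz hv) hy)
      obtain ⟨u, hu, c, -, hc, e⟩ := D.split_A (D.AT i) hvy
      -- `u = n x` with `n ∈ N i` and `x` centralised by `E i`
      obtain ⟨n, hn, x, hx, hxc, rfl⟩ : ∃ n ∈ N i, ∃ x ∈ V, (∀ a ∈ E i, a * x = x * a) ∧ u = n * x := by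
        have h1 : (⨆ j, N j) ≤ N i ⊔ (V ⊓ centralizer (E i : Set G)) := by
          refine iSup_le fun j => ?_
          by_cases hj : j = i
          · subst hj; exact le_sup_left
          · have h2 : N j ≤ V ⊓ centralizer (E i : Set G) := fun w hw =>
              ⟨D.NV j hw, mem_centralizer_iff.2 fun a ha => D.Acent i j (Ne.symm hj) a ha w hw⟩
            exact h2.trans le_sup_right
        obtain ⟨n, hn, x, hx, e⟩ := Cfsg.Agent.Omega.SQ1.Bau.mem_sup_comm (A := N i)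
          (B := V ⊓ centralizer (E i : Set G))
          (fun a ha b hb => D.Vcomm a (D.NV i ha) b hb.1) (h1 (D.Nsup hu))
        exact ⟨n, hn, x, hx.1, fun a ha => mem_centralizer_iff.1 hx.2 a ha, e⟩
      refine ⟨n⁻¹ * v, mul_mem (inv_mem (D.NV i hn)) hv, fun l hl a ha => ?_⟩
      have e2 : n⁻¹ * v * y = x * c := by
        rw [mul_assoc, e]; group
      rcases Finset.mem_insert.1 hl with rfl | hl
      · rw [e2]
        have c1 : Commute a x := hxc a ha
        have c2 : Commute a c := hc a ha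
        exact (c1.mul_right c2).eq
      · have hli : l ≠ i := fun h => hi (h ▸ hl)
        have c1 : Commute a n := D.Acent l i hli a ha n hn
        have c2 : Commute a (v * y) := h l hl a ha
        rw [mul_assoc]
        exact (c1.inv_right.mul_right c2).eq
  obtain ⟨v, hv, h⟩ := key Finset.univ
  refine ⟨v, hv, fun j hj => ?_⟩
  -- `j` acts on `V` as a product of elements of the `E i`
  have key2 : ∀ s : Finset ι, ∃ x ∈ jj T, Commute x (v * y) ∧
      (∀ i ∈ s, ∀ u ∈ N i, x * u * x⁻¹ = j * u * j⁻¹) ∧ ∀ i, i ∉ s → ∀ u ∈ N i, x * u = u * x := by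
    intro s
    induction s using Finset.induction_on with
    | empty => exact ⟨1, one_mem _, Commute.one_left _, by simp, by simp⟩
    | insert i s hi ih =>
      obtain ⟨x, hx, hxc, h1, h2⟩ := ih
      obtain ⟨a, ha, haj⟩ := D.full i j hj
      have hac : Commute a (v * y) := h i (Finset.mem_univ i) a ha
      refine ⟨a * x, mul_mem (le_jj (D.AT i) ha) hx, hac.mul_left hxc, fun l hl u hu => ?_,
        fun l hl u hu => ?_⟩
      · have e : a * x * u * (a * x)⁻¹ = a * (x * u * x⁻¹) * a⁻¹ := by group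
        rcases Finset.mem_insert.1 hl with rfl | hl
        · rw [e, h2 l hi u hu, mul_inv_cancel_right, haj u hu]
        · have hli : i ≠ l := fun h => hi (h ▸ hl)
          rw [e, h1 l hl u hu, D.Acent i l hli a ha _ (D.JN j hj l u hu), mul_inv_cancel_right]
      · have hli : i ≠ l := fun h => hl (by simp [h])
        have hls : l ∉ s := fun h => hl (by simp [h])
        have c1 : Commute a u := D.Acent i l hli a ha u hu
        have c2 : Commute x u := h2 l hls u hu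
        exact (c1.mul_left c2).eq
  obtain ⟨x, hx, hxc, h1, -⟩ := key2 Finset.univ
  have hq : x⁻¹ * j ∈ o2 H := by
    refine D.cT _ (mul_mem (inv_mem (jj_le T hx)) (jj_le T hj)) ?_
    have h3 : (⨆ i, N i) ≤ centralizer ({x⁻¹ * j} : Set G) := by
      refine iSup_le fun i u hu => mem_centralizer_iff.2 fun z hz => ?_
      rw [show z = x⁻¹ * j from hz]
      have h4 := h1 i (Finset.mem_univ i) u hu
      have h5 : x⁻¹ * (j * u * j⁻¹) * x = u := by rw [← h4]; group
      have h6 := congrArg (fun t => t * (x⁻¹ * j)) h5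
      have h7 : x⁻¹ * (j * u * j⁻¹) * x * (x⁻¹ * j) = x⁻¹ * j * u := by group
      rw [← h7]
      exact h6
    intro u hu
    exact mem_centralizer_iff.1 (h3 (D.Nsup hu)) _ rfl
  have c1 : Commute (x⁻¹ * j) (v * y) := (mem_zc.1 (mul_mem (hVz hv) hy)).2.2 _ hq
  have c2 := hxc.mul_left c1
  rw [mul_inv_cancel_left] at c2
  exact c2.eq

/-- `W = C(J) ∩ Ω₁(Z(O₂(H)))`. -/
theorem wHyp_zc [Finite G] {H T V V0 : Subgroup G} {ι : Type} [Finite ι] {N E : ι → Subgroup G} {q : ℕ}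
    (D : InK H T (o2 H) V V0 N E q) : WHyp H T V (zc (o2 H) ⊓ centralizer (jj T : Set G)) := by
  have hVz : V ≤ zc (o2 H) := fun v hv => mem_zc.2 ⟨D.VQ hv, D.Vsq v hv, fun x hx => D.VcQ x hx v hv⟩
  have hzn : ∀ h ∈ H, ∀ x ∈ zc (o2 H), h * x * h⁻¹ ∈ zc (o2 H) := fun h hh x hx =>
    (mem_normalizer_iff.1 (Cfsg.Agent.MinSimple.VModule.normalizer_le_normalizer_zc (o2 H) (le_normalizer_o2 H hh)) x).1 hx
  have hsup : zc (o2 H) ⊓ centralizer (jj T : Set G) ⊔ V = zc (o2 H) := by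
    apply le_antisymm (sup_le inf_le_left hVz)
    intro y hy
    obtain ⟨v, hv, h⟩ := mem_split D hy
    have e : y = v⁻¹ * (v * y) := by group
    rw [e]
    exact mul_mem (mem_sup_right (inv_mem hv))
      (mem_sup_left ⟨mul_mem (hVz hv) hy, mem_centralizer_iff.2 fun j hj => h j hj⟩)
  refine
    { WT := inf_le_left.trans ((zc_le _).trans D.QT)
      Wc := fun x hx y hy => (mem_zc.1 hy.1).2.2 x (mem_zc.1 hx.1).1
      Wsq := fun x hx => (mem_zc.1 hx.1).2.1
      WJ := fun x hx j hj => mem_centralizer_iff.1 hx.2 j hj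
      Wn := ?_
      ZcV := fun z hz v hv => D.VcQ z (zc_le _ hz.1) v hv
      V1Z := fun v hv h => ⟨hVz hv, mem_centralizer_iff.2 h⟩
      Yn := ?_
      act := ?_ }
  · intro t ht x hx
    refine ⟨hzn t (D.TH ht) x hx.1, mem_centralizer_iff.2 fun j hj => ?_⟩
    have hj' : t⁻¹ * j * t ∈ jj T := by
      have h2 := normalizer_le_of_cj (F := jj) jj_cj T (Subgroup.le_normalizer ht)
      have h3 := (mem_normalizer_iff''.1 h2 j).1 hj
      exact h3
    have h1 := mem_centralizer_iff.1 hx.2 _ hj'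
    have h2 := congrArg (fun u => t * u * t⁻¹) h1
    simpa [mul_assoc] using h2
  · rw [hsup]
    exact hzn
  · rw [hsup]
    intro j hj y hy
    obtain ⟨v, hv, h⟩ := mem_split D hy
    have hjH := D.TH (jj_le T hj)
    have e : j * y * j⁻¹ * y⁻¹ = (j * v * j⁻¹)⁻¹ * (j * (v * y) * j⁻¹) * (v * y)⁻¹ * v := by group
    have e2 : j * (v * y) * j⁻¹ = v * y := by rw [h j hj]; group
    rw [e, e2, mul_assoc _ (v * y) _, mul_inv_cancel, mul_one]
    exact mul_mem (inv_mem (D.Vn j hjH v hv)) hv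

/-- **`Ω₁(Z(O₂(H))) = V`.** -/
theorem zc_le_nat [Finite G] {F : Type} [Field F] [Finite F] [CharP F 2] {T H : Subgroup G} {k : ℕ}
    (hT : Syl T H) (hP : IsMinPar T H) (hc : H ⊓ centralizer (o2 H : Set G) ≤ o2 H)
    (hJ : ¬ jj T ≤ o2 H) (hk : 0 < k) (M : NatK F T H (zl T H) (cv T H) k) (hcv : cv T H = ⊥) :
    zc (o2 H) ≤ zl T H := by
  have hne : Nonempty (Fin k) := ⟨⟨0, hk⟩⟩
  obtain ⟨N, E, D⟩ := exists_inK hT hP hc hJ hk M
  obtain ⟨w, D'⟩ := rone_nat hT hP hc hJ hk M hcv (wHyp_zc D)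
  intro y hy
  obtain ⟨v, hv, h⟩ := mem_split D hy
  have hVz : v ∈ zc (o2 H) := mem_zc.2 ⟨D.VQ hv, D.Vsq v hv, fun x hx => D.VcQ x hx v hv⟩
  have h1 := D'.W_le ⟨mul_mem hVz hy, mem_centralizer_iff.2 fun j hj => h j hj⟩
  have e : y = v⁻¹ * (v * y) := by group
  rw [e]
  exact mul_mem (inv_mem hv) h1

/-- **(R1), natural modules**: `Ω₁(Z(J(T))) = C_V(J(T))`, `O₂(H) ≤ bau T`. -/
theorem zj_le_nat [Finite G] {F : Type} [Field F] [Finite F] [CharP F 2] {T H : Subgroup G} {k : ℕ}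
    (hT : Syl T H) (hP : IsMinPar T H) (hc : H ⊓ centralizer (o2 H : Set G) ≤ o2 H)
    (hJ : ¬ jj T ≤ o2 H) (hk : 0 < k) (M : NatK F T H (zl T H) (cv T H) k) (hcv : cv T H = ⊥) :
    zj T ≤ zl T H ∧ o2 H ≤ bau T := by
  have hne : Nonempty (Fin k) := ⟨⟨0, hk⟩⟩
  obtain ⟨N, E, D⟩ := exists_inK hT hP hc hJ hk M
  obtain ⟨w, D'⟩ := rone_nat hT hP hc hJ hk M hcv (wHyp_zj D)
  have h1 := D'.W_le
  refine ⟨h1, fun x hx => mem_bau.2 ⟨o2_le_syl hT hx, fun y hy => ?_⟩⟩
  exact ((natKB_of hT hc hJ hk M).VcQ x hx y (h1 hy)).symm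

/-- The output of (R1) for natural modules: `V = zl T H`, `Z_J = zj T`, `B = bau T`. -/
structure NatOut {F : Type} [Field F] {T H V D : Subgroup G} {k : ℕ} (M : NatK F T H V D k) : Prop where
  /-- coordinates are injective -/
  inj : ∀ v ∈ V, ∀ v' ∈ V, M.e v = M.e v' → v = v'
  Dbot : D = ⊥
  mem_zj : ∀ v, v ∈ zj T ↔ v ∈ V ∧ ∀ i, M.e v i 1 = 0
  bau_up : ∀ b ∈ bau T, ∃ c : Fin k → F, ActsSL M.e V D b fun i => up (c i)
  jj_up : ∀ c : Fin k → F, ∃ j ∈ jj T, ActsSL M.e V D j fun i => up (c i)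
  /-- `A_i ∈ A(T)` acting on the `i`-th summand only, as the full root group -/
  AA_up : ∀ i, ∃ A ∈ AA T, (∀ a ∈ A, ∃ c : F, ActsSL M.e V D a (Function.update 1 i (up c))) ∧
    ∀ c : F, ∃ a ∈ A, ActsSL M.e V D a (Function.update 1 i (up c))
  o2_le : o2 H ≤ bau T
  mem_o2 : ∀ x, x ∈ o2 H ↔ x ∈ T ∧ ∀ v ∈ V, x * v = v * x
  zc_eq : zc (o2 H) = V
  zj_le : zj T ≤ V

theorem natOut [Finite G] {F : Type} [Field F] [Finite F] [CharP F 2] {T H : Subgroup G} {k : ℕ}
    (hT : Syl T H) (hP : IsMinPar T H) (hc : H ⊓ centralizer (o2 H : Set G) ≤ o2 H)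
    (hJ : ¬ jj T ≤ o2 H) (hk : 0 < k) (M : NatK F T H (zl T H) (cv T H) k) (hcv : cv T H = ⊥) :
    NatOut M := by
  classical
  have hne : Nonempty (Fin k) := ⟨⟨0, hk⟩⟩
  have hm := minH_of hT hP hc
  set M' := natKB_of hT hc hJ hk M with hM'
  set K := M'.toFFK hm with hK
  obtain ⟨E, D⟩ := FFK.toInK hm K
  have hz := (zj_le_nat hT hP hc hJ hk M hcv).1
  have hV1 : ∀ {v}, v ∈ V1 T (zl T H) ↔ v ∈ zl T H ∧ ∀ i, M.e v i 1 = 0 := fun {v} =>
    K.mem_V1_iff hm
  have hDc : ∀ g : G, ∀ d ∈ cv T H, g * d = d * g := fun g d hd => by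
    rw [hcv, mem_bot] at hd; rw [hd, mul_one, one_mul]
  have hjup : ∀ j ∈ jj T, ∃ c : Fin k → F, M'.Acts j fun i => up (c i) := by
    intro j hj
    obtain ⟨c, hc⟩ := K.jj_up hm hj
    exact ⟨c, fun v hv i => hc i v hv⟩
  refine
    { inj := ?_
      Dbot := hcv
      mem_zj := ?_
      bau_up := ?_
      jj_up := ?_
      AA_up := ?_
      o2_le := (zj_le_nat hT hP hc hJ hk M hcv).2
      mem_o2 := ?_
      zc_eq := ?_
      zj_le := hz }
  · intro v hv v' hv' e
    have h1 : v * v'⁻¹ ∈ cv T H := by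
      rw [← M.ker _ (mul_mem hv (inv_mem hv'))]
      have := M'.map_div hv hv'
      change M.e (v * v'⁻¹) = M.e v - M.e v' at this
      rw [this, e, sub_self]
    rw [hcv, mem_bot, mul_inv_eq_one] at h1
    exact h1
  · intro v
    rw [← hV1, ← D.Z_inf_V, mem_inf]
    exact ⟨fun h => ⟨h, hz h⟩, fun h => h.1⟩
  · intro b hb
    obtain ⟨j, hj, h⟩ := D.bau_act hb
    obtain ⟨c, hc⟩ := hjup j hj
    refine ⟨c, fun v hv i => ?_, hDc b⟩
    rw [h v hv]
    exact hc v hv i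
  · intro c
    obtain ⟨j, hj, h⟩ := exists_jj_up hm K c
    exact ⟨j, hj, fun v hv i => h i v hv, hDc j⟩
  · intro i
    obtain ⟨A, hA, h1, h2⟩ := K.exists_E hm i
    have hup : ∀ a : G, ∀ c : F, Act1 K.π (zl T H) i a (up c) →
        ActsSL M.e (zl T H) (cv T H) a (Function.update 1 i (up c)) := by
      intro a c h
      refine ⟨fun v hv l => ?_, hDc a⟩
      by_cases hl : l = i
      · subst hl
        rw [Function.update_self]
        exact h.act v hv
      · rw [Function.update_of_ne hl, Pi.one_apply, Cfsg.Agent.Omega.NatPair.ap_one]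
        exact h.oth l hl v hv
    refine ⟨A, hA, fun a ha => ?_, fun c => ?_⟩
    · obtain ⟨c, hc⟩ := K.exists_up hA ha
      refine ⟨c i, fun v hv l => ?_, hDc a⟩
      by_cases hl : l = i
      · subst hl
        rw [Function.update_self]
        exact hc l v hv
      · rw [Function.update_of_ne hl, Pi.one_apply, Cfsg.Agent.Omega.NatPair.ap_one]
        -- `a` centralises `W i`
        exact K.cent_act (hT.1 (hA.2.1 ha)) (h1 a ha) hl hv
    · obtain ⟨a, ha, h⟩ := h2 c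
      exact ⟨a, ha, hup a c h⟩
  · intro x
    refine ⟨fun hx => ⟨o2_le_syl hT hx, M'.VcQ x hx⟩, fun hx => D.cT x hx.1 hx.2⟩
  · apply le_antisymm (zc_le_nat hT hP hc hJ hk M hcv)
    exact fun v hv => mem_zc.2 ⟨D.VQ hv, D.Vsq v hv, fun x hx => D.VcQ x hx v hv⟩

end Cfsg.Agent.Omega.OM
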