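import Cfsg.Agent.Mrg.Omega.OM.ROneNat
import Cfsg.Agent.Mrg.Omega.OM.ROneSymT


/-!
# (R1) of OM1 for sums of even-subset modules of `S_{2^m+1}`

`H` a minimal parabolic over `T`, `J(T) ≰ O₂(H)`, `V = ⟨Ω₁(Z(T))^H⟩` a sum of `k` even-subset modules,
`C_V(O²(H)) = 1`.  Then `Ω₁(Z(J(T))) = C_V(J(T)) = ⟨d i⟩`, `Ω₁(Z(O₂(H))) = V`, `O₂(H) ≤ bau T`.
-/

set_option autoImplicit false
set_option linter.unusedVariables false

namespace Cfsg.Agent.Omega.OM

open Subgroup Cfsg Cfsg.Agent.PLocal.ThompsonJ Cfsg.Agent.ZN Cfsg.Agent.ZN.ChoiceBase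
open Cfsg.Agent.ZN.ChoiceSit
open Cfsg.Agent.Omega.SQ1.FFOne Cfsg.Agent.Omega.SQ1.FFSym
open Cfsg.Agent.Omega.SQ1.FFSym.SyT
open Cfsg.Agent.Omega.FFThm (ActsSym SymK NoOver Off)
open Cfsg.Agent.Omega.SQ1.BauS (Sim In PermR)
open Cfsg.Agent.Omega.FrameFF (cv)
open Cfsg.Agent.MinSimple.MinParabolic (IsMinPar)
open scoped Pointwise

universe v w

variable {G : Type v} [Group G]

/-! ### The conjugates `r i * t i * (r i)⁻¹` -/

section bau

variable {H T Q V W : Subgroup G} {ι : Type w} {N : ι → Subgroup G} {d t r : ι → G}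

/-- the conjugates `r i * t i * (r i)⁻¹` -/
def XX (t r : ι → G) : Set G := {x | ∃ i, r i * t i * (r i)⁻¹ = x}

theorem d_jj (h : In H T Q V N d t r) (i : ι) : ∀ y ∈ jj T, y * d i = d i * y := fun y hy => by
  have h1 := (h.EE_good (h.Jt hy)).fixd i
  calc y * d i = (y * d i * y⁻¹) * y := by group
    _ = _ := by rw [h1]

/-- `r i * t i * (r i)⁻¹` on `W`. -/
theorem xx_W (h : In H T Q V N d t r) (hW : WHyp H T V W) (i : ι) {y : G} (hy : y ∈ W) :
    r i * t i * (r i)⁻¹ * y * (r i * t i * (r i)⁻¹)⁻¹ = y ∨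
      r i * t i * (r i)⁻¹ * y * (r i * t i * (r i)⁻¹)⁻¹ = r i * d i * (r i)⁻¹ * y := by
  have h1 := hW.Yn (r i)⁻¹ (inv_mem (h.rH i)) y (mem_sup_left hy)
  rw [inv_inv] at h1
  have hle : V ≤ centralizer (W : Set G) := fun v hv =>
    mem_centralizer_iff.2 fun z hz => hW.ZcV z hz v hv
  have h2 : (r i)⁻¹ * y * r i ∈ (W : Set G) * (V : Set G) := by
    rw [← Subgroup.coe_mul_of_right_le_normalizer_left _ _ (hle.trans (centralizer_le_normalizer _))]
    exact h1
  obtain ⟨z, hz, v, hv, e⟩ := h2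
  have e' : (r i)⁻¹ * y * r i = z * v := e.symm
  have h3 : t i * z * (t i)⁻¹ = z := by rw [hW.WJ z hz _ (h.tJ i)]; group
  have e1 : r i * t i * (r i)⁻¹ * y * (r i * t i * (r i)⁻¹)⁻¹ =
      r i * ((t i * z * (t i)⁻¹) * (t i * v * (t i)⁻¹)) * (r i)⁻¹ := by
    have : r i * t i * (r i)⁻¹ * y * (r i * t i * (r i)⁻¹)⁻¹ =
      r i * (t i * ((r i)⁻¹ * y * r i) * (t i)⁻¹) * (r i)⁻¹ := by group
    rw [this, e']; group
  have e2 : r i * (z * v) * (r i)⁻¹ = y := by rw [← e']; group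
  rcases h.t_comm i v hv with h4 | h4
  · left
    rw [e1, h3, h4, e2]
  · right
    rw [e1, h3, h4]
    have h5 : z * (d i * v) = d i * (z * v) := by
      have := hW.ZcV z hz (d i) (h.dV i)
      rw [← mul_assoc, this, mul_assoc]
    rw [h5]
    calc r i * (d i * (z * v)) * (r i)⁻¹ = (r i * d i * (r i)⁻¹) * (r i * (z * v) * (r i)⁻¹) := by group
      _ = _ := by rw [e2]

theorem xx_d (h : In H T Q V N d t r) [Finite G] (i : ι) :
    r i * t i * (r i)⁻¹ * d i * (r i * t i * (r i)⁻¹)⁻¹ = r i * d i * (r i)⁻¹ * d i := by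
  set n := (r i)⁻¹ * d i * r i with hn
  have e0 : n = r i * (r i * d i * (r i)⁻¹) * (r i)⁻¹ := by
    have h1 := h.r3' i (h.dV i)
    calc n = (r i)⁻¹ * (r i * (r i * (r i * d i * (r i)⁻¹) * (r i)⁻¹) * (r i)⁻¹) * r i := by rw [h1]
      _ = _ := by group
  have hnN : n ∈ N i := by rw [e0]; exact h.r_N i (h.r_N i (h.dN i))
  have e1 : r i * n * (r i)⁻¹ = d i := by rw [hn]; group
  have h2 : t i * n * (t i)⁻¹ = d i * n := by
    rcases h.t_comm i n (h.NV i hnN) with h3 | h3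
    · exfalso
      rcases h.t_ne i hnN h3 with h4 | h4
      · rw [h4] at e1
        apply h.d1 i
        rw [← e1]; group
      · rw [h4] at e1
        exact h.r_d_ne i e1
    · exact h3
  calc r i * t i * (r i)⁻¹ * d i * (r i * t i * (r i)⁻¹)⁻¹ = r i * (t i * n * (t i)⁻¹) * (r i)⁻¹ := by
        rw [hn]; group
    _ = (r i * d i * (r i)⁻¹) * (r i * n * (r i)⁻¹) := by rw [h2]; group
    _ = _ := by rw [e1]

theorem xx_d' (h : In H T Q V N d t r) {i l : ι} (hil : l ≠ i) :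
    r l * t l * (r l)⁻¹ * d i * (r l * t l * (r l)⁻¹)⁻¹ = d i := by
  have h1 := h.r_d' hil
  have h2 : (r l)⁻¹ * d i * r l = d i := by
    calc (r l)⁻¹ * d i * r l = (r l)⁻¹ * (r l * d i * (r l)⁻¹) * r l := by rw [h1]
      _ = _ := by group
  calc r l * t l * (r l)⁻¹ * d i * (r l * t l * (r l)⁻¹)⁻¹ =
      r l * (t l * ((r l)⁻¹ * d i * r l) * (t l)⁻¹) * (r l)⁻¹ := by group
    _ = d i := by rw [h2, h.t_d', h1]

theorem splitX (h : In H T Q V N d t r) [Finite G] (hW : WHyp H T V W) {z : G} (hz : z ∈ W) :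
    ∃ a ∈ V, (∀ j ∈ jj T, j * a = a * j) ∧ ∀ x ∈ XX t r, x * (z * a⁻¹) = z * a⁻¹ * x := by
  classical
  have := h.finite_index
  have := Fintype.ofFinite ι
  have key : ∀ s : Finset ι, ∃ a ∈ V, (∀ j ∈ jj T, j * a = a * j) ∧
      ∀ i ∈ s, r i * t i * (r i)⁻¹ * (z * a⁻¹) = z * a⁻¹ * (r i * t i * (r i)⁻¹) := by
    intro s
    induction s using Finset.induction_on with
    | empty => exact ⟨1, one_mem _, fun j _ => by rw [mul_one, one_mul], by simp⟩
    | insert i s hi ih =>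
      obtain ⟨a, ha, haJ, has⟩ := ih
      have hza : z * a⁻¹ ∈ W := mul_mem hz (inv_mem (hW.V1Z a ha haJ))
      rcases xx_W h hW i hza with h1 | h1
      · refine ⟨a, ha, haJ, fun l hl => ?_⟩
        rcases Finset.mem_insert.1 hl with rfl | hl
        · exact mul_inv_eq_iff_eq_mul.1 h1
        · exact has l hl
      · have hdi : (d i)⁻¹ = d i := h.inv_eq (h.dV i)
        refine ⟨a * d i, mul_mem ha (h.dV i), fun j hj => ?_, fun l hl => ?_⟩
        · have c1 : Commute j a := haJ j hj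
          have c2 : Commute j (d i) := d_jj h i j hj
          exact (c1.mul_right c2).eq
        · have e1 : z * (a * d i)⁻¹ = z * a⁻¹ * d i := by
            rw [mul_inv_rev, hdi, h.Vcomm (d i) (h.dV i) a⁻¹ (inv_mem ha), mul_assoc]
          rw [e1]
          rcases Finset.mem_insert.1 hl with rfl | hl
          · have h2 := xx_d h l
            set x := r l * t l * (r l)⁻¹ with hx
            have hm : r l * d l * (r l)⁻¹ ∈ V := h.Vn _ (h.rH l) _ (h.dV l)
            have h3 : x * (z * a⁻¹ * d l) * x⁻¹ = z * a⁻¹ * d l := by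
              calc x * (z * a⁻¹ * d l) * x⁻¹ = (x * (z * a⁻¹) * x⁻¹) * (x * d l * x⁻¹) := by group
                _ = (r l * d l * (r l)⁻¹ * (z * a⁻¹)) * (r l * d l * (r l)⁻¹ * d l) := by rw [h1, h2]
                _ = (z * a⁻¹ * (r l * d l * (r l)⁻¹)) * (r l * d l * (r l)⁻¹ * d l) := by
                    rw [hW.ZcV _ hza _ hm]
                _ = z * a⁻¹ * (r l * d l * (r l)⁻¹ * (r l * d l * (r l)⁻¹)) * d l := by group
                _ = z * a⁻¹ * d l := by rw [h.mulself hm, mul_one]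
            exact mul_inv_eq_iff_eq_mul.1 h3
          · have hli : l ≠ i := fun e => hi (e ▸ hl)
            have c1 : Commute (r l * t l * (r l)⁻¹) (z * a⁻¹) := has l hl
            have c2 : Commute (r l * t l * (r l)⁻¹) (d i) := mul_inv_eq_iff_eq_mul.1 (xx_d' h hli)
            exact (c1.mul_right c2).eq
  obtain ⟨a, ha, haJ, h1⟩ := key Finset.univ
  refine ⟨a, ha, haJ, ?_⟩
  rintro _ ⟨i, rfl⟩
  exact h1 i (Finset.mem_univ i)

/-- `W = Ω₁(Z(J(T)))`. -/
theorem wHyp_zjS [Finite G] (h : In H T Q V N d t r) [Nonempty ι] : WHyp H T V (zj T) where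
  WT := fun z hz => jj_le T (mem_zj.1 hz).1
  Wc := fun x hx y hy => (mem_zj.1 hy).2.2 x (mem_zj.1 hx).1
  Wsq := fun x hx => (mem_zj.1 hx).2.1
  WJ := fun x hx j hj => (mem_zj.1 hx).2.2 j hj
  Wn := fun t ht x hx => by
    have h2 := normalizer_le_of_cj (F := zj) zj_cj T (Subgroup.le_normalizer ht)
    exact (mem_normalizer_iff.1 h2 x).1 hx
  ZcV := h.ZcV
  V1Z := fun v hv hc => mem_zj.2
    ⟨mem_jj_of_comm (h.QT (h.VQ hv)) (h.Vsq _ hv) hc, h.Vsq _ hv, hc⟩
  Yn := by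
    obtain ⟨i⟩ := ‹Nonempty ι›
    exact h.Y_norm i
  act := fun j hj y hy => h.jj_act j hj y (sup_le h.Z_le_zjQ h.V_le_zjQ hy)

/-- `Ω₁(Z(Q)) = V C(J)`. -/
theorem mem_splitS [Finite G] (h : In H T Q V N d t r)
    (hA : ∀ i, ∃ A ∈ AA T, ∃ a ∈ A, Sim V a (t i)) {y : G} (hy : y ∈ zc Q) :
    ∃ v ∈ V, ∀ j ∈ jj T, j * (v * y) = v * y * j := by
  classical
  have := h.finite_index
  have := Fintype.ofFinite ι
  have hVz : V ≤ zc Q := fun v hv => mem_zc.2 ⟨h.VQ hv, h.Vsq v hv, fun x hx => h.VcQ x hx v hv⟩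
  -- `t i` on `Ω₁(Z(Q))`
  have htz : ∀ i, ∀ w ∈ zc Q, t i * w * (t i)⁻¹ = w ∨ t i * w * (t i)⁻¹ = d i * w := by
    intro i w hw
    obtain ⟨A, hAT, a, ha, hs⟩ := hA i
    have hq : a⁻¹ * t i ∈ Q := by
      refine h.cT (mul_mem (inv_mem (hAT.2.1 ha)) (h.tT i)) fun v hv => ?_
      have h1 := hs v hv
      calc a⁻¹ * t i * v = a⁻¹ * (t i * v * (t i)⁻¹) * t i := by group
        _ = a⁻¹ * (a * v * a⁻¹) * t i := by rw [h1]
        _ = _ := by group
    have h1 : t i * w * (t i)⁻¹ = a * w * a⁻¹ := by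
      have h2 := (mem_zc.1 hw).2.2 _ hq
      calc t i * w * (t i)⁻¹ = a * ((a⁻¹ * t i) * w) * (t i)⁻¹ := by group
        _ = a * (w * (a⁻¹ * t i)) * (t i)⁻¹ := by rw [h2]
        _ = _ := by group
    obtain ⟨v, hv, c, -, hc, rfl⟩ := h.split_A hAT (zc_le_zj' Q hw)
    have h3 : a * (v * c) * a⁻¹ = (t i * v * (t i)⁻¹) * c := by
      rw [← hs v hv]
      calc a * (v * c) * a⁻¹ = a * v * a⁻¹ * (a * c) * a⁻¹ := by group
        _ = a * v * a⁻¹ * (c * a) * a⁻¹ := by rw [hc a ha]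
        _ = _ := by group
    rw [h1, h3]
    rcases h.t_comm i v hv with h4 | h4
    · left; rw [h4]
    · right; rw [h4, mul_assoc]
  have key : ∀ s : Finset ι, ∃ v ∈ V, ∀ i ∈ s, t i * (v * y) * (t i)⁻¹ = v * y := by
    intro s
    induction s using Finset.induction_on with
    | empty => exact ⟨1, one_mem _, by simp⟩
    | insert i s hi ih =>
      obtain ⟨v, hv, hs⟩ := ih
      rcases htz i (v * y) (mul_mem (hVz hv) hy) with h1 | h1
      · refine ⟨v, hv, fun l hl => ?_⟩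
        rcases Finset.mem_insert.1 hl with rfl | hl
        · exact h1
        · exact hs l hl
      · have hmN : r i * d i * (r i)⁻¹ ∈ N i := h.r_N i (h.dN i)
        have hm := h.t_m i
        set m := r i * d i * (r i)⁻¹ with hmd
        have hmV : m ∈ V := h.NV i hmN
        refine ⟨m * v, mul_mem hmV hv, fun l hl => ?_⟩
        have e1 : ∀ x : G, x * (m * v * y) * x⁻¹ = (x * m * x⁻¹) * (x * (v * y) * x⁻¹) := by
          intro x; group
        rcases Finset.mem_insert.1 hl with rfl | hl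
        · have h2 : d l * m = m * d l := h.Vcomm _ (h.dV l) _ hmV
          rw [e1, hm, h1, h2]
          calc m * d l * (d l * (v * y)) = m * (d l * d l) * (v * y) := by group
            _ = _ := by rw [h.mulself (h.dV l), mul_one, mul_assoc m v y]
        · have hli : i ≠ l := fun e => hi (e ▸ hl)
          rw [e1, h.t_N' hli hmN, hs l hl, mul_assoc m v y]
  obtain ⟨v, hv, hs⟩ := key Finset.univ
  refine ⟨v, hv, fun j hj => ?_⟩
  have hle : closure (Set.range t) ⊔ Q ≤ centralizer {v * y} := by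
    refine sup_le ?_ fun x hx => ?_
    · rw [closure_le]
      rintro _ ⟨i, rfl⟩
      rw [SetLike.mem_coe, mem_centralizer_iff]
      rintro _ rfl
      exact (mul_inv_eq_iff_eq_mul.1 (hs i (Finset.mem_univ i))).symm
    · rw [mem_centralizer_iff]
      rintro _ rfl
      exact ((mem_zc.1 (mul_mem (hVz hv) hy)).2.2 x hx).symm
  exact (mem_centralizer_iff.1 (hle (h.Jt hj)) _ rfl).symm

/-- `W = C(J) ∩ Ω₁(Z(Q))`. -/
theorem wHyp_zcS [Finite G] (h : In H T Q V N d t r)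
    (hA : ∀ i, ∃ A ∈ AA T, ∃ a ∈ A, Sim V a (t i)) :
    WHyp H T V (zc Q ⊓ centralizer (jj T : Set G)) := by
  have hVz : V ≤ zc Q := fun v hv => mem_zc.2 ⟨h.VQ hv, h.Vsq v hv, fun x hx => h.VcQ x hx v hv⟩
  have hzn : ∀ g ∈ H, ∀ x ∈ zc Q, g * x * g⁻¹ ∈ zc Q := fun g hg x hx =>
    (mem_normalizer_iff.1
      (Cfsg.Agent.MinSimple.VModule.normalizer_le_normalizer_zc Q (h.H_norm_Q hg)) x).1 hx
  have hsup : zc Q ⊓ centralizer (jj T : Set G) ⊔ V = zc Q := by
    apply le_antisymm (sup_le inf_le_left hVz)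
    intro y hy
    obtain ⟨v, hv, h1⟩ := mem_splitS h hA hy
    have e : y = v⁻¹ * (v * y) := by group
    rw [e]
    exact mul_mem (mem_sup_right (inv_mem hv))
      (mem_sup_left ⟨mul_mem (hVz hv) hy, mem_centralizer_iff.2 fun j hj => h1 j hj⟩)
  refine
    { WT := inf_le_left.trans ((zc_le _).trans h.QT)
      Wc := fun x hx y hy => (mem_zc.1 hy.1).2.2 x (mem_zc.1 hx.1).1
      Wsq := fun x hx => (mem_zc.1 hx.1).2.1
      WJ := fun x hx j hj => mem_centralizer_iff.1 hx.2 j hj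
      Wn := ?_
      ZcV := fun z hz v hv => h.VcQ z (zc_le _ hz.1) v hv
      V1Z := fun v hv hc => ⟨hVz hv, mem_centralizer_iff.2 hc⟩
      Yn := ?_
      act := ?_ }
  · intro x hx y hy
    refine ⟨hzn x (h.TH hx) y hy.1, mem_centralizer_iff.2 fun j hj => ?_⟩
    have hj' : x⁻¹ * j * x ∈ jj T := by
      have h2 := normalizer_le_of_cj (F := jj) jj_cj T (Subgroup.le_normalizer hx)
      exact (mem_normalizer_iff''.1 h2 j).1 hj
    have h1 := mem_centralizer_iff.1 hy.2 _ hj'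
    have h2 := congrArg (fun u => x * u * x⁻¹) h1
    simpa [mul_assoc] using h2
  · rw [hsup]
    exact hzn
  · rw [hsup]
    intro j hj y hy
    obtain ⟨v, hv, h1⟩ := mem_splitS h hA hy
    have hjH := h.TH (jj_le T hj)
    have e : j * y * j⁻¹ * y⁻¹ = (j * v * j⁻¹)⁻¹ * (j * (v * y) * j⁻¹) * (v * y)⁻¹ * v := by group
    have e2 : j * (v * y) * j⁻¹ = v * y := by rw [h1 j hj]; group
    rw [e, e2, mul_assoc _ (v * y) _, mul_inv_cancel, mul_one]
    exact mul_mem (inv_mem (h.Vn j hjH v hv)) hv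

end bau

/-! ### The subgroup generated by `J(T)` and the `r i * t i * (r i)⁻¹` -/

section syt

variable {T H Q V D W : Subgroup G} {k n : ℕ} {o : Fin n} {e : G → Fin k → Fin n → ZMod 2}
  {ι : Type} {J : ι → Fin k} {X Y : ι → Fin n} {t r : ι → G}

theorem xx_gd (h : SyT T H Q V D o e) (c : Ch T H V D o e J X Y t r) (i : ι) :
    Gd H V D e (Pi.mulSingle (J i) (Equiv.swap (Y i) o)) (r i * t i * (r i)⁻¹) := by
  have h1 := h.gd_conj_single (c.rg i).mem (c.rg i).act (c.tg i)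
  have n1 := (c.tr i).ne h
  rw [Equiv.Perm.one_apply, Pi.mulSingle_eq_same, ← Equiv.swap_apply_apply,
    cyc_b n1.1 n1.2 (c.tr i).1, cyc_z n1.1 n1.2 (c.tr i).1] at h1
  exact h1

/-- **All even permutations of the blocks are induced by `⟨J(T), r i t i (r i)⁻¹⟩`.** -/
theorem gd_top (h : SyT T H Q V D o e) [Finite G] (c : Ch T H V D o e J X Y t r)
    (τ : Fin k → Equiv.Perm (Fin n)) :
    ∃ x ∈ closure ((jj T : Set G) ∪ XX t r), Gd H V D e τ x := by
  set K := closure ((jj T : Set G) ∪ XX t r) with hK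
  let P : Subgroup (Fin k → Equiv.Perm (Fin n)) :=
    { carrier := {τ | ∃ g ∈ K, Gd H V D e τ g}
      mul_mem' := by
        rintro a b ⟨g, hg, hg'⟩ ⟨s, hs, hs'⟩
        exact ⟨g * s, mul_mem hg hs, h.gd_mul hg' hs'⟩
      one_mem' := ⟨1, one_mem K, h.gd_one⟩
      inv_mem' := by
        rintro a ⟨g, hg, hg'⟩
        exact ⟨g⁻¹, inv_mem hg, h.gd_inv hg'⟩ }
  have h1 : ∀ j π, Pi.mulSingle j π ∈ P := by
    intro j
    have h2 : P.comap (MonoidHom.mulSingle (fun _ : Fin k => Equiv.Perm (Fin n)) j) = ⊤ := by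
      apply perm_top (o := o)
      intro z hz
      obtain ⟨y, hy⟩ := h.cover Cfsg.Agent.Omega.SQ1.SymCyc.exists_pow j hz
      obtain ⟨i, hiJ, -, -, hp⟩ := c.exists_idx h hy
      have h3 : Equiv.swap (Y i) o ∈
          P.comap (MonoidHom.mulSingle (fun _ : Fin k => Equiv.Perm (Fin n)) j) := by
        refine ⟨r i * t i * (r i)⁻¹, subset_closure (Or.inr ⟨i, rfl⟩), ?_⟩
        have := xx_gd h c i
        rw [hiJ] at this
        exact this
      have h4 : Equiv.swap (X i) (Y i) ∈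
          P.comap (MonoidHom.mulSingle (fun _ : Fin k => Equiv.Perm (Fin n)) j) := by
        refine ⟨t i, subset_closure (Or.inl (c.tJ i)), ?_⟩
        have := c.tg i
        rw [hiJ] at this
        exact this
      have n1 := (c.tr i).ne h
      have h5 : Equiv.swap (X i) o =
          Equiv.swap (X i) (Y i) * Equiv.swap (Y i) o * (Equiv.swap (X i) (Y i))⁻¹ := by
        rw [← Equiv.swap_apply_apply, Equiv.swap_apply_right,
          Equiv.swap_apply_of_ne_of_ne n1.1 n1.2]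
      have h6 : Equiv.swap (X i) o ∈
          P.comap (MonoidHom.mulSingle (fun _ : Fin k => Equiv.Perm (Fin n)) j) := by
        rw [h5]
        exact mul_mem (mul_mem h4 h3) (inv_mem h4)
      rw [Equiv.swap_comm]
      rcases hp with ⟨h7, h8⟩ | ⟨h7, h8⟩
      · rw [← h7]; exact h6
      · rw [← h8]; exact h3
    intro π
    have h3 : π ∈ P.comap (MonoidHom.mulSingle (fun _ : Fin k => Equiv.Perm (Fin n)) j) := by
      rw [h2]; exact mem_top π
    exact h3
  exact Subgroup.pi_mem_of_mulSingle_mem (H := P) τ fun j => h1 j (τ j)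

theorem jj_gd (h : SyT T H Q V D o e) [Finite G] {x : G} (hx : x ∈ jj T) :
    ∃ τ, Gd H V D e τ x := by
  let S : Subgroup G :=
    { carrier := {g | ∃ τ, Gd H V D e τ g}
      mul_mem' := by
        rintro a b ⟨τ, hτ⟩ ⟨σ, hσ⟩
        exact ⟨_, h.gd_mul hτ hσ⟩
      one_mem' := ⟨1, h.gd_one⟩
      inv_mem' := by
        rintro a ⟨τ, hτ⟩
        exact ⟨_, h.gd_inv hτ⟩ }
  have h1 : jj T ≤ S := by
    rw [jj_eq]
    refine sSup_le fun A hA a ha => ?_
    obtain ⟨τ, hτ, -⟩ := h.offD A hA a ha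
    exact ⟨τ, hτ⟩
  exact h1 hx

theorem gen_sym (h : SyT T H Q V D o e) [Finite G] (c : Ch T H V D o e J X Y t r) :
    ∀ x ∈ H, ∀ j ∈ jj T, ∃ y ∈ closure ((jj T : Set G) ∪ XX t r),
      ∀ v ∈ V, x * j * x⁻¹ * v * (x * j * x⁻¹)⁻¹ = y * v * y⁻¹ := by
  intro x hx j hj
  obtain ⟨τ, hτ⟩ := jj_gd h hj
  obtain ⟨σ, τ', hxa⟩ := h.perm x hx
  have h1 := h.gd_conj hx hxa hτ
  obtain ⟨y, hy, hy'⟩ := gd_top h c _
  exact ⟨y, hy, h.gd_sim h1 hy'⟩

/-- `C_V(⟨J(T), r i t i (r i)⁻¹⟩) ≤ D` -/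
theorem cent_sym (h : SyT T H Q V D o e) [Finite G] (c : Ch T H V D o e J X Y t r) (hn : Odd n)
    {v : G} (hv : v ∈ V) (h1 : ∀ j ∈ jj T, j * v = v * j) (h2 : ∀ x ∈ XX t r, x * v = v * x) :
    v ∈ D := by
  have hK : closure ((jj T : Set G) ∪ XX t r) ≤ centralizer {v} := by
    rw [closure_le]
    rintro x (hx | hx)
    · rw [SetLike.mem_coe, mem_centralizer_iff]
      rintro _ rfl
      exact (h1 x hx).symm
    · rw [SetLike.mem_coe, mem_centralizer_iff]
      rintro _ rfl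
      exact (h2 x hx).symm
  rw [← h.ker v hv]
  have hconst : ∀ i x y, e v i x = e v i y := by
    intro i x y
    obtain ⟨g, hg, hg'⟩ := gd_top h c (Pi.mulSingle i (Equiv.swap x y))
    have h3 := mem_centralizer_iff.1 (hK hg) v rfl
    have h4 : g * v * g⁻¹ = v := by rw [← h3]; group
    have h5 := hg'.act v hv i x
    rw [h4, Equiv.Perm.one_apply, Pi.mulSingle_eq_same, Equiv.swap_apply_left] at h5
    exact h5.symm
  funext i x
  have h6 := h.even v hv i
  have h7 : ∑ y, e v i y = (n : ZMod 2) * e v i x := by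
    rw [Finset.sum_congr rfl fun y _ => hconst i y x, Finset.sum_const, Finset.card_univ,
      Fintype.card_fin, nsmul_eq_mul]
  rw [h7] at h6
  have h8 : (n : ZMod 2) = 1 := by
    obtain ⟨a, ha⟩ := hn
    rw [ha]
    push_cast
    have : (2 : ZMod 2) = 0 := by decide
    rw [this, zero_mul, zero_add]
  rw [h8, one_mul] at h6
  exact h6

/-- **(R1), even-subset modules.** -/
theorem rone_sym [Finite G] (h : SyT T H Q V ⊥ o e) (c : Ch T H V ⊥ o e J X Y t r) (hn : Odd n)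
    (hT : Syl T H) (hz : zc T ≤ V) (hW : WHyp H T V W) : ROneX H T V W (XX t r) where
  syl := hT
  VT := h.VQ.trans h.QT
  Vn := h.Vn
  Vsq := h.sq
  Vc := h.comm
  Qn := fun g hg x hx hxc => h.QT (h.Qn g hg x (h.cT x hx hxc))
  WT := hW.WT
  Wc := hW.Wc
  Wsq := hW.Wsq
  WJ := hW.WJ
  Wn := hW.Wn
  ZcV := hW.ZcV
  V1Z := hW.V1Z
  Yn := hW.Yn
  act := hW.act
  cV := fun v hv hc => mem_bot.1 (cent_sym h c hn hv
    (fun j hj => by
      have := hc 1 (one_mem H) j hj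
      simpa using this)
    (by
      rintro _ ⟨i, rfl⟩
      exact hc _ (c.rg i).mem _ (c.tJ i)))
  cZ := fun z hz' hc => mem_bot.1 (cent_sym h c hn (hz hz')
    (fun j hj => by
      have := hc 1 (one_mem H) j hj
      simpa using this)
    (by
      rintro _ ⟨i, rfl⟩
      exact hc _ (c.rg i).mem _ (c.tJ i)))
  conj := by
    rintro _ ⟨i, rfl⟩
    exact ⟨r i, (c.rg i).mem, t i, c.tJ i, rfl⟩
  splitX := fun z hz => splitX (c.main h Cfsg.Agent.Omega.SQ1.SymCyc.exists_pow) hW hz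
  gen := gen_sym h c

/-- The transpositions of `J(T)` are induced by members of `A(T)`. -/
theorem exists_AA_tr (h : SyT T H Q V D o e) [Finite G] {j : Fin k} {x y : Fin n}
    (hT : Tr T H V D e j x y) :
    ∃ A ∈ AA T, ∃ a ∈ A, Gd H V D e (Pi.mulSingle j (Equiv.swap x y)) a := by
  let TA : Fin k → Fin n → Fin n → Prop := fun j x y =>
    ∃ A ∈ AA T, ∃ a ∈ A, Gd H V D e (Pi.mulSingle j (Equiv.swap x y)) a
  have hsymm : ∀ {j x y}, TA j x y → TA j y x := by
    rintro j x y ⟨A, hA, a, ha, h1⟩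
    exact ⟨A, hA, a, ha, by rwa [Equiv.swap_comm]⟩
  have htr : ∀ {j x y}, x ≠ y → TA j x y → Tr T H V D e j x y := by
    rintro j x y hne ⟨A, hA, a, ha, h1⟩
    exact ⟨hne, a, le_jj hA ha, h1⟩
  let S : Subgroup G :=
    { carrier := {g | ∃ τ, Gd H V D e τ g ∧ ∀ j x, τ j x ≠ x → TA j x (τ j x)}
      mul_mem' := by
        rintro a b ⟨τ, hτ, hτ'⟩ ⟨σ, hσ, hσ'⟩
        refine ⟨_, h.gd_mul hτ hσ, fun j x hx => ?_⟩
        rw [Pi.mul_apply, Equiv.Perm.mul_apply] at hx ⊢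
        by_cases h1 : σ j x = x
        · rw [h1] at hx ⊢
          exact hτ' j x hx
        · have h2 := hσ' j x h1
          set y := σ j x with hy
          by_cases h3 : τ j y = y
          · rw [h3]; exact h2
          · exfalso
            have h4 := hτ' j y h3
            exact hx (Tr.disj h (htr h1 (hsymm h2)) (htr (Ne.symm h3) h4)).symm
      one_mem' := ⟨1, h.gd_one, fun j x hx => absurd rfl hx⟩
      inv_mem' := by
        rintro a ⟨τ, hτ, hτ'⟩
        refine ⟨_, h.gd_inv hτ, fun j x hx => ?_⟩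
        rw [Pi.inv_apply] at hx ⊢
        have h1 : τ j ((τ j)⁻¹ x) = x := perm_inv_self _ _
        have h2 := hτ' j ((τ j)⁻¹ x) (by rw [h1]; exact Ne.symm hx)
        rw [h1] at h2
        exact hsymm h2 }
  have hle : jj T ≤ S := by
    rw [jj_eq]
    refine sSup_le fun A hA a ha => ?_
    obtain ⟨τ, hτ, h1⟩ := h.offD A hA a ha
    refine ⟨τ, hτ, fun j x hx => ?_⟩
    obtain ⟨-, b, hb, hb'⟩ := h1 j x hx
    exact ⟨A, hA, b, hb, hb'⟩
  obtain ⟨hne, g, hg, hg'⟩ := hT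
  obtain ⟨τ, hτ, h1⟩ := hle hg
  have h2 := h.gd_unique hτ hg'
  have h3 : τ j x = y := by rw [h2, Pi.mulSingle_eq_same, Equiv.swap_apply_left]
  have h4 := h1 j x (by rw [h3]; exact hne.symm)
  rwa [h3] at h4

/-- `C_V(J(T)) = ⟨d i⟩` if `D = 1` -/
theorem fix_le (h : SyT T H Q V ⊥ o e) [Finite G] (c : Ch T H V ⊥ o e J X Y t r) {v : G}
    (hv : v ∈ V) (hJ : ∀ j ∈ jj T, j * v = v * j) :
    v ∈ closure (Set.range fun i => u H V ⊥ e (J i) (X i) (Y i)) := by
  classical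
  have hb := c.main h Cfsg.Agent.Omega.SQ1.SymCyc.exists_pow
  have := hb.finite_index
  have := Fintype.ofFinite ι
  set Z := closure (Set.range fun i => u H V ⊥ e (J i) (X i) (Y i)) with hZ
  have hZV : Z ≤ V := hb.D_le_V
  have hXY : ∀ v ∈ V, (∀ j ∈ jj T, j * v = v * j) → ∀ i, e v (J i) (X i) = e v (J i) (Y i) := by
    intro v hv hJ i
    have h1 := (c.tg i).act v hv (J i) (X i)
    have h2 : t i * v * (t i)⁻¹ = v := by rw [hJ _ (c.tJ i)]; group
    rw [h2, Equiv.Perm.one_apply, Pi.mulSingle_eq_same, Equiv.swap_apply_left] at h1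
    exact h1.symm
  have key : ∀ s : Finset ι, ∃ w ∈ Z, ∀ i ∈ s, e (v * w) (J i) (X i) = 0 := by
    intro s
    induction s using Finset.induction_on with
    | empty => exact ⟨1, one_mem _, by simp⟩
    | insert i s hi ih =>
      obtain ⟨w, hw, hws⟩ := ih
      by_cases h0 : e (v * w) (J i) (X i) = 0
      · refine ⟨w, hw, fun l hl => ?_⟩
        rcases Finset.mem_insert.1 hl with rfl | hl
        · exact h0
        · exact hws l hl
      · have h1 : e (v * w) (J i) (X i) = 1 := by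
          have : ∀ a : ZMod 2, a ≠ 0 → a = 1 := by decide
          exact this _ h0
        refine ⟨w * u H V ⊥ e (J i) (X i) (Y i), mul_mem hw (subset_closure ⟨i, rfl⟩),
          fun l hl => ?_⟩
        rw [← mul_assoc, h.mul _ (mul_mem hv (hZV hw)) _ (h.u_mem _ _ _), h.e_u]
        rcases Finset.mem_insert.1 hl with rfl | hl
        · have hne := (c.tr l).1
          simp only [Pi.add_apply, h1, E, true_and, if_true, hne, if_false, add_zero]
          decide
        · have hli : l ≠ i := fun e => hi (e ▸ hl)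
          have h2 := hws l hl
          by_cases hJl : J l = J i
          · obtain ⟨a1, a2, -, -⟩ := c.cases h hli hJl
            simp only [Pi.add_apply, h2, E, a1, a2, and_false, if_false, add_zero]
          · simp only [Pi.add_apply, h2, E, hJl, false_and, if_false, add_zero]
  obtain ⟨w, hw, hws⟩ := key Finset.univ
  have hvw : v * w ∈ V := mul_mem hv (hZV hw)
  have hwJ : ∀ j ∈ jj T, j * w = w * j := by
    intro j hj
    have hle : Z ≤ centralizer {j} := by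
      rw [hZ, closure_le]
      rintro _ ⟨i, rfl⟩
      rw [SetLike.mem_coe, mem_centralizer_iff]
      rintro _ rfl
      exact d_jj hb i _ hj
    exact mem_centralizer_iff.1 (hle hw) j rfl
  have hvwJ : ∀ j ∈ jj T, j * (v * w) = v * w * j := by
    intro j hj
    have c1 : Commute j v := hJ j hj
    have c2 : Commute j w := hwJ j hj
    exact (c1.mul_right c2).eq
  have h0 : e (v * w) = 0 := by
    have h1 : ∀ i x, x ≠ o → e (v * w) i x = 0 := by
      intro j x hx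
      obtain ⟨y, hy⟩ := h.cover Cfsg.Agent.Omega.SQ1.SymCyc.exists_pow j hx
      obtain ⟨i, rfl, -, -, ⟨rfl, rfl⟩ | ⟨rfl, rfl⟩⟩ := c.exists_idx h hy
      · exact hws i (Finset.mem_univ i)
      · rw [← hXY _ hvw hvwJ i]
        exact hws i (Finset.mem_univ i)
    funext i x
    by_cases hx : x = o
    · subst hx
      have h2 := h.even _ hvw i
      rw [Finset.sum_eq_single_of_mem x (Finset.mem_univ x) fun y _ hy => h1 i y hy] at h2
      exact h2
    · exact h1 i x hx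
  have h2 : v * w = 1 := mem_bot.1 ((h.ker _ hvw).1 h0)
  rw [eq_inv_of_mul_eq_one_left h2]
  exact inv_mem hw

/-- `V = ⟨N i⟩` if `D = 1` -/
theorem V_le_iSup (h : SyT T H Q V ⊥ o e) [Finite G] (c : Ch T H V ⊥ o e J X Y t r) :
    V ≤ ⨆ i, h.NN (J i) o (X i) (Y i) := by
  refine h.V_le o bot_le fun j a => ?_
  by_cases ha : a = o
  · subst ha
    rw [Sy.u_self]
    exact one_mem _
  · obtain ⟨y, hy⟩ := h.cover Cfsg.Agent.Omega.SQ1.SymCyc.exists_pow j ha
    obtain ⟨i, rfl, -, -, hp⟩ := c.exists_idx h hy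
    refine (le_iSup (fun i => h.NN (J i) o (X i) (Y i)) i) ?_
    rcases hp with ⟨rfl, rfl⟩ | ⟨rfl, rfl⟩
    · exact Or.inr (Or.inl rfl)
    · exact Or.inr (Or.inr (Or.inl rfl))

end syt

/-! ### The output -/

/-- The output of (R1) for even-subset modules: `V = zl T H = Ω₁(Z(O₂(H)))`, `Z_J = zj T = ⟨d i⟩`,
`O₂(H) ≤ B = bau T`. -/
structure SymOut (T H V : Subgroup G) {ι : Type} (N : ι → Subgroup G) (d t r : ι → G) : Prop where
  ne : Nonempty ι
  bau : In H T (o2 H) V N d t r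
  permR : PermR T V d r
  zj_le : zj T ≤ V
  zj_eq : zj T = closure (Set.range d)
  V_eq : V = ⨆ i, N i
  o2_le : o2 H ≤ ZN.bau T
  mem_o2 : ∀ x, x ∈ o2 H ↔ x ∈ T ∧ ∀ v ∈ V, x * v = v * x
  zc_eq : zc (o2 H) = V
  /-- the `t i` are induced by members of `A(T)` -/
  AA_t : ∀ i, ∃ A ∈ AA T, ∃ a ∈ A, Sim V a (t i)

/-- **(R1), even-subset modules.** -/
theorem symOut_of [Finite G] {T H V : Subgroup G} {k n : ℕ} {o : Fin n}
    {e : G → Fin k → Fin n → ZMod 2} {ι : Type} {J : ι → Fin k} {X Y : ι → Fin n} {t r : ι → G}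
    (hT : Syl T H) (hn : Odd n) (hz : zc T ≤ V) (h : SyT T H (o2 H) V ⊥ o e)
    (c : Ch T H V ⊥ o e J X Y t r) :
    SymOut T H V (fun i => h.NN (J i) o (X i) (Y i)) (fun i => u H V ⊥ e (J i) (X i) (Y i)) t r := by
  have hb := c.main h Cfsg.Agent.Omega.SQ1.SymCyc.exists_pow
  have hne : Nonempty ι := by
    obtain ⟨j, x, y, hT⟩ := h.exists_tr
    obtain ⟨i, -⟩ := c.ex j x y hT
    exact ⟨i⟩
  have hA : ∀ i, ∃ A ∈ AA T, ∃ a ∈ A, Sim V a (t i) := by
    intro i
    obtain ⟨A, hA, a, ha, h1⟩ := exists_AA_tr h (c.tr i)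
    exact ⟨A, hA, a, ha, h.gd_sim h1 (c.tg i)⟩
  have hVz : V ≤ zc (o2 H) := fun v hv =>
    mem_zc.2 ⟨h.VQ hv, h.sq v hv, fun x hx => h.VcQ x hx v hv⟩
  have h1 : zj T ≤ V := (rone_sym h c hn hT hz (wHyp_zjS hb)).W_le
  refine
    { ne := hne
      bau := hb
      permR := c.permR h
      zj_le := h1
      zj_eq := le_antisymm (fun z hz => fix_le h c (h1 hz) fun j hj => (mem_zj.1 hz).2.2 j hj)
        hb.D_le_Z
      V_eq := le_antisymm (V_le_iSup h c) (iSup_le fun i => h.NN_le _ _ _ _)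
      o2_le := fun x hx => mem_bau.2 ⟨h.QT hx, fun y hy => (h.VcQ x hx y (h1 hy)).symm⟩
      mem_o2 := fun x => ⟨fun hx => ⟨h.QT hx, h.VcQ x hx⟩, fun hx => h.cT x hx.1 hx.2⟩
      zc_eq := ?_
      AA_t := hA }
  refine le_antisymm ?_ hVz
  have D' := (rone_sym h c hn hT hz (wHyp_zcS hb hA)).W_le
  intro y hy
  obtain ⟨v, hv, h2⟩ := mem_splitS hb hA hy
  have h3 := D' ⟨mul_mem (hVz hv) hy, mem_centralizer_iff.2 fun j hj => h2 j hj⟩
  have e1 : y = v⁻¹ * (v * y) := by group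
  rw [e1]
  exact mul_mem (inv_mem hv) h3

theorem syT_bot [Finite G] {T H D : Subgroup G} {k m : ℕ} (hM : MinH H T) (hJ : ¬ jj T ≤ o2 H)
    (hk : 0 < k) (hm : 1 ≤ m) (N : SymK T H (zl T H) D k m) (hD : D = ⊥) :
    SyT T H (o2 H) (zl T H) ⊥ (0 : Fin (2 ^ m + 1)) N.e := by
  subst hD
  refine syT_of hM hJ N hk hm bot_le fun h hh v hv => ?_
  rw [mem_bot.1 hv, mul_one, mul_inv_cancel]
  exact one_mem _

/-- **(R1), even-subset modules**, for a minimal parabolic. -/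
theorem symOut [Finite G] {T H : Subgroup G} {k m : ℕ} (hT : Syl T H) (hP : IsMinPar T H)
    (hc : H ⊓ centralizer (o2 H : Set G) ≤ o2 H) (hJ : ¬ jj T ≤ o2 H)
    (hk : 0 < k) (hm : 1 ≤ m) (N : SymK T H (zl T H) (cv T H) k m) (hcv : cv T H = ⊥) :
    ∃ (ι : Type) (J : ι → Fin k) (X Y : ι → Fin (2 ^ m + 1)) (t r : ι → G)
      (h : SyT T H (o2 H) (zl T H) ⊥ (0 : Fin (2 ^ m + 1)) N.e),
      Ch T H (zl T H) ⊥ 0 N.e J X Y t r ∧
      SymOut T H (zl T H) (fun i => h.NN (J i) 0 (X i) (Y i))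
        (fun i => u H (zl T H) ⊥ N.e (J i) (X i) (Y i)) t r := by
  have h := syT_bot (minH_of hT hP hc) hJ hk hm N hcv
  obtain ⟨ι, J, X, Y, t, r, hc'⟩ := h.exists_ch
  refine ⟨ι, J, X, Y, t, r, h, hc', symOut_of hT ?_ (MinSimple.VModule.zc_le_zl T H) h hc'⟩
  exact (Nat.even_pow.2 ⟨even_two, by omega⟩).add_one

end Cfsg.Agent.Omega.OM
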