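import Cfsg.Agent.Mrg.Intrinsic.NZCore
import Cfsg.Agent.Mrg.Omega.LemmaK.Main


/-!
# Uniqueness of FF-blocks over a Baumann group `B` (bb OMEGA #14539 helper609, #15330 helper938: UNI')

* `Md B V Z q` : `V ≤ B` is a `B`-module of "one full root group": `Z = C_V(B)`, `[V, B] ≤ Z`, the elements of `B` not
  centralising `V` have centraliser `Z`, `|V : Z| = q`, `|B : C_B(V)| ≤ q`;
* `FB B L V Z q` : `L` is an FF-block over `B` with module `V` (natural `SL₂(q)`-module, or the nonsplit extension of a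
  trivial module by a natural module, `q ≥ 4`);
* `Fr B Q V ZJ L W Z C A q m` : the frame: natural blocks `L i` over `B` with modules `W i`, `V = ∏ W i = Ω₁Z(Q)`,
  `Q = C_B(V)`, `A i ∈ A(B)` acting only on `W i`;
* `Fr.uni` (UNI'): if `W'` is the module of any block over `B` and `[W', V] = 1` then `q' = q`, `[W', B] = Z i` and
  `W' ≤ W i * ZJ` for one `i`.
-/

set_option autoImplicit false

namespace Cfsg.Agent.Omega.OM.Uni

open Subgroup Cfsg Cfsg.Agent.PLocal.ThompsonJ Cfsg.Agent.ZN Cfsg.Agent.ZN.ChoiceBase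
open Cfsg.Agent.PLocal.ElemAbSup
open Cfsg.Agent.Omega.SQ1.Bau (mem_sup_comm card_sup_comm elem_comm elem_sq)
open Cfsg.Agent.Omega.OM.BlockUniq
open scoped Pointwise commutatorElement

universe u

variable {G : Type u} [Group G]

/-! ### Modules over `B` -/

/-- `V` is a `B`-module with one full root group: `Z = C_V(B) ≥ [V, B]`, every element of `B` not centralising `V` has
centraliser `Z` on `V`, `|V : Z| = q`, `|B : C_B(V)| ≤ q`. -/
structure Md (B V Z : Subgroup G) (q : ℕ) : Prop where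
  VB : V ≤ B
  el : IsElementaryAbelian 2 V
  ZV : Z ≤ V
  cZ : ∀ b ∈ B, ∀ z ∈ Z, b * z = z * b
  com : ∀ b ∈ B, ∀ v ∈ V, b * v * b⁻¹ * v⁻¹ ∈ Z
  free : ∀ b ∈ B, ∀ v ∈ V, v ∉ Z → b * v = v * b → ∀ u ∈ V, b * u = u * b
  ne : ∃ b ∈ B, ∃ v ∈ V, b * v ≠ v * b
  card : Nat.card V = Nat.card Z * q
  cardB : Nat.card B ≤ q * Nat.card ↥(B ⊓ centralizer (V : Set G))
  one : 1 < q

/-- `L` is an FF-block over `B` with module `V`, `Z = C_V(B)`. -/
structure FB (B L V Z : Subgroup G) (q : ℕ) : Prop extends Md B V Z q where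
  BL : B ≤ L
  nV : ∀ l ∈ L, ∀ v ∈ V, l * v * l⁻¹ ∈ V
  gen : L ≤ ⨆ x : L, cj (x : G) B
  /-- `B` is a Sylow 2-subgroup of `L` -/
  syl : ∀ T : Subgroup G, B ≤ T → T ≤ L → IsPGroup 2 T → T = B
  /-- `[Ω₁Z(B), L] ≤ V` -/
  act : ∀ l ∈ L, ∀ z ∈ zc B, l * z * l⁻¹ * z⁻¹ ∈ V
  /-- `V = [V, L]` -/
  sup : ∃ l ∈ L, V ≤ ⁅V, B⁆ ⊔ cj l ⁅V, B⁆
  tri : ∀ l ∈ L, cj l Z = Z ∨ cj l Z ⊓ Z ≤ centralizer (L : Set G)
  tor : ∀ z ∈ Z, z ∉ centralizer (L : Set G) → ∀ z' ∈ Z, z' ∉ centralizer (L : Set G) →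
    ∃ h ∈ L, h ∈ normalizer (B : Set G) ∧ h * z * h⁻¹ * z'⁻¹ ∈ centralizer (L : Set G)
  /-- `C_B(V)` is normal in `L` -/
  cor : ∀ l ∈ L, ∀ x ∈ B, (∀ v ∈ V, x * v = v * x) → l * x * l⁻¹ ∈ B

theorem comm_cj {g x y : G} (h : (g⁻¹ * x * g) * (g⁻¹ * y * g) = (g⁻¹ * y * g) * (g⁻¹ * x * g)) : x * y = y * x := by
  have h1 := congrArg (fun t => g * t * g⁻¹) h
  simpa [mul_assoc] using h1

theorem cj_comm {g x y : G} (h : x * y = y * x) : (g⁻¹ * x * g) * (g⁻¹ * y * g) = (g⁻¹ * y * g) * (g⁻¹ * x * g) := by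
  have h1 := congrArg (fun t => g⁻¹ * t * g) h
  simpa [mul_assoc] using h1

namespace Md

variable {B V Z : Subgroup G} {q : ℕ}

theorem conj (h : Md B V Z q) (g : G) : Md (cj g B) (cj g V) (cj g Z) q where
  VB := cj_mono g h.VB
  el := isElementaryAbelian_cj g h.el
  ZV := cj_mono g h.ZV
  cZ := fun b hb z hz => comm_cj (h.cZ _ (mem_cj.1 hb) _ (mem_cj.1 hz))
  com := fun b hb v hv => by
    rw [mem_cj] at hb hv ⊢
    have := h.com _ hb _ hv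
    have e : g⁻¹ * (b * v * b⁻¹ * v⁻¹) * g = (g⁻¹ * b * g) * (g⁻¹ * v * g) * (g⁻¹ * b * g)⁻¹ * (g⁻¹ * v * g)⁻¹ := by
      group
    rwa [e]
  free := fun b hb v hv hvZ hbv u hu => by
    rw [mem_cj] at hb hv hvZ hu
    exact comm_cj (h.free _ hb _ hv hvZ (cj_comm hbv) _ hu)
  ne := by
    obtain ⟨b, hb, v, hv, hne⟩ := h.ne
    refine ⟨g * b * g⁻¹, ⟨b, hb, rfl⟩, g * v * g⁻¹, ⟨v, hv, rfl⟩, fun e => hne ?_⟩
    have h1 := congrArg (fun t => g⁻¹ * t * g) e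
    simpa [mul_assoc] using h1
  card := by rw [card_cj, card_cj]; exact h.card
  cardB := by
    rw [← cj_centralizer, ← cj_inf, card_cj, card_cj]
    exact h.cardB
  one := h.one

/-- `B` normalises `V`. -/
theorem BV (h : Md B V Z q) {b : G} (hb : b ∈ B) {v : G} (hv : v ∈ V) : b * v * b⁻¹ ∈ V := by
  have h1 := mul_mem (h.ZV (h.com b hb v hv)) hv
  have e : b * v * b⁻¹ * v⁻¹ * v = b * v * b⁻¹ := by group
  rwa [e] at h1

theorem comm (h : Md B V Z q) {v w : G} (hv : v ∈ V) (hw : w ∈ V) : v * w = w * v := elem_comm h.el v hv w hw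

/-- `Z = C_V(b)` for every `b` acting nontrivially. -/
theorem mem_Z (h : Md B V Z q) {b : G} (hb : b ∈ B) (hne : ¬ ∀ u ∈ V, b * u = u * b) {v : G} (hv : v ∈ V)
    (hc : b * v = v * b) : v ∈ Z := by
  by_contra hvZ
  exact hne (h.free b hb v hv hvZ hc)

theorem mem_Z_iff (h : Md B V Z q) {v : G} : v ∈ Z ↔ v ∈ V ∧ ∀ b ∈ B, b * v = v * b := by
  constructor
  · exact fun hv => ⟨h.ZV hv, fun b hb => h.cZ b hb v hv⟩
  · rintro ⟨hv, hc⟩
    obtain ⟨b, hb, u, hu, hne⟩ := h.ne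
    exact h.mem_Z hb (fun h1 => hne (h1 u hu)) hv (hc b hb)

theorem comm_le (h : Md B V Z q) {X : Subgroup G} (hX : X ≤ B) : ⁅V, X⁆ ≤ Z := by
  rw [Subgroup.commutator_le]
  intro v hv x hx
  have h1 := h.com x (hX hx) v hv
  have e : ⁅v, x⁆ = (x * v * x⁻¹ * v⁻¹)⁻¹ := by rw [commutatorElement_def]; group
  rw [e]
  exact inv_mem h1

/-- the elements `[b, v]`, `b ∈ X`, form a group isomorphic to `X / C_X(V)` -/
theorem relIndex_comm (h : Md B V Z q) [Finite G] {X : Subgroup G} (hX : X ≤ B) {v : G} (hv : v ∈ V) (hvZ : v ∉ Z) :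
    ∃ R : Subgroup G, R ≤ Z ∧ (∀ r ∈ R, ∃ x ∈ X, r = x * v * x⁻¹ * v⁻¹) ∧ (∀ x ∈ X, x * v * x⁻¹ * v⁻¹ ∈ R) ∧
      Nat.card R * Nat.card ↥(X ⊓ centralizer (V : Set G)) = Nat.card X := by
  classical
  let f : X →* G :=
    { toFun := fun x => (x : G) * v * (x : G)⁻¹ * v⁻¹
      map_one' := by simp
      map_mul' := by
        intro x y
        have h1 := h.com y (hX y.2) v hv
        have h2 := h.cZ x (hX x.2) _ h1
        have h3 := h.comm (h.ZV (h.com x (hX x.2) v hv)) (h.ZV h1)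
        show (x : G) * y * v * ((x : G) * y)⁻¹ * v⁻¹ = (x : G) * v * (x : G)⁻¹ * v⁻¹ * ((y : G) * v * (y : G)⁻¹ * v⁻¹)
        have e : (x : G) * y * v * ((x : G) * y)⁻¹ * v⁻¹ =
          (x * ((y : G) * v * (y : G)⁻¹ * v⁻¹) * (x : G)⁻¹) * ((x : G) * v * (x : G)⁻¹ * v⁻¹) := by group
        rw [e, h2, h3]
        group }
  have hf : ∀ x : X, f x = (x : G) * v * (x : G)⁻¹ * v⁻¹ := fun x => rfl
  have hker : ∀ x : X, x ∈ f.ker ↔ (x : G) ∈ X ⊓ centralizer (V : Set G) := by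
    intro x
    rw [MonoidHom.mem_ker, hf, mem_inf, mem_centralizer_iff]
    constructor
    · intro h1
      refine ⟨x.2, fun u hu => ?_⟩
      have h2 : (x : G) * v = v * x := by
        have := mul_inv_eq_one.1 h1
        exact mul_inv_eq_iff_eq_mul.1 this
      exact (h.free x (hX x.2) v hv hvZ h2 u hu).symm
    · rintro ⟨-, h1⟩
      have h2 := h1 v hv
      rw [← h2]; group
  refine ⟨f.range, ?_, ?_, ?_, ?_⟩
  · rintro _ ⟨x, rfl⟩
    exact h.com x (hX x.2) v hv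
  · rintro _ ⟨x, rfl⟩
    exact ⟨x, x.2, rfl⟩
  · intro x hx
    exact ⟨⟨x, hx⟩, rfl⟩
  · have h1 : Nat.card f.ker = Nat.card ↥(X ⊓ centralizer (V : Set G)) := by
      refine Nat.card_congr
        { toFun := fun x => ⟨x.1, (hker x.1).1 x.2⟩
          invFun := fun x => ⟨⟨x.1, x.2.1⟩, (hker _).2 x.2⟩
          left_inv := fun x => rfl
          right_inv := fun x => rfl }
    have h2 : Nat.card f.range = f.ker.index := by
      rw [Subgroup.index_ker]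
    rw [← h1, h2, mul_comm]
    exact Subgroup.card_mul_index _

/-- `|X : C_X(V)| ≤ q` for `X ≤ B`. -/
theorem card_le (h : Md B V Z q) [Finite G] {X : Subgroup G} (hX : X ≤ B) :
    Nat.card X ≤ q * Nat.card ↥(X ⊓ centralizer (V : Set G)) := by
  obtain ⟨b, hb, v, hv, hne⟩ := h.ne
  have hvZ : v ∉ Z := fun hz => hne (h.cZ b hb v hz)
  obtain ⟨R, hR1, hR2, hR3, hR4⟩ := h.relIndex_comm hX hv hvZ
  obtain ⟨S, hS1, hS2, hS3, hS4⟩ := h.relIndex_comm le_rfl hv hvZ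
  have h1 : R ≤ S := by
    intro r hr
    obtain ⟨x, hx, rfl⟩ := hR2 r hr
    exact hS3 x (hX hx)
  have h2 := Subgroup.card_le_of_le h1
  have h3 : Nat.card S ≤ q := by
    have h4 := h.cardB
    rw [← hS4] at h4
    exact Nat.le_of_mul_le_mul_right h4 Nat.card_pos
  rw [← hR4]
  exact Nat.mul_le_mul_right _ (h2.trans h3)

/-- A subgroup `X ≤ B` with `|X : C_X(V)| ≥ q` satisfies `[V, X] = [V, B]`. -/
theorem comm_eq (h : Md B V Z q) [Finite G] {X : Subgroup G} (hX : X ≤ B)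
    (hq : q * Nat.card ↥(X ⊓ centralizer (V : Set G)) ≤ Nat.card X) : ⁅V, X⁆ = ⁅V, B⁆ := by
  apply le_antisymm (commutator_mono le_rfl hX)
  rw [Subgroup.commutator_le]
  intro v hv b hb
  by_cases hvZ : v ∈ Z
  · have : ⁅v, b⁆ = 1 := by
      rw [commutatorElement_eq_one_iff_mul_comm]
      exact (h.cZ b hb v hvZ).symm
    rw [this]; exact one_mem _
  obtain ⟨R, hR1, hR2, hR3, hR4⟩ := h.relIndex_comm hX hv hvZ
  obtain ⟨S, hS1, hS2, hS3, hS4⟩ := h.relIndex_comm le_rfl hv hvZ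
  have h1 : R ≤ S := by
    intro r hr
    obtain ⟨x, hx, rfl⟩ := hR2 r hr
    exact hS3 x (hX hx)
  have h3 : Nat.card S ≤ q := by
    have h4 := h.cardB
    rw [← hS4] at h4
    exact Nat.le_of_mul_le_mul_right h4 Nat.card_pos
  have h5 : q ≤ Nat.card R := by
    rw [← hR4] at hq
    exact Nat.le_of_mul_le_mul_right hq Nat.card_pos
  have h6 : R = S := Subgroup.eq_of_le_of_card_ge h1 (h3.trans h5)
  have h7 := hS3 b hb
  rw [← h6] at h7
  obtain ⟨x, hx, e⟩ := hR2 _ h7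
  have e1 : ⁅v, b⁆ = ⁅v, x⁆ := by
    rw [commutatorElement_def, commutatorElement_def]
    have := congrArg (fun t => t⁻¹) e
    simpa [mul_assoc] using this
  rw [e1]
  exact commutator_mem_commutator hv hx

/-- An elementary abelian subgroup of maximal order acts trivially or as the full group. -/
theorem full (h : Md B V Z q) [Finite G] {m : ℕ} (hm : Mx G m) {E : Subgroup G} (hE : E ≤ B)
    (hEe : IsElementaryAbelian 2 E) (hEm : Nat.card E = m) :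
    (∀ e ∈ E, ∀ v ∈ V, e * v = v * e) ∨ (⁅V, E⁆ = ⁅V, B⁆ ∧ V ⊓ centralizer (E : Set G) = Z ∧
      q * Nat.card ↥(E ⊓ centralizer (V : Set G)) = Nat.card E ∧
      Nat.card E * Nat.card ↥(V ⊓ centralizer (E : Set G)) ≤
        Nat.card V * Nat.card ↥(E ⊓ centralizer (V : Set G))) := by
  by_cases h0 : ∀ e ∈ E, ∀ v ∈ V, e * v = v * e
  · exact Or.inl h0
  right
  push Not at h0
  obtain ⟨e, he, v, hv, hne⟩ := h0
  have hCV : V ⊓ centralizer (E : Set G) = Z := by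
    apply le_antisymm
    · rintro u ⟨hu, huc⟩
      refine h.mem_Z (hE he) (fun h1 => hne (h1 v hv)) hu ?_
      exact mem_centralizer_iff.1 huc e he
    · exact fun z hz => ⟨h.ZV hz, mem_centralizer_iff.2 fun x hx => h.cZ x (hE hx) z hz⟩
  -- `|E| ≥ |V C_E(V)|`
  have hcomm : ∀ f ∈ E ⊓ centralizer (V : Set G), ∀ u ∈ V, f * u = u * f := fun f hf u hu =>
    (mem_centralizer_iff.1 hf.2 u hu).symm
  have h1 := card_sup_comm hcomm
  have h2 := hm _ (isElementaryAbelian_sup (isElementaryAbelian_mono hEe inf_le_left) h.el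
    (elem_le_centralizer hcomm))
  have h3 : Nat.card ↥((E ⊓ centralizer (V : Set G)) ⊓ V : Subgroup G) ≤ Nat.card Z := by
    refine Subgroup.card_le_of_le ?_
    rintro u ⟨⟨hu1, -⟩, hu2⟩
    rw [← hCV]
    exact ⟨hu2, mem_centralizer_iff.2 fun x hx => elem_comm hEe x hx u hu1⟩
  have h4 : q * Nat.card ↥(E ⊓ centralizer (V : Set G)) ≤ Nat.card E := by
    have hp : 0 < Nat.card Z := Nat.card_pos
    refine Nat.le_of_mul_le_mul_right ?_ hp
    calc q * Nat.card ↥(E ⊓ centralizer (V : Set G)) * Nat.card Z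
        = Nat.card ↥(E ⊓ centralizer (V : Set G)) * Nat.card V := by rw [h.card]; ring
      _ = Nat.card ↥((E ⊓ centralizer (V : Set G)) ⊔ V : Subgroup G) *
          Nat.card ↥((E ⊓ centralizer (V : Set G)) ⊓ V : Subgroup G) := h1.symm
      _ ≤ m * Nat.card Z := Nat.mul_le_mul h2 h3
      _ = Nat.card E * Nat.card Z := by rw [hEm]
  have h5 := h.card_le hE
  refine ⟨h.comm_eq hE h4, hCV, le_antisymm h4 h5, ?_⟩
  rw [hCV, h.card]
  calc Nat.card E * Nat.card Z ≤ q * Nat.card ↥(E ⊓ centralizer (V : Set G)) * Nat.card Z :=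
        Nat.mul_le_mul_right _ h5
    _ = _ := by ring

end Md

/-! ### Blocks -/

namespace FB

variable {B L V Z : Subgroup G} {q : ℕ}

theorem nV' (h : FB B L V Z q) {l : G} (hl : l ∈ L) {v : G} (hv : v ∈ V) : l⁻¹ * v * l ∈ V := by
  have := h.nV l⁻¹ (inv_mem hl) v hv
  rwa [inv_inv] at this

theorem conj (h : FB B L V Z q) (g : G) : FB (cj g B) (cj g L) (cj g V) (cj g Z) q where
  toMd := h.toMd.conj g
  BL := cj_mono g h.BL
  nV := fun l hl v hv => by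
    rw [mem_cj] at hl hv ⊢
    have := h.nV _ hl _ hv
    have e : g⁻¹ * (l * v * l⁻¹) * g = (g⁻¹ * l * g) * (g⁻¹ * v * g) * (g⁻¹ * l * g)⁻¹ := by group
    rwa [e]
  gen := by
    refine (cj_mono g h.gen).trans ?_
    have h1 : cj g (⨆ x : L, cj (x : G) B) = ⨆ x : L, cj g (cj (x : G) B) := Subgroup.map_iSup _ _
    rw [h1]
    refine iSup_le fun x => ?_
    have hx : g * x * g⁻¹ ∈ cj g L := ⟨x, x.2, rfl⟩
    refine le_trans ?_ (le_iSup (fun y : (cj g L : Subgroup G) => cj (y : G) (cj g B)) ⟨g * x * g⁻¹, hx⟩)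
    change cj g (cj (x : G) B) ≤ cj (g * x * g⁻¹) (cj g B)
    rw [cj_cj, cj_cj]
    have : g * (x : G) * g⁻¹ * g = g * x := by group
    rw [this]
  syl := by
    intro T h1 h2 h3
    have h4 := h.syl (cj g⁻¹ T) (cj_le_iff.1 h1) (by
      have := cj_mono g⁻¹ h2
      rwa [cj_inv_cj] at this) (isPGroup_cj _ h3)
    rw [← h4, cj_cj_inv]
  act := fun l hl z hz => by
    have hz' : zc (cj g B) = cj g (zc B) := LemmaK.Main.zc_cj g B
    rw [hz', mem_cj] at hz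
    rw [mem_cj] at hl ⊢
    have := h.act _ hl _ hz
    have e : g⁻¹ * (l * z * l⁻¹ * z⁻¹) * g = (g⁻¹ * l * g) * (g⁻¹ * z * g) * (g⁻¹ * l * g)⁻¹ * (g⁻¹ * z * g)⁻¹ := by
      group
    rwa [e]
  sup := by
    obtain ⟨l, hl, h1⟩ := h.sup
    refine ⟨g * l * g⁻¹, ⟨l, hl, rfl⟩, ?_⟩
    have h2 := cj_mono g h1
    have h3 : cj g (⁅V, B⁆ ⊔ cj l ⁅V, B⁆) = cj g ⁅V, B⁆ ⊔ cj g (cj l ⁅V, B⁆) := Subgroup.map_sup _ _ _
    have h4 : cj g ⁅V, B⁆ = ⁅cj g V, cj g B⁆ := Subgroup.map_commutator _ _ _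
    rw [h3] at h2
    have h5 : cj (g * l * g⁻¹) ⁅cj g V, cj g B⁆ = cj g (cj l ⁅V, B⁆) := by
      rw [← h4, cj_cj, cj_cj]
      have : g * l * g⁻¹ * g = g * l := by group
      rw [this]
    rw [h5, ← h4]
    exact h2
  tri := fun l hl => by
    rw [mem_cj] at hl
    have e : cj l (cj g Z) = cj g (cj (g⁻¹ * l * g) Z) := by
      rw [cj_cj, cj_cj]
      have : g * (g⁻¹ * l * g) = l * g := by group
      rw [this]
    rcases h.tri _ hl with h1 | h1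
    · left
      rw [e, h1]
    · right
      rw [e, ← cj_inf, ← cj_centralizer]
      exact cj_mono g h1
  tor := fun z hz hzc z' hz' hzc' => by
    rw [mem_cj] at hz hz'
    rw [← cj_centralizer, mem_cj] at hzc hzc'
    obtain ⟨x, hx, hxn, hxc⟩ := h.tor _ hz hzc _ hz' hzc'
    refine ⟨g * x * g⁻¹, ⟨x, hx, rfl⟩, ?_, ?_⟩
    · rw [← cj_normalizer]
      exact ⟨x, hxn, rfl⟩
    · rw [← cj_centralizer, mem_cj]
      have e : g⁻¹ * (g * x * g⁻¹ * z * (g * x * g⁻¹)⁻¹ * z'⁻¹) * g =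
        x * (g⁻¹ * z * g) * x⁻¹ * (g⁻¹ * z' * g)⁻¹ := by group
      rwa [e]
  cor := fun l hl x hx hc => by
    rw [mem_cj] at hl hx ⊢
    have := h.cor _ hl _ hx fun v hv => by
      have := cj_comm (g := g) (hc (g * v * g⁻¹) ⟨v, hv, rfl⟩)
      have e : g⁻¹ * (g * v * g⁻¹) * g = v := by group
      rwa [e] at this
    have e : g⁻¹ * (l * x * l⁻¹) * g = (g⁻¹ * l * g) * (g⁻¹ * x * g) * (g⁻¹ * l * g)⁻¹ := by group
    rwa [e]

end FB

/-! ### The frame -/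

/-- The frame: natural blocks `L i` over `B` with modules `W i`; `V = W i × C i = Ω₁Z(Q)`, `Q = C_B(V)`,
`ZJ = C_V(B)`; `A i ∈ A(B)` acts only on `W i`. -/
structure Fr {ι : Type*} (B Q V ZJ : Subgroup G) (L W Z C A : ι → Subgroup G) (q m : ℕ) : Prop where
  max : Mx G m
  blk : ∀ i, FB B (L i) (W i) (Z i) q
  cardZ : ∀ i, Nat.card (Z i) = q
  QB : Q ≤ B
  VQ : V ≤ Q
  el : IsElementaryAbelian 2 V
  mem_Q : ∀ x ∈ B, (x ∈ Q ↔ ∀ v ∈ V, x * v = v * x)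
  zcQ : ∀ x ∈ Q, x ^ 2 = 1 → (∀ y ∈ Q, x * y = y * x) → x ∈ V
  mem_ZJ : ∀ v, v ∈ ZJ ↔ v ∈ V ∧ ∀ b ∈ B, b * v = v * b
  LV : ∀ i, ∀ l ∈ L i, ∀ v ∈ V, l * v * l⁻¹ ∈ V
  LQ : ∀ i, ∀ l ∈ L i, ∀ x ∈ Q, l * x * l⁻¹ ∈ Q
  WV : ∀ i, W i ≤ V
  CV : ∀ i, C i ≤ V
  WC : ∀ i, ∀ v ∈ V, ∃ w ∈ W i, ∃ c ∈ C i, v = w * c
  dir : ∀ i, W i ⊓ C i = ⊥
  C0 : ∀ x ∈ V, (∀ i, x ∈ C i) → x = 1
  WjC : ∀ i j, i ≠ j → W j ≤ C i
  BC : ∀ i, ∀ b ∈ B, ∀ c ∈ C i, b * c * b⁻¹ ∈ C i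
  LC : ∀ i, ∀ l ∈ L i, ∀ z ∈ ZJ, z ∈ C i → l * z = z * l
  AB : ∀ i, A i ≤ B
  Ael : ∀ i, IsElementaryAbelian 2 (A i)
  Am : ∀ i, Nat.card (A i) = m
  Ane : ∀ i, ¬ ∀ a ∈ A i, ∀ v ∈ W i, a * v = v * a
  AC : ∀ i, ∀ a ∈ A i, ∀ c ∈ C i, a * c = c * a

namespace Fr

variable {ι : Type*} {B Q V ZJ : Subgroup G} {L W Z C A : ι → Subgroup G} {q m : ℕ}

theorem Vc (h : Fr B Q V ZJ L W Z C A q m) {v w : G} (hv : v ∈ V) (hw : w ∈ V) : v * w = w * v :=
  elem_comm h.el v hv w hw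

theorem cQ (h : Fr B Q V ZJ L W Z C A q m) {x : G} (hx : x ∈ Q) {v : G} (hv : v ∈ V) : x * v = v * x :=
  (h.mem_Q x (h.QB hx)).1 hx v hv

theorem ZV (h : Fr B Q V ZJ L W Z C A q m) (i : ι) : Z i ≤ V := (h.blk i).ZV.trans (h.WV i)

theorem ZJV (h : Fr B Q V ZJ L W Z C A q m) : ZJ ≤ V := fun z hz => ((h.mem_ZJ z).1 hz).1

theorem Z_le (h : Fr B Q V ZJ L W Z C A q m) (i : ι) : Z i ≤ ZJ := fun z hz =>
  (h.mem_ZJ z).2 ⟨h.ZV i hz, fun b hb => (h.blk i).cZ b hb z hz⟩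

theorem uniq (h : Fr B Q V ZJ L W Z C A q m) {i : ι} {w w' c c' : G} (hw : w ∈ W i) (hw' : w' ∈ W i)
    (hc : c ∈ C i) (hc' : c' ∈ C i) (e : w * c = w' * c') : w = w' ∧ c = c' := by
  have e1 : w'⁻¹ * w = c' * c⁻¹ := by
    calc w'⁻¹ * w = w'⁻¹ * (w * c) * c⁻¹ := by group
      _ = w'⁻¹ * (w' * c') * c⁻¹ := by rw [e]
      _ = c' * c⁻¹ := by group
  have h1 : w'⁻¹ * w ∈ W i ⊓ C i :=
    mem_inf.2 ⟨mul_mem (inv_mem hw') hw, by rw [e1]; exact mul_mem hc' (inv_mem hc)⟩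
  rw [h.dir i, mem_bot] at h1
  have h2 : w = w' := (inv_mul_eq_one.1 h1).symm
  subst h2
  exact ⟨rfl, mul_left_cancel e⟩

/-- the components of an element of `ZJ` lie in `Z i` and `ZJ` -/
theorem split_ZJ (h : Fr B Q V ZJ L W Z C A q m) (i : ι) {z : G} (hz : z ∈ ZJ) :
    ∃ w ∈ Z i, ∃ c ∈ C i, c ∈ ZJ ∧ z = w * c := by
  obtain ⟨hzV, hzB⟩ := (h.mem_ZJ z).1 hz
  obtain ⟨w, hw, c, hc, e⟩ := h.WC i z hzV
  have key : ∀ b ∈ B, b * w * b⁻¹ = w ∧ b * c * b⁻¹ = c := by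
    intro b hb
    refine h.uniq ((h.blk i).BV hb hw) hw (h.BC i b hb c hc) hc ?_
    have h1 := hzB b hb
    rw [← e]
    calc b * w * b⁻¹ * (b * c * b⁻¹) = b * (w * c) * b⁻¹ := by group
      _ = b * z * b⁻¹ := by rw [← e]
      _ = z := by rw [h1]; group
  refine ⟨w, (h.blk i).mem_Z_iff.2 ⟨hw, fun b hb => ?_⟩, c, hc, (h.mem_ZJ c).2 ⟨h.CV i hc, fun b hb => ?_⟩, e⟩
  · exact mul_inv_eq_iff_eq_mul.1 (key b hb).1
  · exact mul_inv_eq_iff_eq_mul.1 (key b hb).2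

/-- `Ω₁Z(B) = ZJ`. -/
theorem zcB (h : Fr B Q V ZJ L W Z C A q m) : zc B = ZJ := by
  ext z
  rw [ChoiceBase.mem_zc, h.mem_ZJ]
  constructor
  · rintro ⟨h1, h2, h3⟩
    have h4 : z ∈ Q := (h.mem_Q z h1).2 fun v hv => (h3 v (h.QB (h.VQ hv))).symm
    exact ⟨h.zcQ z h4 h2 fun y hy => (h3 y (h.QB hy)).symm, fun b hb => h3 b hb⟩
  · rintro ⟨h1, h2⟩
    exact ⟨h.QB (h.VQ h1), elem_sq h.el z h1, h2⟩

/-- the natural module: conjugates of `Z i` are equal or meet trivially -/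
theorem tri' (h : Fr B Q V ZJ L W Z C A q m) [Finite G] {i : ι} {l : G} (hl : l ∈ L i) (hne : cj l (Z i) ≠ Z i) :
    cj l (Z i) ⊓ Z i = ⊥ := by
  have hb := h.blk i
  rcases hb.tri l hl with h1 | h1
  · exact absurd h1 hne
  -- `X = C_W(L)` is trivial
  obtain ⟨k, hk, hs⟩ := hb.sup
  set D := Z i ⊓ centralizer (L i : Set G) with hD
  have h2 : ⁅W i, B⁆ ≤ Z i := hb.comm_le le_rfl
  have hcjW : cj k (Z i) ≤ W i := by
    rintro _ ⟨z, hz, rfl⟩
    exact hb.nV k hk z (hb.ZV hz)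
  have hs' : W i = Z i ⊔ cj k (Z i) :=
    le_antisymm (hs.trans (sup_le (h2.trans le_sup_left) ((cj_mono k h2).trans le_sup_right)))
      (sup_le hb.ZV hcjW)
  have hcc := card_sup_comm (A := Z i) (B := cj k (Z i)) fun a ha b hb' => hb.comm (hb.ZV ha) (hcjW hb')
  rw [← hs', hb.card, card_cj] at hcc
  have hDk : D ≤ Z i ⊓ cj k (Z i) := by
    intro z hz0
    obtain ⟨hz, hzc⟩ := mem_inf.1 hz0
    refine mem_inf.2 ⟨hz, ?_⟩
    rw [mem_cj]
    have h3 := mem_centralizer_iff.1 hzc k hk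
    have h4 : k⁻¹ * z * k = z := by
      calc k⁻¹ * z * k = k⁻¹ * (z * k) := by group
        _ = k⁻¹ * (k * z) := by rw [h3]
        _ = z := by group
    rwa [h4]
  have h3 : Nat.card ↥(Z i ⊓ cj k (Z i)) = 1 := by
    have hq := h.cardZ i
    rw [hq] at hcc
    have hq0 : 0 < q * q := Nat.mul_pos (by have := hb.one; omega) (by have := hb.one; omega)
    exact Nat.eq_of_mul_eq_mul_left hq0 (by rw [hcc, mul_one])
  have h4 : Z i ⊓ cj k (Z i) = ⊥ := by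
    rw [← Subgroup.card_eq_one]; exact h3
  rw [eq_bot_iff]
  intro x hx
  have : x ∈ D := ⟨hx.2, h1 hx⟩
  have h5 := hDk this
  rwa [h4] at h5

theorem exists_mv (h : Fr B Q V ZJ L W Z C A q m) [Finite G] (i : ι) : ∃ l ∈ L i, cj l (Z i) ≠ Z i := by
  have hb := h.blk i
  obtain ⟨k, hk, hs⟩ := hb.sup
  refine ⟨k, hk, fun e => ?_⟩
  have h2 : ⁅W i, B⁆ ≤ Z i := hb.comm_le le_rfl
  have h3 : W i ≤ Z i := hs.trans (sup_le h2 ((cj_mono k h2).trans e.le))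
  have h4 := Subgroup.card_le_of_le h3
  rw [hb.card] at h4
  have h5 : 0 < Nat.card (Z i) := Nat.card_pos
  have h6 := hb.one
  nlinarith

/-- `ZJ^l ∩ Z i = 1`. -/
theorem cj_ZJ (h : Fr B Q V ZJ L W Z C A q m) [Finite G] {i : ι} {l : G} (hl : l ∈ L i) (hne : cj l (Z i) ≠ Z i) :
    cj l ZJ ⊓ Z i = ⊥ := by
  rw [eq_bot_iff]
  intro x hx0
  obtain ⟨hx1, hx2⟩ := mem_inf.1 hx0
  rw [mem_cj] at hx1
  obtain ⟨w, hw, c, hc, hcJ, e⟩ := h.split_ZJ i hx1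
  have hlc := h.LC i l hl c hcJ hc
  have e1 : x = (l * w * l⁻¹) * c := by
    calc x = l * (l⁻¹ * x * l) * l⁻¹ := by group
      _ = l * (w * c) * l⁻¹ := by rw [e]
      _ = (l * w * l⁻¹) * (l * c * l⁻¹) := by group
      _ = (l * w * l⁻¹) * c := by rw [hlc]; group
  have h1 := h.uniq (i := i) (w := x) (w' := l * w * l⁻¹) (c := 1) (c' := c) ((h.blk i).ZV hx2)
    ((h.blk i).nV l hl w ((h.blk i).ZV hw)) (one_mem _) hc (by rw [mul_one]; exact e1)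
  have h2 : x ∈ cj l (Z i) ⊓ Z i := ⟨by rw [h1.1]; exact ⟨w, hw, rfl⟩, hx2⟩
  rwa [h.tri' hl hne] at h2

/-- `A i` acts as the full root group on `W i`. -/
theorem A_full (h : Fr B Q V ZJ L W Z C A q m) [Finite G] (i : ι) :
    ⁅W i, A i⁆ = ⁅W i, B⁆ ∧ W i ⊓ centralizer (A i : Set G) = Z i ∧
      q * Nat.card ↥(A i ⊓ centralizer (W i : Set G)) = Nat.card (A i) := by
  rcases (h.blk i).full h.max (h.AB i) (h.Ael i) (h.Am i) with h1 | ⟨h1, h2, h3, -⟩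
  · exact absurd h1 (h.Ane i)
  · exact ⟨h1, h2, h3⟩

/-- an element of `A i` centralising `W i` lies in `Q` -/
theorem A_Q (h : Fr B Q V ZJ L W Z C A q m) {i : ι} {a : G} (ha : a ∈ A i) (hc : ∀ v ∈ W i, a * v = v * a) : a ∈ Q := by
  refine (h.mem_Q a (h.AB i ha)).2 fun v hv => ?_
  obtain ⟨w, hw, c, hc', rfl⟩ := h.WC i v hv
  have c1 : Commute a w := hc w hw
  have c2 : Commute a c := h.AC i a ha c hc'
  exact (c1.mul_right c2).eq

theorem A_inf_Q (h : Fr B Q V ZJ L W Z C A q m) (i : ι) : A i ⊓ Q = A i ⊓ centralizer (W i : Set G) := by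
  apply le_antisymm
  · rintro a ⟨ha, haQ⟩
    exact ⟨ha, mem_centralizer_iff.2 fun w hw => (h.cQ haQ (h.WV i hw)).symm⟩
  · rintro a ⟨ha, hac⟩
    exact ⟨ha, h.A_Q ha fun v hv => (mem_centralizer_iff.1 hac v hv).symm⟩

/-- `C_V(A i) = Z i * C i`. -/
theorem CVA (h : Fr B Q V ZJ L W Z C A q m) [Finite G] (i : ι) : V ⊓ centralizer (A i : Set G) = Z i ⊔ C i := by
  apply le_antisymm
  · rintro v ⟨hv, hvc⟩
    obtain ⟨w, hw, c, hc, rfl⟩ := h.WC i v hv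
    refine mul_mem (mem_sup_left ?_) (mem_sup_right hc)
    rw [← (h.A_full i).2.1]
    refine ⟨hw, mem_centralizer_iff.2 fun a ha => ?_⟩
    have h1 := mem_centralizer_iff.1 hvc a ha
    have h2 := h.AC i a ha c hc
    calc a * w = a * (w * c) * c⁻¹ := by group
      _ = (w * c) * a * c⁻¹ := by rw [h1]
      _ = w * (c * a) * c⁻¹ := by group
      _ = w * (a * c) * c⁻¹ := by rw [h2]
      _ = w * a := by group
  · refine sup_le (fun z hz => ⟨h.ZV i hz, mem_centralizer_iff.2 fun a ha => (h.blk i).cZ a (h.AB i ha) z hz⟩) ?_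
    exact fun c hc => ⟨h.CV i hc, mem_centralizer_iff.2 fun a ha => h.AC i a ha c hc⟩

/-- `|V : C_V(A i)| = q`. -/
theorem card_CVA (h : Fr B Q V ZJ L W Z C A q m) [Finite G] (i : ι) :
    Nat.card V = Nat.card ↥(V ⊓ centralizer (A i : Set G)) * q := by
  have hV : V = W i ⊔ (Z i ⊔ C i) := by
    apply le_antisymm
    · intro v hv
      obtain ⟨w, hw, c, hc, rfl⟩ := h.WC i v hv
      exact mul_mem (mem_sup_left hw) (mem_sup_right (mem_sup_right hc))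
    · exact sup_le (h.WV i) (sup_le (h.ZV i) (h.CV i))
  have hle : Z i ⊔ C i ≤ V := sup_le (h.ZV i) (h.CV i)
  have h1 := card_sup_comm (A := W i) (B := Z i ⊔ C i) fun a ha b hb => h.Vc (h.WV i ha) (hle hb)
  have h2 : W i ⊓ (Z i ⊔ C i) = Z i := by
    apply le_antisymm
    · rintro x ⟨hx, hx'⟩
      obtain ⟨z, hz, c, hc, rfl⟩ := mem_sup_comm (fun a ha b hb => h.Vc (h.ZV i ha) (h.CV i hb)) hx'
      have h3 := h.uniq (i := i) hx ((h.blk i).ZV hz) (one_mem _) hc (by rw [mul_one])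
      rw [h3.1]; exact hz
    · exact fun z hz => ⟨(h.blk i).ZV hz, mem_sup_left hz⟩
  rw [← hV, h2, (h.blk i).card] at h1
  rw [h.CVA i]
  have h3 : 0 < Nat.card (Z i) := Nat.card_pos
  refine Nat.eq_of_mul_eq_mul_right h3 ?_
  rw [h1]; ring

/-- an element centralised by all `A i` lies in `ZJ` -/
theorem mem_ZJ_of (h : Fr B Q V ZJ L W Z C A q m) [Finite G] {v : G} (hv : v ∈ V)
    (hA : ∀ i, ∀ a ∈ A i, a * v = v * a) : v ∈ ZJ := by
  refine (h.mem_ZJ v).2 ⟨hv, fun b hb => ?_⟩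
  have hbV : b * v * b⁻¹ * v⁻¹ ∈ V := by
    refine mul_mem ?_ (inv_mem hv)
    by_cases hι : Nonempty ι
    · obtain ⟨i⟩ := hι
      exact h.LV i b ((h.blk i).BL hb) v hv
    · have : v = 1 := h.C0 v hv fun i => absurd ⟨i⟩ hι
      rw [this]; simp
  have h1 : b * v * b⁻¹ * v⁻¹ = 1 := by
    refine h.C0 _ hbV fun i => ?_
    have h2 : v ∈ V ⊓ centralizer (A i : Set G) := ⟨hv, mem_centralizer_iff.2 fun a ha => hA i a ha⟩
    rw [h.CVA i] at h2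
    obtain ⟨z, hz, c, hc, rfl⟩ := mem_sup_comm (fun a ha b hb => h.Vc (h.ZV i ha) (h.CV i hb)) h2
    have hbz := (h.blk i).cZ b hb z hz
    have hbc := h.BC i b hb c hc
    have hcz : z * c = c * z := h.Vc (h.ZV i hz) (h.CV i hc)
    have e : b * (z * c) * b⁻¹ * (z * c)⁻¹ = (b * z * b⁻¹) * (b * c * b⁻¹) * c⁻¹ * z⁻¹ := by group
    have e1 : b * z * b⁻¹ = z := by rw [hbz]; group
    rw [e, e1]
    have e2 : z * (b * c * b⁻¹) = (b * c * b⁻¹) * z := h.Vc (h.ZV i hz) (h.CV i hbc)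
    have e3 : z * (b * c * b⁻¹) * c⁻¹ * z⁻¹ = b * c * b⁻¹ * c⁻¹ := by
      have e4 : z * c⁻¹ = c⁻¹ * z := h.Vc (h.ZV i hz) (inv_mem (h.CV i hc))
      calc z * (b * c * b⁻¹) * c⁻¹ * z⁻¹ = (b * c * b⁻¹) * (z * c⁻¹) * z⁻¹ := by rw [e2]; group
        _ = b * c * b⁻¹ * c⁻¹ := by rw [e4]; group
    rw [e3]
    exact mul_mem hbc (inv_mem hc)
  exact mul_inv_eq_iff_eq_mul.1 (mul_inv_eq_one.1 h1)

/-- `[v, A i] ≤ Z i` -/
theorem A_comm (h : Fr B Q V ZJ L W Z C A q m) {i : ι} {a : G} (ha : a ∈ A i) {v : G} (hv : v ∈ V) :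
    a * v * a⁻¹ * v⁻¹ ∈ Z i := by
  obtain ⟨w, hw, c, hc, rfl⟩ := h.WC i v hv
  have h1 := h.AC i a ha c hc
  have e : a * (w * c) * a⁻¹ * (w * c)⁻¹ = a * w * a⁻¹ * (a * c * a⁻¹) * c⁻¹ * w⁻¹ := by group
  have e1 : a * c * a⁻¹ = c := by rw [h1]; group
  rw [e, e1]
  have e2 : a * w * a⁻¹ * c * c⁻¹ * w⁻¹ = a * w * a⁻¹ * w⁻¹ := by group
  rw [e2]
  exact (h.blk i).com a (h.AB i ha) w hw

theorem BQ (h : Fr B Q V ZJ L W Z C A q m) (i : ι) {x y : G} (hx : x ∈ L i) (hy : y ∈ Q) : x * y * x⁻¹ ∈ Q :=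
  h.LQ i x hx y hy

theorem cj_Q (h : Fr B Q V ZJ L W Z C A q m) {i : ι} {x : G} (hx : x ∈ L i) : cj x Q = Q := by
  apply le_antisymm
  · rintro _ ⟨v, hv, rfl⟩
    exact h.LQ i x hx v hv
  · intro v hv
    rw [mem_cj]
    have := h.LQ i x⁻¹ (inv_mem hx) v hv
    rwa [inv_inv] at this

theorem cj_V (h : Fr B Q V ZJ L W Z C A q m) {i : ι} {x : G} (hx : x ∈ L i) : cj x V = V := by
  apply le_antisymm
  · rintro _ ⟨v, hv, rfl⟩
    exact h.LV i x hx v hv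
  · intro v hv
    rw [mem_cj]
    have := h.LV i x⁻¹ (inv_mem hx) v hv
    rwa [inv_inv] at this

/-- If `l` moves `Z i`, `w₀ ≠ 1` in `Z i`, then an element of `A i` centralising `w₀^l` centralises `W i`. -/
theorem A_of_comm (h : Fr B Q V ZJ L W Z C A q m) [Finite G] {i : ι} {l : G} (hl : l ∈ L i) (hne : cj l (Z i) ≠ Z i)
    {w₀ : G} (hw : w₀ ∈ Z i) (h1 : w₀ ≠ 1) {a : G} (ha : a ∈ A i) (hc : a * (l * w₀ * l⁻¹) = l * w₀ * l⁻¹ * a) :
    ∀ v ∈ W i, a * v = v * a := by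
  refine (h.blk i).free a (h.AB i ha) _ ((h.blk i).nV l hl w₀ ((h.blk i).ZV hw)) (fun hz => h1 ?_) hc
  have h2 : l * w₀ * l⁻¹ ∈ cj l (Z i) ⊓ Z i := mem_inf.2 ⟨⟨w₀, hw, rfl⟩, hz⟩
  rw [h.tri' hl hne, mem_bot] at h2
  have h3 := congrArg (fun t => l⁻¹ * t * l) h2
  simpa [mul_assoc] using h3

section uni

variable {V' Z' : Subgroup G} {q' : ℕ}

theorem le_Q (h : Fr B Q V ZJ L W Z C A q m) (h' : Md B V' Z' q') (hc : ∀ w ∈ V', ∀ v ∈ V, w * v = v * w) :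
    V' ≤ Q := fun w hw => (h.mem_Q w (h'.VB hw)).2 fun v hv => hc w hw v hv

theorem Z'_le (h : Fr B Q V ZJ L W Z C A q m) (h' : Md B V' Z' q') (hc : ∀ w ∈ V', ∀ v ∈ V, w * v = v * w) :
    Z' ≤ ZJ := by
  intro z hz
  have h1 := h'.cZ
  refine (h.mem_ZJ z).2 ⟨h.zcQ z (h.le_Q h' hc (h'.ZV hz)) (elem_sq h'.el z (h'.ZV hz)) fun y hy => ?_,
    fun b hb => h1 b hb z hz⟩
  exact (h1 y (h.QB hy) z hz).symm

/-- Step 1: `[V', Q] ≤ C i`. -/
theorem comm_C (h : Fr B Q V ZJ L W Z C A q m) [Finite G] (h' : Md B V' Z' q')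
    (hc : ∀ w ∈ V', ∀ v ∈ V, w * v = v * w) (i : ι) : ⁅V', Q⁆ ≤ C i := by
  intro n₀ hn₀
  by_contra hnC
  have hV'Q := h.le_Q h' hc
  have hZ'J := h.Z'_le h' hc
  have hDZ : ⁅V', B⁆ ≤ Z' := h'.comm_le le_rfl
  have hND : ⁅V', Q⁆ ≤ ⁅V', B⁆ := commutator_mono le_rfl h.QB
  have hn₀J : n₀ ∈ ZJ := hZ'J (hDZ (hND hn₀))
  obtain ⟨w₀, hw₀, c₀, hc₀, hc₀J, e₀⟩ := h.split_ZJ i hn₀J
  have hw₀1 : w₀ ≠ 1 := by
    rintro rfl
    rw [one_mul] at e₀
    exact hnC (e₀ ▸ hc₀)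
  obtain ⟨l, hl, hmv⟩ := h.exists_mv i
  have hJ := h.cj_ZJ hl hmv
  have hBL := (h.blk i).BL
  have hAL : ∀ a ∈ A i, a ∈ L i := fun a ha => hBL (h.AB i ha)
  -- the element `y = n₀^l`
  have hy : l * n₀ * l⁻¹ = (l * w₀ * l⁻¹) * c₀ := by
    have h1 := h.LC i l hl c₀ hc₀J hc₀
    calc l * n₀ * l⁻¹ = l * (w₀ * c₀) * l⁻¹ := by rw [e₀]
      _ = (l * w₀ * l⁻¹) * (l * c₀ * l⁻¹) := by group
      _ = (l * w₀ * l⁻¹) * c₀ := by rw [h1]; group
  have hyA : ∀ a ∈ A i, a * (l * n₀ * l⁻¹) = l * n₀ * l⁻¹ * a → ∀ v ∈ W i, a * v = v * a := by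
    intro a ha h1
    refine h.A_of_comm hl hmv hw₀ hw₀1 ha ?_
    have h2 := h.AC i a ha c₀ hc₀
    have h3 : l * w₀ * l⁻¹ = l * n₀ * l⁻¹ * c₀⁻¹ := by rw [hy]; group
    have c1 : Commute a (l * n₀ * l⁻¹) := h1
    have c2 : Commute a c₀ := h2
    rw [h3]
    exact (c1.mul_right c2.inv_right).eq
  set P₁ : Subgroup G := cj l V' with hP₁
  have M₁ := h'.conj l
  have hQ1 : Q ≤ cj l B := by rw [← h.cj_Q hl]; exact cj_mono l h.QB
  have hP₁Q : P₁ ≤ Q := by rw [hP₁, ← h.cj_Q hl]; exact cj_mono l hV'Q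
  -- the conjugates under `A i` commute
  have hcomm : ∀ a ∈ A i, ∀ w ∈ P₁, ∀ w' ∈ cj (a * l) V', w * w' = w' * w := by
    by_contra hcon
    push Not at hcon
    obtain ⟨a, ha, w, hw, w', hw', hww⟩ := hcon
    have hal : a * l ∈ L i := mul_mem (hAL a ha) hl
    set P₂ : Subgroup G := cj (a * l) V' with hP₂
    have M₂ := h'.conj (a * l)
    have hQ2 : Q ≤ cj (a * l) B := by rw [← h.cj_Q hal]; exact cj_mono _ h.QB
    have hP₂Q : P₂ ≤ Q := by rw [hP₂, ← h.cj_Q hal]; exact cj_mono _ hV'Q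
    have hcard : Nat.card P₂ = Nat.card Z' * q' := by rw [hP₂, card_cj, h'.card]
    have hcard1 : Nat.card P₁ = Nat.card Z' * q' := by rw [hP₁, card_cj, h'.card]
    have h1 : q' * Nat.card ↥(P₂ ⊓ centralizer (P₁ : Set G)) ≤ Nat.card P₂ := by
      rw [hcard, mul_comm]
      refine Nat.mul_le_mul_right _ ?_
      rw [← card_cj (a * l) Z']
      refine Subgroup.card_le_of_le ?_
      intro x hx
      obtain ⟨hx1, hx2⟩ := mem_inf.1 hx
      exact M₂.mem_Z (hQ2 (hP₁Q hw)) (fun h1 => hww (h1 w' hw')) hx1 (mem_centralizer_iff.1 hx2 w hw)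
    have h2 : q' * Nat.card ↥(P₁ ⊓ centralizer (P₂ : Set G)) ≤ Nat.card P₁ := by
      rw [hcard1, mul_comm]
      refine Nat.mul_le_mul_right _ ?_
      rw [← card_cj l Z']
      refine Subgroup.card_le_of_le ?_
      intro x hx
      obtain ⟨hx1, hx2⟩ := mem_inf.1 hx
      exact M₁.mem_Z (hQ1 (hP₂Q hw')) (fun h1 => hww (h1 w hw).symm) hx1 (mem_centralizer_iff.1 hx2 w' hw')
    have h3 := M₁.comm_eq (hP₂Q.trans hQ1) h1
    have h4 := M₂.comm_eq (hP₁Q.trans hQ2) h2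
    have h5 : cj l ⁅V', B⁆ = cj (a * l) ⁅V', B⁆ := by
      have e1 : cj l ⁅V', B⁆ = ⁅cj l V', cj l B⁆ := Subgroup.map_commutator _ _ _
      have e2 : cj (a * l) ⁅V', B⁆ = ⁅cj (a * l) V', cj (a * l) B⁆ := Subgroup.map_commutator _ _ _
      rw [e1, e2, ← h3, ← h4]
      exact Subgroup.commutator_comm _ _
    have h6 : a * (l * n₀ * l⁻¹) * a⁻¹ ∈ cj l ZJ := by
      have h7 : a * (l * n₀ * l⁻¹) * a⁻¹ ∈ cj (a * l) ⁅V', B⁆ :=
        ⟨n₀, hND hn₀, by show a * l * n₀ * (a * l)⁻¹ = _; group⟩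
      rw [← h5] at h7
      exact cj_mono l (hDZ.trans hZ'J) h7
    have hyV : l * n₀ * l⁻¹ ∈ V := h.LV i l hl _ (h.ZJV hn₀J)
    have h8 : a * (l * n₀ * l⁻¹) * a⁻¹ * (l * n₀ * l⁻¹)⁻¹ ∈ cj l ZJ ⊓ Z i :=
      mem_inf.2 ⟨mul_mem h6 (inv_mem ⟨n₀, hn₀J, rfl⟩), h.A_comm ha hyV⟩
    rw [hJ, mem_bot] at h8
    have h9 := mul_inv_eq_iff_eq_mul.1 (mul_inv_eq_one.1 h8)
    have haQ : a ∈ Q := h.A_Q ha (hyA a ha h9)
    -- so `P₂ = P₁` is abelian
    have h10 : w' ∈ P₁ := by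
      rw [mem_cj] at hw'
      have h11 : a⁻¹ * w' * a ∈ P₁ := by
        rw [hP₁, mem_cj]
        have e : l⁻¹ * (a⁻¹ * w' * a) * l = (a * l)⁻¹ * w' * (a * l) := by group
        rwa [e]
      have h12 := M₁.BV (hQ1 haQ) h11
      have e : a * (a⁻¹ * w' * a) * a⁻¹ = w' := by group
      rwa [e] at h12
    exact hww (M₁.comm hw h10)
  have hsit : Sit Q V (Z i) (cj l ZJ) (A i) (A i) P₁ (cj l ⁅V', B⁆) m :=
    { max := h.max
      VQ := h.VQ
      Vel := h.el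
      QV := fun x hx v hv => h.cQ hx hv
      LV := fun a ha v hv => h.LV i a (hAL a ha) v hv
      LQ := fun a ha v hv => h.LQ i a (hAL a ha) v hv
      AL := le_rfl
      Ael := h.Ael i
      Acard := h.Am i
      off := by
        have h1 := (h.A_full i).2.2
        rw [h.A_inf_Q i, h.card_CVA i, ← h1]
        exact le_of_eq (by ring)
      cA := fun a ha hv => (h.mem_Q a (h.AB i ha)).2 hv
      comm := fun a ha v hv => h.A_comm ha hv
      Z₁V := h.ZV i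
      ZJV := by
        rw [← h.cj_V hl]
        exact cj_mono l h.ZJV
      Wel := isElementaryAbelian_cj _ h'.el
      WL := by
        intro x hx w hw w' hw'
        refine (hcomm x hx w' hw' (x * w * x⁻¹) ?_).symm
        rw [mem_cj] at hw ⊢
        have e : (x * l)⁻¹ * (x * w * x⁻¹) * (x * l) = l⁻¹ * w * l := by group
        rwa [e]
      WV := by
        intro w hw v hv
        rw [← h.cj_V hl] at hv
        exact comm_cj (hc _ (mem_cj.1 hw) _ (mem_cj.1 hv))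
      ZWJ := cj_mono l (hDZ.trans hZ'J)
      WQ := by
        have e1 : cj l ⁅V', B⁆ = ⁅cj l V', cj l B⁆ := Subgroup.map_commutator _ _ _
        rw [e1]
        exact commutator_mono le_rfl hQ1
      full := by
        intro E hE hEe hEm
        rcases M₁.full h.max (hE.trans hQ1) hEe hEm with h1 | ⟨h1, -, -, h2⟩
        · exact Or.inl h1
        · refine Or.inr ⟨?_, h2⟩
          have e1 : cj l ⁅V', B⁆ = ⁅cj l V', cj l B⁆ := Subgroup.map_commutator _ _ _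
          rw [e1, ← h1] }
  have hfin := hsit.main (l := 1) (one_mem _) (by rw [cj_one]; exact hJ) (l * n₀ * l⁻¹) (by
    rw [cj_one]
    have e1 : cj l ⁅V', Q⁆ = ⁅cj l V', cj l Q⁆ := Subgroup.map_commutator _ _ _
    rw [h.cj_Q hl] at e1
    rw [hP₁, ← e1]
    exact ⟨n₀, hn₀, rfl⟩)
  refine h.Ane i fun a ha => hyA a ha ?_
  exact mul_inv_eq_iff_eq_mul.1 (hfin a ha)

/-- Step 2: `V' ≤ V`. -/
theorem le_V (h : Fr B Q V ZJ L W Z C A q m) [Finite G] (h' : Md B V' Z' q')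
    (hc : ∀ w ∈ V', ∀ v ∈ V, w * v = v * w) : V' ≤ V := by
  have hV'Q := h.le_Q h' hc
  have hZ'J := h.Z'_le h' hc
  have hN : ∀ n ∈ ⁅V', Q⁆, n = 1 := fun n hn =>
    h.C0 n (h.ZJV (hZ'J (h'.comm_le h.QB hn))) fun i => h.comm_C h' hc i hn
  intro v hv
  refine h.zcQ v (hV'Q hv) (elem_sq h'.el v hv) fun y hy => ?_
  have h1 := hN _ (commutator_mem_commutator hv hy)
  rwa [commutatorElement_eq_one_iff_mul_comm] at h1

/-- Step 3. -/
theorem of_nontrivial (h : Fr B Q V ZJ L W Z C A q m) [Finite G] (h' : Md B V' Z' q') (hV : V' ≤ V) {i : ι}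
    (hi : ¬ ∀ a ∈ A i, ∀ v ∈ V', a * v = v * a) : q' = q ∧ ⁅V', B⁆ = Z i := by
  rcases h'.full h.max (h.AB i) (h.Ael i) (h.Am i) with h1 | ⟨h1, h2, h3, -⟩
  · exact absurd h1 hi
  obtain ⟨b, hb, v₀, hv₀, hbv⟩ := h'.ne
  have hv₀Z : v₀ ∉ Z' := fun hz => hbv (h'.cZ b hb v₀ hz)
  obtain ⟨f1, f2, f3⟩ := h.A_full i
  -- `q' ≤ q`
  have hle : q' ≤ q := by
    set K := V ⊓ centralizer (A i : Set G) with hK
    have h4 := card_sup_comm (A := V') (B := K) fun a ha b hb => h.Vc (hV ha) (mem_inf.1 hb).1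
    have h5 : V' ⊓ K = Z' := by
      rw [← h2]
      apply le_antisymm
      · intro x hx
        exact mem_inf.2 ⟨(mem_inf.1 hx).1, (mem_inf.1 (mem_inf.1 hx).2).2⟩
      · intro x hx
        exact mem_inf.2 ⟨(mem_inf.1 hx).1, mem_inf.2 ⟨hV (mem_inf.1 hx).1, (mem_inf.1 hx).2⟩⟩
    rw [h5, h'.card] at h4
    have h6 : Nat.card ↥(V' ⊔ K) ≤ Nat.card V := Subgroup.card_le_of_le (sup_le hV inf_le_left)
    rw [h.card_CVA i] at h6
    have hp : 0 < Nat.card Z' * Nat.card K := Nat.mul_pos Nat.card_pos Nat.card_pos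
    refine Nat.le_of_mul_le_mul_right ?_ hp
    calc q' * (Nat.card Z' * Nat.card K) = Nat.card Z' * q' * Nat.card K := by ring
      _ = Nat.card ↥(V' ⊔ K) * Nat.card Z' := h4.symm
      _ ≤ Nat.card K * q * Nat.card Z' := Nat.mul_le_mul_right _ h6
      _ = _ := by ring
  -- `q ≤ q'`
  have hA : A i ⊓ centralizer (V' : Set G) ≤ A i ⊓ centralizer (W i : Set G) := by
    intro a ha
    obtain ⟨ha1, ha2⟩ := mem_inf.1 ha
    refine mem_inf.2 ⟨ha1, mem_centralizer_iff.2 fun u hu => ?_⟩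
    obtain ⟨w, hw, c, hc, e⟩ := h.WC i v₀ (hV hv₀)
    have hwZ : w ∉ Z i := by
      intro hwZ
      apply hv₀Z
      rw [← h2, mem_inf, mem_centralizer_iff]
      refine ⟨hv₀, fun x hx => ?_⟩
      have c1 : Commute x w := (h.blk i).cZ x (h.AB i hx) w hwZ
      have c2 : Commute x c := h.AC i x hx c hc
      rw [e]
      exact (c1.mul_right c2).eq
    have c1 : Commute a v₀ := (mem_centralizer_iff.1 ha2 v₀ hv₀).symm
    have c2 : Commute a c := h.AC i a ha1 c hc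
    have c3 : Commute a w := by
      have : w = v₀ * c⁻¹ := by rw [e]; group
      rw [this]
      exact c1.mul_right c2.inv_right
    exact ((h.blk i).free a (h.AB i ha1) w hw hwZ c3.eq u hu).symm
  have hge : q ≤ q' := by
    have h4 := Subgroup.card_le_of_le hA
    have hp : 0 < Nat.card ↥(A i ⊓ centralizer (W i : Set G)) := Nat.card_pos
    refine Nat.le_of_mul_le_mul_right ?_ hp
    rw [f3, ← h3]
    exact Nat.mul_le_mul_left _ h4
  have hq : q' = q := le_antisymm hle hge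
  refine ⟨hq, ?_⟩
  have h4 : ⁅V', B⁆ ≤ Z i := by
    rw [← h1, Subgroup.commutator_le]
    intro v hv a ha
    have h5 := h.A_comm ha (hV hv)
    have e : ⁅v, a⁆ = (a * v * a⁻¹ * v⁻¹)⁻¹ := by rw [commutatorElement_def]; group
    rw [e]
    exact inv_mem h5
  refine Subgroup.eq_of_le_of_card_ge h4 ?_
  obtain ⟨R, hR1, hR2, hR3, hR4⟩ := h'.relIndex_comm (h.AB i) hv₀ hv₀Z
  have h5 : R ≤ ⁅V', B⁆ := by
    intro r hr
    obtain ⟨x, hx, rfl⟩ := hR2 r hr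
    have h6 := commutator_mem_commutator hv₀ (h.AB i hx)
    have e : x * v₀ * x⁻¹ * v₀⁻¹ = ⁅v₀, x⁆⁻¹ := by rw [commutatorElement_def]; group
    rw [e]
    exact inv_mem h6
  refine le_trans ?_ (Subgroup.card_le_of_le h5)
  rw [h.cardZ i, ← hq]
  rw [← hR4] at h3
  exact le_of_eq (Nat.eq_of_mul_eq_mul_right Nat.card_pos h3)

/-- **UNI'** (helper609 #14539 (3), helper938 #15330). -/
theorem uni (h : Fr B Q V ZJ L W Z C A q m) [Finite G] (h' : Md B V' Z' q')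
    (hc : ∀ w ∈ V', ∀ v ∈ V, w * v = v * w) : q' = q ∧ ∃ i, ⁅V', B⁆ = Z i ∧ V' ≤ W i ⊔ ZJ := by
  have hV := h.le_V h' hc
  obtain ⟨b, hb, v₀, hv₀, hbv⟩ := h'.ne
  have hex : ∃ i, ¬ ∀ a ∈ A i, ∀ v ∈ V', a * v = v * a := by
    by_contra hcon
    push Not at hcon
    have h1 := h.mem_ZJ_of (hV hv₀) fun i a ha => hcon i a ha v₀ hv₀
    exact hbv (((h.mem_ZJ v₀).1 h1).2 b hb)
  obtain ⟨i, hi⟩ := hex
  obtain ⟨hq, hZ⟩ := h.of_nontrivial h' hV hi
  refine ⟨hq, i, hZ, fun v hv => ?_⟩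
  obtain ⟨w, hw, c, hc', e⟩ := h.WC i v (hV hv)
  have hcJ : c ∈ ZJ := by
    refine h.mem_ZJ_of (h.CV i hc') fun j a ha => ?_
    by_cases hji : j = i
    · subst hji
      exact h.AC j a ha c hc'
    have h1 : ∀ a ∈ A j, ∀ v ∈ V', a * v = v * a := by
      by_contra hj
      obtain ⟨-, hZj⟩ := h.of_nontrivial h' hV hj
      have h2 : Z i ≤ W i ⊓ C i := by
        refine le_inf (h.blk i).ZV ?_
        rw [← hZ, hZj]
        exact (h.blk j).ZV.trans (h.WjC i j (Ne.symm hji))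
      rw [h.dir i, le_bot_iff] at h2
      have h3 := h.cardZ i
      rw [h2, Subgroup.card_bot] at h3
      have h4 := (h.blk i).one
      omega
    have c1 : Commute a v := h1 a ha v hv
    have c2 : Commute a w := h.AC j a ha w (h.WjC j i hji hw)
    have : c = w⁻¹ * v := by rw [e]; group
    rw [this]
    exact (c2.inv_right.mul_right c1).eq
  rw [e]
  exact mul_mem (mem_sup_left hw) (mem_sup_right hcJ)

end uni

/-! ### (U1) -/

theorem V_eq (h : Fr B Q V ZJ L W Z C A q m) [Finite ι] : V = ⨆ i, W i := by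
  classical
  have := Fintype.ofFinite ι
  refine le_antisymm (fun v hv => ?_) (iSup_le h.WV)
  have key : ∀ s : Finset ι, ∃ u ∈ ⨆ i, W i, ∀ i ∈ s, u⁻¹ * v ∈ C i := by
    intro s
    induction s using Finset.induction_on with
    | empty => exact ⟨1, one_mem _, by simp⟩
    | insert i s hi ih =>
      obtain ⟨u, hu, h1⟩ := ih
      have huV : u ∈ V := (iSup_le h.WV : (⨆ i, W i) ≤ V) hu
      obtain ⟨w, hw, c, hc, e⟩ := h.WC i (u⁻¹ * v) (mul_mem (inv_mem huV) hv)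
      refine ⟨u * w, mul_mem hu (mem_iSup_of_mem i hw), fun j hj => ?_⟩
      have e1 : (u * w)⁻¹ * v = w⁻¹ * (u⁻¹ * v) := by group
      rw [e1]
      rcases Finset.mem_insert.1 hj with rfl | hj
      · rw [e]
        have : w⁻¹ * (w * c) = c := by group
        rwa [this]
      · have hji : j ≠ i := fun h => hi (h ▸ hj)
        exact mul_mem (inv_mem (h.WjC j i hji hw)) (h1 j hj)
  obtain ⟨u, hu, h1⟩ := key Finset.univ
  have huV : u ∈ V := (iSup_le h.WV : (⨆ i, W i) ≤ V) hu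
  have h2 := h.C0 (u⁻¹ * v) (mul_mem (inv_mem huV) hv) fun i => h1 i (Finset.mem_univ i)
  have h3 : v = u := (inv_mul_eq_one.1 h2).symm
  rw [h3]; exact hu

theorem comm_W (h : Fr B Q V ZJ L W Z C A q m) [Finite G] (i : ι) : ⁅W i, B⁆ = Z i :=
  (h.of_nontrivial (h.blk i).toMd (h.WV i) (h.Ane i)).2

/-- **(U1)**: an element normalising `B` such that `V^g` commutes with `V` normalises `V` and permutes the `Z i`. -/
theorem norm_of (h : Fr B Q V ZJ L W Z C A q m) [Finite G] [Finite ι] {g : G} (hg : g ∈ normalizer (B : Set G))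
    (hc : ∀ w ∈ cj g V, ∀ v ∈ V, w * v = v * w) : cj g V = V ∧ ∀ i, ∃ j, cj g (Z i) = Z j ∧ cj g (W i) ≤ W j ⊔ ZJ := by
  have hgB := cj_eq_of_mem_normalizer hg
  have key : ∀ i, ∃ j, cj g (Z i) = Z j ∧ cj g (W i) ≤ W j ⊔ ZJ := by
    intro i
    have M := (h.blk i).toMd.conj g
    rw [hgB] at M
    obtain ⟨-, j, h1, h2⟩ := h.uni M fun w hw v hv => hc w (cj_mono g (h.WV i) hw) v hv
    refine ⟨j, ?_, h2⟩
    have e1 : cj g ⁅W i, B⁆ = ⁅cj g (W i), cj g B⁆ := Subgroup.map_commutator _ _ _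
    rw [← h1, ← h.comm_W i, e1, hgB]
  refine ⟨?_, key⟩
  have h1 : cj g V ≤ V := by
    conv_lhs => rw [h.V_eq]
    have e1 : cj g (⨆ i, W i) = ⨆ i, cj g (W i) := Subgroup.map_iSup _ _
    rw [e1]
    refine iSup_le fun i => ?_
    obtain ⟨j, -, h2⟩ := key i
    exact h2.trans (sup_le (h.WV j) h.ZJV)
  exact Subgroup.eq_of_le_of_card_ge h1 (by rw [card_cj])

end Fr

end Cfsg.Agent.Omega.OM.Uni
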